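import Groth.Agent.InvBasic.Basic
import Groth.Agent.InvBasic.OfBasis
import Groth.Prelude.Def_RefHull

/-!
# The dual of an invertible module is invertible
-/

set_option autoImplicit false
set_option maxHeartbeats 800000
universe u
open CategoryTheory CategoryTheory.Limits AlgebraicGeometry Opposite TopologicalSpace

set_option backward.isDefEq.respectTransparency false

namespace Groth.Agent.InvPow

open InvBasic

variable {X : Scheme.{u}} {L : X.Modules}

/-- The section `1` of the structure module. -/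
noncomputable abbrev oneSec (X : Scheme.{u}) (U : X.Opens) : Γ(Coh.structureModule X, U) := (1 : Γ(X, U))

theorem res_oneSec {U W : X.Opens} (h : W ≤ U) :
    (Coh.structureModule X).presheaf.map (homOfLE h).op (oneSec X U) = oneSec X W :=
  map_one (X.presheaf.map (homOfLE h).op).hom

theorem smul_oneSec {W : X.Opens} (r : Γ(X, W)) :
    r • oneSec X W = (show Γ(Coh.structureModule X, W) from r) := mul_one r

theorem isBasis_oneSec (U : X.Opens) : IsBasis (Coh.structureModule X) (oneSec X U) := fun W hW => by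
  simp only [res_oneSec, smul_oneSec]
  exact Function.bijective_id

/-- A basis of `L` gives a basis of its dual. -/
theorem exists_isBasis_dual {U : X.Opens} {ℓ : Γ(L, U)} (hℓ : IsBasis L ℓ) :
    ∃ θ : Γ(RefHull.dual L, U), IsBasis (RefHull.dual L) θ ∧ ∀ x : U,
      θ.1 x (L.presheaf.germ U x.1 x.2 ℓ) = (Coh.structureModule X).presheaf.germ U x.1 x.2 (oneSec X U) := by
  let e₁ : ∀ (x : X), x ∈ U → (Coh.structureModule X).presheaf.stalk x := fun x hx =>
    (Coh.structureModule X).presheaf.germ U x hx (oneSec X U)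
  let θf : ∀ x : U, RefHull.StalkHom L (Coh.structureModule X) x.1 := fun x =>
    (LinearMap.toSpanSingleton (X.presheaf.stalk x.1) _ (e₁ x.1 x.2)).comp
      (LinearEquiv.ofBijective (LinearMap.toSpanSingleton (X.presheaf.stalk x.1) (L.presheaf.stalk x.1)
        (L.presheaf.germ U x.1 x.2 ℓ)) (hℓ.stalk_bijective x.2)).symm.toLinearMap
  have hθ : ∀ (x : U) (c : X.presheaf.stalk x.1), θf x (c • L.presheaf.germ U x.1 x.2 ℓ) = c • e₁ x.1 x.2 := by
    intro x c
    change LinearMap.toSpanSingleton _ _ _ (LinearEquiv.symm _ _) = _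
    rw [show c • L.presheaf.germ U x.1 x.2 ℓ = LinearEquiv.ofBijective (LinearMap.toSpanSingleton
      (X.presheaf.stalk x.1) (L.presheaf.stalk x.1) (L.presheaf.germ U x.1 x.2 ℓ)) (hℓ.stalk_bijective x.2) c from rfl,
      LinearEquiv.symm_apply_apply]
    rfl
  have hmem : RefHull.IsLocSect L (Coh.structureModule X) θf := by
    intro V i m x
    obtain ⟨r, hr⟩ := (hℓ V i.le).2 m
    refine ⟨V, x.2, 𝟙 V, r • oneSec X V, fun y => ?_⟩
    dsimp only at hr
    rw [← hr, InvBasic.germ_smul, TopCat.Presheaf.germ_res_apply, hθ, InvBasic.germ_smul, ← res_oneSec i.le,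
      TopCat.Presheaf.germ_res_apply]
  refine ⟨⟨θf, hmem⟩, fun W hW => ?_, fun x => ?_⟩
  swap
  · have h1 := hθ x 1
    rw [one_smul, one_smul] at h1
    exact h1
  have hev : ∀ (r : Γ(X, W)) (y : W),
      (show Γ(RefHull.dual L, W) from r • (RefHull.dual L).presheaf.map (homOfLE hW).op
        (⟨θf, hmem⟩ : Γ(RefHull.dual L, U))).1 y = X.presheaf.germ W y.1 y.2 r • θf ⟨y.1, hW y.2⟩ := fun r y => rfl
  constructor
  · intro r r' h
    refine TopCat.Presheaf.section_ext X.sheaf W r r' fun x hx => ?_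
    have h2 := congrArg (fun g : Γ(RefHull.dual L, W) =>
      g.1 ⟨x, hx⟩ ((1 : X.presheaf.stalk x) • L.presheaf.germ U x (hW hx) ℓ)) h
    dsimp only at h2
    rw [hev, hev, LinearMap.smul_apply, LinearMap.smul_apply, hθ ⟨x, hW hx⟩, one_smul] at h2
    exact ((isBasis_oneSec (X := X) U).stalk_bijective (hW hx)).1 h2
  · intro g
    have hex : ∀ x : W, ∃ (W' : X.Opens) (_ : x.1 ∈ W') (j : W' ⟶ W)
        (n : Γ(Coh.structureModule X, W')), ∀ y : W', g.1 ⟨y.1, j.le y.2⟩
          (L.presheaf.germ W y.1 (j.le y.2) (L.presheaf.map (homOfLE hW).op ℓ)) =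
          (Coh.structureModule X).presheaf.germ W' y.1 y.2 n := fun x =>
      RefHull.isLocSect_of_mem g W (𝟙 W) (L.presheaf.map (homOfLE hW).op ℓ) x
    choose W' hxW' hW' n hn using hex
    obtain ⟨r, hr, -⟩ := TopCat.Sheaf.existsUnique_gluing'
      ⟨(Coh.structureModule X).presheaf, (Coh.structureModule X).isSheaf⟩ W' W (fun x => hW' x)
      (fun x hx => Opens.mem_iSup.2 ⟨⟨x, hx⟩, hxW' _⟩) n fun a b => by
        refine QCohLib.section_ext _ _ fun y hy => ?_
        refine ((TopCat.Presheaf.germ_res_apply _ _ y hy _).trans ?_).trans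
          (TopCat.Presheaf.germ_res_apply _ _ y hy _).symm
        exact (hn a ⟨y, hy.1⟩).symm.trans (hn b ⟨y, hy.2⟩)
    refine ⟨r, Subtype.ext (funext fun y => LinearMap.ext fun v => ?_)⟩
    obtain ⟨c, rfl⟩ := (hℓ.stalk_bijective (hW y.2)).2 v
    refine (congrArg (fun φ : RefHull.StalkHom L (Coh.structureModule X) y.1 => φ _) (hev r y)).trans ?_
    dsimp only
    rw [LinearMap.smul_apply, hθ ⟨y.1, hW y.2⟩, map_smul, smul_comm]
    congr 1
    have e1 := hn y ⟨y.1, hxW' y⟩
    rw [TopCat.Presheaf.germ_res_apply] at e1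
    refine Eq.trans ?_ e1.symm
    rw [← hr y]
    refine Eq.trans ?_ (TopCat.Presheaf.germ_res_apply _ _ _ _ _).symm
    show X.presheaf.germ W y.1 y.2 r • (Coh.structureModule X).presheaf.germ U y.1 (hW y.2) (oneSec X U) = _
    rw [← TopCat.Presheaf.germ_res_apply (Coh.structureModule X).presheaf (homOfLE hW) y.1 y.2 (oneSec X U),
      res_oneSec, ← InvBasic.germ_smul]
    exact congrArg _ (mul_one (show Γ(X, W) from r))

/-- The dual of an invertible module is invertible. -/
theorem isInvertible_dual (hL : PicF.IsInvertible L) : PicF.IsInvertible (RefHull.dual L) :=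
  isInvertible_of_isBasis fun x => by
    obtain ⟨U, hx, ℓ, hℓ⟩ := exists_isBasis hL x
    obtain ⟨θ, hθ, -⟩ := exists_isBasis_dual hℓ
    exact ⟨U, hx, θ, hθ⟩

end Groth.Agent.InvPow
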