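import Groth.Agent.InvPow.Basic
import Groth.Agent.ProjTwist.LocTriv
import Groth.Agent.QCohLib.StalkRestrict
import Groth.Agent.ProjUniv.PullBasis

/-!
# The inverse image of a local basis is a local basis
-/

set_option autoImplicit false
set_option synthInstance.maxHeartbeats 400000
set_option maxHeartbeats 800000
universe u
open CategoryTheory CategoryTheory.Limits AlgebraicGeometry Opposite TopologicalSpace

namespace Groth.Agent.InvPow

open InvBasic ProjUniv

variable {X Y : Scheme.{u}}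

/-- A section spanning every stalk of an invertible module over `V` is a basis on `V`. -/
theorem isBasis_of_stalk_span {P : X.Modules} (hP : PicF.IsInvertible P) {V : X.Opens} {σ : Γ(P, V)}
    (h : ∀ (x : X) (hx : x ∈ V) (y : P.presheaf.stalk x), ∃ c : X.presheaf.stalk x,
      c • P.presheaf.germ V x hx σ = y) :
    IsBasis P σ := by
  refine isBasis_of_cover fun x hx => ?_
  obtain ⟨U, hxU, ℓ, hℓ⟩ := exists_isBasis hP x
  refine ⟨V ⊓ U, inf_le_left, ⟨hx, hxU⟩, ?_⟩
  obtain ⟨c, hc⟩ := exists_coef (isBasis_res hℓ (inf_le_right : V ⊓ U ≤ U)) (res P (inf_le_left : V ⊓ U ≤ V) σ)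
  have hu : IsUnit c := X.toRingedSpace.isUnit_of_isUnit_germ _ c fun y hy => by
    obtain ⟨d, hd⟩ := h y hy.1 (P.presheaf.germ U y hy.2 ℓ)
    refine isUnit_iff_exists_inv.mpr ⟨d, (hℓ.stalk_bijective hy.2).1 ?_⟩
    have e1 : P.presheaf.germ V y hy.1 σ = P.presheaf.germ (V ⊓ U) y hy (res P inf_le_left σ) :=
      (TopCat.Presheaf.germ_res_apply P.presheaf (homOfLE (inf_le_left : V ⊓ U ≤ V)) y hy σ).symm
    rw [e1, hc, InvBasic.germ_smul, TopCat.Presheaf.germ_res_apply, smul_smul] at hd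
    dsimp only
    rw [one_smul, mul_comm]
    exact hd
  intro W hW
  have e : (fun r : Γ(X, W) => r • (P.presheaf.map (homOfLE hW).op (res P (inf_le_left : V ⊓ U ≤ V) σ) : Γ(P, W))) =
      (fun r => r • res P hW (res P (inf_le_right : V ⊓ U ≤ U) ℓ)) ∘ fun r => r * resR hW c := by
    funext r
    show r • res P hW _ = _
    rw [hc, res_smul, smul_smul]
    rfl
  rw [e]
  exact (isBasis_res hℓ _ W hW).comp (hu.map (X.presheaf.map (homOfLE hW).op).hom).unit.mulRight.bijective

/-- The inverse image of a local section. -/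
noncomputable def pullLoc (r : X ⟶ Y) (M : Y.Modules) {U : Y.Opens} (t : Γ(M, U)) :
    Γ((Scheme.Modules.pullback r).obj M, r ⁻¹ᵁ U) :=
  ((Scheme.Modules.pullbackPushforwardAdjunction r).unit.app M).app U t

theorem res_pullLoc (r : X ⟶ Y) (M : Y.Modules) {U U' : Y.Opens} (h : U' ≤ U) (t : Γ(M, U)) :
    res ((Scheme.Modules.pullback r).obj M) (show r ⁻¹ᵁ U' ≤ r ⁻¹ᵁ U from fun _ hy => h hy) (pullLoc r M t) =
      pullLoc r M (res M h t) :=
  (QCohLib.app_map ((Scheme.Modules.pullbackPushforwardAdjunction r).unit.app M) h t).symm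

theorem pullLoc_smul (r : X ⟶ Y) (M : Y.Modules) {U : Y.Opens} (c : Γ(Y, U)) (t : Γ(M, U)) :
    pullLoc r M (c • t) = (r.app U c : Γ(X, r ⁻¹ᵁ U)) • pullLoc r M t :=
  Scheme.Modules.Hom.app_smul _ _ _

/-- The inverse image of a local basis is a local basis. -/
theorem isBasis_pullLoc (r : X ⟶ Y) {M : Y.Modules} (hM : PicF.IsInvertible M) {U : Y.Opens} {ℓ : Γ(M, U)}
    (hℓ : IsBasis M ℓ) : IsBasis ((Scheme.Modules.pullback r).obj M) (pullLoc r M ℓ) := by
  let P := (Scheme.Modules.pullback r).obj M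
  let V : X.Opens := r ⁻¹ᵁ U
  let σ : Γ(P, V) := pullLoc r M ℓ
  let q := ProjTwist.sectionHom P V σ
  let π := cokernel.π q
  let h : P ⟶ (Scheme.Modules.pushforward V.ι).obj (cokernel q) :=
    (Scheme.Modules.restrictAdjunction V.ι).homEquiv P _ π
  have hz : ∀ (V' : (V : Scheme.{u}).Opens) (c : Γ((V : Scheme.{u}), V')),
      π.app V' (q.app V' c) = 0 := fun V' c =>
    ConcreteCategory.congr_hom (congrArg (fun f : Coh.structureModule (V : Scheme.{u}) ⟶ cokernel q =>
      Scheme.Modules.Hom.app f V') (cokernel.condition q)) c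
  have happ : ∀ (W : X.Opens) (z : Γ(P, W)),
      h.app W z = π.app (V.ι ⁻¹ᵁ W) (res P (V.ι.image_preimage_le W) z) := fun W z => by
    simp only [h, Adjunction.homEquiv_unit]
    rfl
  have hh : h = 0 := by
    apply ((Scheme.Modules.pullbackPushforwardAdjunction r).homEquiv M _).injective
    rw [Adjunction.homEquiv_unit, Adjunction.homEquiv_unit]
    refine Scheme.Modules.hom_ext _ _ fun W => ?_
    ext t
    show h.app (r ⁻¹ᵁ W) (pullLoc r M t) = 0
    rw [happ]
    let V' : (V : Scheme.{u}).Opens := V.ι ⁻¹ᵁ (r ⁻¹ᵁ W)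
    have hle : V.ι ''ᵁ V' ≤ r ⁻¹ᵁ (W ⊓ U) := by
      rw [Scheme.Hom.image_preimage_eq_opensRange_inf, Scheme.Opens.opensRange_ι]
      exact fun y hy => ⟨hy.2, hy.1⟩
    obtain ⟨c, hc⟩ := exists_coef (isBasis_res hℓ (inf_le_right : W ⊓ U ≤ U)) (res M (inf_le_left : W ⊓ U ≤ W) t)
    have hle2 : r ⁻¹ᵁ (W ⊓ U) ≤ r ⁻¹ᵁ W := fun y hy => hy.1
    have e : res P (V.ι.image_preimage_le (r ⁻¹ᵁ W)) (pullLoc r M t) =
        resR hle (r.app (W ⊓ U) c) • res P (V.ι_image_le V') σ := by
      refine (res_res P hle2 hle (pullLoc r M t)).symm.trans ?_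
      show res P hle (res P hle2 (pullLoc r M t)) = _
      rw [res_pullLoc r M inf_le_left, hc, pullLoc_smul, res_smul, ← res_pullLoc r M inf_le_right, res_res]
    refine (congrArg (π.app V') e).trans ?_
    have e' : resR hle (r.app (W ⊓ U) c) • res P (V.ι_image_le V') σ =
        q.app V' ((V.ι.appIso V').hom (resR hle (r.app (W ⊓ U) c))) := by
      refine Eq.symm ((ProjTwist.sectionHom_app P V σ V' _).trans ?_)
      exact congrArg (· • res P (V.ι_image_le V') σ)
        (ConcreteCategory.congr_hom (V.ι.appIso V').hom_inv_id (resR hle (r.app (W ⊓ U) c)))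
    exact (congrArg (π.app V') e').trans (hz V' _)
  have hπ : π = 0 := by
    apply ((Scheme.Modules.restrictAdjunction V.ι).homEquiv P _).injective
    refine hh.trans ?_
    rw [Adjunction.homEquiv_unit]
    simp
  have hepi : Epi q := Preadditive.epi_of_cokernel_zero hπ
  refine isBasis_of_stalk_span (isInvertible_pullback r hM) fun x hx y => ?_
  obtain ⟨y', hy'⟩ := (QCohLib.restrictStalkIso_bijective V.ι P ⟨x, hx⟩).2 y
  obtain ⟨z, hz'⟩ := (QCohLib.epi_iff_stalk_surjective q).mp hepi ⟨x, hx⟩ y'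
  obtain ⟨V', hxV', c, rfl⟩ := TopCat.Presheaf.exists_germ_eq _ z
  rw [QCohLib.stalkHom_germ] at hz'
  have hxW : x ∈ V.ι ''ᵁ V' := ⟨⟨x, hx⟩, hxV', rfl⟩
  refine ⟨X.presheaf.germ (V.ι ''ᵁ V') x hxW ((V.ι.appIso V').inv c), ?_⟩
  rw [← hy', ← hz']
  refine Eq.trans ?_ (ConcreteCategory.congr_hom (Scheme.Modules.germ_restrictStalkNatIso_hom_app V.ι ⟨x, hx⟩ P hxV') (q.app V' c)).symm
  change _ = P.presheaf.germ (V.ι ''ᵁ V') x hxW
    ((V.ι.appIso V').inv c • res P (V.ι_image_le V') σ)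
  rw [InvBasic.germ_smul]
  exact congrArg (_ • ·) (TopCat.Presheaf.germ_res_apply P.presheaf (homOfLE (V.ι_image_le V')) x hxW σ).symm

end Groth.Agent.InvPow
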