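import Groth.Agent.InvPow.Basic
import Mathlib.AlgebraicGeometry.Morphisms.Affine
import Mathlib.AlgebraicGeometry.Morphisms.QuasiCompact

/-!
# Extending sections after twisting by powers
-/

set_option autoImplicit false
set_option synthInstance.maxHeartbeats 400000
universe u
open CategoryTheory CategoryTheory.Limits AlgebraicGeometry Opposite TopologicalSpace

namespace Groth.Agent.InvPow

open InvBasic ProjUniv

variable {X : Scheme.{u}} {L : X.Modules}

theorem exists_finite_affine_trivialisation [CompactSpace X] (hL : PicF.IsInvertible L) :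
    ∃ (ι : Type u) (_ : Finite ι) (V : ι → X.Opens) (ℓ : ∀ i, Γ(L, V i)),
      (∀ i, IsAffineOpen (V i)) ∧ (∀ i, IsBasis L (ℓ i)) ∧ ∀ x, ∃ i, x ∈ V i := by
  choose V hVaff hxV ℓ hℓ using fun x : X => show ∃ (V : X.Opens) (_ : IsAffineOpen V) (_ : x ∈ V)
      (ℓ : Γ(L, V)), IsBasis L ℓ by
    obtain ⟨U, hxU, ℓ, hℓ⟩ := exists_isBasis hL x
    obtain ⟨V, hV, hxV, hVU⟩ := exists_isAffineOpen_mem_and_subset hxU
    exact ⟨V, hV, hxV, _, isBasis_res hℓ (V := V) hVU⟩
  obtain ⟨F, hF⟩ := isCompact_univ.elim_finite_subcover (fun x => (V x : Set X)) (fun x => (V x).2)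
    (fun x _ => Set.mem_iUnion.mpr ⟨x, hxV x⟩)
  refine ⟨(↑F : Set X), inferInstance, fun i => V i.1, fun i => ℓ i.1, fun i => hVaff _, fun i => hℓ _, fun x => ?_⟩
  obtain ⟨i, hi, hxi⟩ := Set.mem_iUnion₂.mp (hF (Set.mem_univ x))
  exact ⟨⟨i, hi⟩, hxi⟩

/-- A section over the non-vanishing locus of `t` extends after multiplying by large powers of `t`, with
vanishing outside. -/
theorem exists_extend [CompactSpace X] [X.IsSeparated] (hL : PicF.IsInvertible L) {N r : ℕ}
    (t : Γ(CohB1.tensorPow L N, ⊤)) (U : X.Opens) (hU : genOpen (isInvertible_tensorPow hL N) t = U)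
    (v : Γ(CohB1.tensorPow L r, U)) :
    ∃ E : ℕ, ∀ e, E ≤ e → ∃ w : Γ(CohB1.tensorPow L (r + N * e), ⊤),
      genOpen (isInvertible_tensorPow hL _) w ≤ U ∧
      ∀ (W : X.Opens) (hW : W ≤ U) (ℓ : Γ(L, W)), IsBasis L ℓ → ∀ c d : Γ(X, W),
        res (CohB1.tensorPow L r) hW v = c • pw L ℓ r → gres (CohB1.tensorPow L N) t W = d • pw L ℓ N →
        gres (CohB1.tensorPow L (r + N * e)) w W = (c * d ^ e) • pw L ℓ (r + N * e) := by
  obtain ⟨ι, _, V, ℓ, hVaff, hℓ, hcov⟩ := exists_finite_affine_trivialisation hL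
  cases nonempty_fintype ι
  choose f hf using fun i => exists_coef (isBasis_pw (hℓ i) N) (gres (CohB1.tensorPow L N) t (V i))
  have hD : ∀ i, U ⊓ V i = X.basicOpen (f i) := fun i =>
    hU ▸ genOpen_inf_eq_basicOpen (isInvertible_tensorPow hL N) (isBasis_pw (hℓ i) N) (hf i)
  choose c hc using fun i => exists_coef (isBasis_pw (isBasis_res (hℓ i) (inf_le_right : U ⊓ V i ≤ V i)) r)
    (res (CohB1.tensorPow L r) (inf_le_left : U ⊓ V i ≤ U) v)
  -- extend each coefficient
  have hloc : ∀ i, ∃ m, ∀ k, m ≤ k → ∃ a : Γ(X, V i),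
      resR (inf_le_right : U ⊓ V i ≤ V i) a = resR (inf_le_right : U ⊓ V i ≤ V i) (f i) ^ k * c i := by
    intro i
    have hle : X.basicOpen (f i) ≤ U ⊓ V i := (hD i).ge
    letI := (hVaff i).isLocalization_basicOpen (f i)
    obtain ⟨⟨a, ⟨_, m, rfl⟩⟩, ha⟩ := IsLocalization.surj (Submonoid.powers (f i)) (resR hle (c i))
    refine ⟨m, fun k hk => ⟨f i ^ (k - m) * a, ?_⟩⟩
    have hinj : Function.Injective (resR hle) := (ConcreteCategory.bijective_of_isIso
      (X.presheaf.map (eqToHom (le_antisymm hle (hD i).le)).op)).1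
    refine hinj ?_
    rw [resR_mul, resR_mul, resR_mul, resR_pow, resR_pow, resR_resR, resR_resR]
    change _ * algebraMap _ Γ(X, X.basicOpen (f i)) a = _
    rw [← ha, ← resR_pow]
    change _ * (resR hle (c i) * resR _ (f i ^ m)) = _
    rw [resR_pow, ← Nat.sub_add_cancel hk, pow_add]
    simp only [Nat.add_sub_cancel, resR_mul, resR_pow, resR_resR]
    ring
  choose m hm using hloc
  let E₀ := Finset.univ.sup m
  choose a ha using fun i => hm i E₀ (Finset.le_sup (Finset.mem_univ i))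
  choose u hu using fun i j =>
    exists_change (ℓ' := res L (inf_le_right : V i ⊓ V j ≤ V j) (ℓ j))
      (isBasis_res (hℓ i) (inf_le_left : V i ⊓ V j ≤ V i))
  have hf' : ∀ i j, resR (inf_le_left : V i ⊓ V j ≤ V i) (f i) =
      resR (inf_le_right : V i ⊓ V j ≤ V j) (f j) * u i j ^ N := by
    intro i j
    have e1 := congrArg (res _ (inf_le_left : V i ⊓ V j ≤ V i)) (hf i)
    have e2 := congrArg (res _ (inf_le_right : V i ⊓ V j ≤ V j)) (hf j)
    rw [res_gres, res_smul, res_pw] at e1 e2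
    exact (hu i j N _ _).mp (e1.symm.trans e2)
  have hov : ∀ ij : ι × ι, ∃ k, resR (inf_le_left : V ij.1 ⊓ V ij.2 ≤ V ij.1) (f ij.1) ^ k *
      (resR (inf_le_left : V ij.1 ⊓ V ij.2 ≤ V ij.1) (a ij.1) -
        resR (inf_le_right : V ij.1 ⊓ V ij.2 ≤ V ij.2) (a ij.2) * u ij.1 ij.2 ^ (r + N * E₀)) = 0 := by
    rintro ⟨i, j⟩
    dsimp only
    let g := resR (inf_le_left : V i ⊓ V j ≤ V i) (f i)
    have hVij : IsAffineOpen (V i ⊓ V j) := (hVaff i).inf (hVaff j)
    letI := hVij.isLocalization_basicOpen g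
    have hgU : X.basicOpen g ≤ U ⊓ V i := by
      show X.basicOpen (resR _ (f i)) ≤ _
      rw [Scheme.basicOpen_res]
      exact inf_le_right.trans (hD i).ge
    have hgV : X.basicOpen g ≤ V i ⊓ V j := X.basicOpen_le g
    have hgUj : X.basicOpen g ≤ U ⊓ V j := le_inf (hgU.trans inf_le_left) (hgV.trans inf_le_right)
    have ei := congrArg (res _ hgU) (hc i)
    have ej := congrArg (res _ hgUj) (hc j)
    rw [res_res, res_smul, res_pw, res_res] at ei ej
    have hij := congrArg (res _ hgV) ((hu i j r (u i j ^ r) 1).mpr (one_mul _).symm)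
    rw [res_smul, res_smul, res_pw, res_pw, res_res, res_res, resR_pow,
      show resR hgV (1 : Γ(X, V i ⊓ V j)) = 1 from map_one _, one_smul] at hij
    have hcc : resR hgU (c i) = resR hgUj (c j) * resR hgV (u i j) ^ r := by
      refine coef_unique (isBasis_pw (isBasis_res (hℓ i) (hgV.trans inf_le_left)) r) ?_
      rw [← smul_smul, hij]
      exact ei.symm.trans ej
    obtain ⟨⟨_, k, rfl⟩, hk⟩ := (IsLocalization.map_eq_zero_iff (Submonoid.powers g) Γ(X, X.basicOpen g)
      (resR (inf_le_left : V i ⊓ V j ≤ V i) (a i) -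
        resR (inf_le_right : V i ⊓ V j ≤ V j) (a j) * u i j ^ (r + N * E₀))).mp (by
      change resR hgV (_ - _) = 0
      rw [show ∀ p q : Γ(X, V i ⊓ V j), resR hgV (p - q) = resR hgV p - resR hgV q from fun p q => map_sub _ p q,
        resR_mul, resR_pow]
      have e1 := congrArg (resR hgU) (ha i)
      have e2 := congrArg (resR hgUj) (ha j)
      rw [resR_mul, resR_pow, resR_resR, resR_resR] at e1 e2
      have e3 := congrArg (resR hgV) (hf' i j)
      rw [resR_mul, resR_pow, resR_resR, resR_resR] at e3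
      rw [resR_resR, resR_resR, e1, e2, e3, hcc, mul_pow, ← pow_mul, pow_add]
      ring)
    exact ⟨k, hk⟩
  choose k hk using hov
  let K := Finset.univ.sup k
  refine ⟨E₀ + K + 1, fun e he => ?_⟩
  obtain ⟨p, rfl⟩ : ∃ p, e = E₀ + K + 1 + p := ⟨e - (E₀ + K + 1), by omega⟩
  obtain ⟨w, hw⟩ := exists_glue_coef V hcov ℓ (r + N * (E₀ + K + 1 + p))
    (fun i => a i * f i ^ (K + 1 + p)) fun i j => by
      refine (hu i j _ _ _).mpr ?_
      rw [resR_mul, resR_mul, resR_pow, resR_pow]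
      obtain ⟨K', hK'⟩ : ∃ K', K + 1 + p = k (i, j) + K' := ⟨K + 1 + p - k (i, j), by
        have : k (i, j) ≤ K := Finset.le_sup (Finset.mem_univ _)
        omega⟩
      have h0 : (resR (inf_le_left : V i ⊓ V j ≤ V i) (a i) -
          resR (inf_le_right : V i ⊓ V j ≤ V j) (a j) * u i j ^ (r + N * E₀)) *
            resR (inf_le_left : V i ⊓ V j ≤ V i) (f i) ^ (K + 1 + p) = 0 := by
        rw [hK', pow_add (resR (inf_le_left : V i ⊓ V j ≤ V i) (f i)), ← mul_assoc,
          mul_comm _ (resR (inf_le_left : V i ⊓ V j ≤ V i) (f i) ^ k (i, j)), hk (i, j), zero_mul]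
      rw [sub_mul, sub_eq_zero] at h0
      rw [h0, hf' i j, mul_pow, ← pow_mul,
        show r + N * (E₀ + K + 1 + p) = (r + N * E₀) + N * (K + 1 + p) by ring, pow_add (u i j)]
      ring
  refine ⟨w, fun x hx => ?_, fun W hW l hl c' d' hc' hd' => sections_ext _ V hcov fun i => ?_⟩
  · obtain ⟨i, hi⟩ := hcov x
    have h1 := (genOpen_inf_eq_basicOpen (isInvertible_tensorPow hL _) (isBasis_pw (hℓ i) _) (hw i)).le ⟨hx, hi⟩
    rw [Scheme.basicOpen_mul, X.basicOpen_pow (f i) (by omega)] at h1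
    exact ((hD i).ge h1.2).1
  · have hWi : W ⊓ V i ≤ U ⊓ V i := inf_le_inf_right _ hW
    rw [res_gres, ← res_gres _ w (inf_le_right : W ⊓ V i ≤ V i), hw, res_smul, res_pw, res_smul, res_pw]
    obtain ⟨u', hu'⟩ := exists_change (ℓ' := res L (inf_le_left : W ⊓ V i ≤ W) l)
      (isBasis_res (hℓ i) (inf_le_right : W ⊓ V i ≤ V i))
    refine (hu' _ _ _).mpr ?_
    have h1 := congrArg (res _ hWi) (hc i)
    have h2 := congrArg (res _ (inf_le_left : W ⊓ V i ≤ W)) hc'
    rw [res_res, res_smul, res_pw, res_res] at h1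
    rw [res_res, res_smul, res_pw] at h2
    have ec := (hu' r _ _).mp (h1.symm.trans h2)
    have h3 := congrArg (res _ (inf_le_right : W ⊓ V i ≤ V i)) (hf i)
    have h4 := congrArg (res _ (inf_le_left : W ⊓ V i ≤ W)) hd'
    rw [res_gres, res_smul, res_pw] at h3 h4
    have ed := (hu' N _ _).mp (h3.symm.trans h4)
    have ea := congrArg (resR hWi) (ha i)
    rw [resR_mul, resR_pow, resR_resR, resR_resR] at ea
    rw [resR_mul, resR_mul, resR_pow, resR_pow, ea, ec, ed, mul_pow, mul_pow, ← pow_mul, ← pow_mul,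
      pow_add (u'), show N * (E₀ + K + 1 + p) = N * E₀ + N * (K + 1 + p) by ring, pow_add u']
    ring

end Groth.Agent.InvPow
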