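import Groth.Agent.ProjUniv.Basis
import Mathlib.AlgebraicGeometry.Morphisms.ClosedImmersion
import Mathlib.AlgebraicGeometry.Morphisms.Separated

/-!
# Separatedness from an affine cover with generated intersections
-/

set_option autoImplicit false
universe u
open CategoryTheory CategoryTheory.Limits AlgebraicGeometry Opposite TopologicalSpace

namespace Groth.Agent.InvPow

open ProjUniv

variable {X : Scheme.{u}}

theorem homOfLE_appTop_topIso {U V : X.Opens} (e : U ≤ V) (a : Γ(X, V)) :
    (X.homOfLE e).appTop (V.topIso.inv a) = U.topIso.inv (resR e a) := by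
  rw [Scheme.homOfLE_appTop]
  have hV : V.ι ''ᵁ ⊤ ≤ V := V.ι_image_top.le
  have hU : U.ι ''ᵁ ⊤ ≤ U := U.ι_image_top.le
  show resR _ (resR hV a) = resR hU (resR e a)
  rw [resR_resR, resR_resR]

/-- An affine cover with affine pairwise intersections whose rings are generated by those of the two
factors makes the scheme separated. -/
theorem isSeparated_of_affine_cover {ι : Type u} (U : ι → X.Opens) (hU : ∀ x, ∃ i, x ∈ U i)
    (haff : ∀ i, IsAffineOpen (U i)) (hinf : ∀ i j, IsAffineOpen (U i ⊓ U j))
    (hgen : ∀ i j, Subring.closure (Set.range (resR (inf_le_left : U i ⊓ U j ≤ U i)) ∪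
      Set.range (resR (inf_le_right : U i ⊓ U j ≤ U j))) = ⊤) :
    X.IsSeparated := by
  refine ⟨⟨?_⟩⟩
  let Q : AffineTargetMorphismProperty := fun Z _ f => IsAffine Z ∧ Function.Surjective f.appTop
  have : Q.IsLocal := HasAffineProperty.isLocal_affineProperty @IsClosedImmersion
  have hcov : IsOpenCover U := top_le_iff.mp fun x _ => Opens.mem_iSup.mpr (hU x)
  have : ∀ i, IsAffine ((X.openCoverOfIsOpenCover U hcov).X i) := haff
  have key : Q.diagonal (terminal.from X) := by
    refine AffineTargetMorphismProperty.diagonal_of_openCover_source _ (X.openCoverOfIsOpenCover U hcov) fun i j => ?_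
    let e := (isPullback_opens_inf (U i) (U j)).isoPullback
    have : IsAffine ((U i ⊓ U j : X.Opens) : Scheme.{u}) := hinf i j
    refine ⟨IsAffine.of_isIso e.inv, fun c => ?_⟩
    let δ := pullback.mapDesc (U i).ι (U j).ι (terminal.from X)
    let ψ : Γ(pullback ((U i).ι ≫ terminal.from X) ((U j).ι ≫ terminal.from X), ⊤) →+* Γ(X, U i ⊓ U j) :=
      (U i ⊓ U j).topIso.hom.hom.comp (e.hom.appTop.hom.comp δ.appTop.hom)
    suffices hψ : Function.Surjective ψ by
      obtain ⟨a, ha⟩ := hψ ((U i ⊓ U j).topIso.hom (e.hom.appTop c))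
      have : IsIso e.hom.appTop := inferInstanceAs (IsIso (e.hom.app ⊤))
      exact ⟨a, (ConcreteCategory.bijective_of_isIso e.hom.appTop).1
        ((ConcreteCategory.bijective_of_isIso (U i ⊓ U j).topIso.hom).1 ha)⟩
    rw [← RingHom.range_eq_top, eq_top_iff, ← hgen i j, Subring.closure_le]
    rintro _ (⟨a, rfl⟩ | ⟨a, rfl⟩)
    · refine ⟨(pullback.fst _ _ : pullback ((U i).ι ≫ terminal.from X) ((U j).ι ≫ terminal.from X) ⟶ _).appTop
        ((U i).topIso.inv a), ?_⟩
      show (U i ⊓ U j).topIso.hom (e.hom.appTop (δ.appTop _)) = _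
      have h1 : e.hom ≫ δ ≫ pullback.fst _ _ = X.homOfLE (inf_le_left : U i ⊓ U j ≤ U i) :=
        (congrArg (e.hom ≫ ·) (pullback.lift_fst _ _ _)).trans
          ((isPullback_opens_inf (U i) (U j)).isoPullback_hom_fst)
      have h2 := ConcreteCategory.congr_hom (congrArg Scheme.Hom.appTop h1) ((U i).topIso.inv a)
      rw [homOfLE_appTop_topIso, Scheme.Hom.comp_appTop, Scheme.Hom.comp_appTop] at h2
      exact (congrArg _ h2).trans (ConcreteCategory.congr_hom (U i ⊓ U j).topIso.inv_hom_id _)
    · refine ⟨(pullback.snd _ _ : pullback ((U i).ι ≫ terminal.from X) ((U j).ι ≫ terminal.from X) ⟶ _).appTop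
        ((U j).topIso.inv a), ?_⟩
      show (U i ⊓ U j).topIso.hom (e.hom.appTop (δ.appTop _)) = _
      have h1 : e.hom ≫ δ ≫ pullback.snd _ _ = X.homOfLE (inf_le_right : U i ⊓ U j ≤ U j) :=
        (congrArg (e.hom ≫ ·) (pullback.lift_snd _ _ _)).trans
          ((isPullback_opens_inf (U i) (U j)).isoPullback_hom_snd)
      have h2 := ConcreteCategory.congr_hom (congrArg Scheme.Hom.appTop h1) ((U j).topIso.inv a)
      rw [homOfLE_appTop_topIso, Scheme.Hom.comp_appTop, Scheme.Hom.comp_appTop] at h2
      exact (congrArg _ h2).trans (ConcreteCategory.congr_hom (U i ⊓ U j).topIso.inv_hom_id _)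
  exact (HasAffineProperty.iff_of_isAffine (P := MorphismProperty.diagonal @IsClosedImmersion)).mpr key

end Groth.Agent.InvPow
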