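import Groth.Agent.InvPow.Transfer
import Groth.Agent.InvPow.Extend
import Groth.Agent.InvPow.SeparatedCover
import Groth.Agent.InvBasic.QCoh

/-!
# Basic properties of ample invertible modules
-/

set_option autoImplicit false
set_option synthInstance.maxHeartbeats 400000
set_option maxHeartbeats 800000
universe u
open CategoryTheory CategoryTheory.Limits AlgebraicGeometry Opposite TopologicalSpace

namespace Groth.Agent.InvPow

open InvBasic ProjUniv

variable {X Y : Scheme.{u}} {L : X.Modules}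

/-- Every point lies in an affine non-vanishing locus of a section of a positive power. -/
def AffLoci (hL : PicF.IsInvertible L) : Prop :=
  ∀ x : X, ∃ n, 0 < n ∧ ∃ s : Γ(CohB1.tensorPow L n, ⊤),
    x ∈ genOpen (isInvertible_tensorPow hL n) s ∧ IsAffineOpen (genOpen (isInvertible_tensorPow hL n) s)

theorem affLoci_of_isAmple (h : CohB1.IsAmple L) : AffLoci h.1 := fun x => by
  obtain ⟨n, s, hx, ha⟩ := h.2.2 x
  obtain ⟨σ, rfl⟩ := exists_globalHom_eq s
  rw [genLocus_globalHom (isInvertible_tensorPow h.1 _)] at hx ha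
  exact ⟨n + 1, Nat.succ_pos n, σ, hx, ha⟩

theorem isAmple_of_affLoci [CompactSpace X] (hL : PicF.IsInvertible L) (h : AffLoci hL) : CohB1.IsAmple L :=
  ⟨hL, inferInstance, fun x => by
    obtain ⟨n, hn, s, hx, ha⟩ := h x
    obtain ⟨m, rfl⟩ : ∃ m, n = m + 1 := ⟨n - 1, by omega⟩
    refine ⟨m, ProjTwist.globalHom _ s, ?_⟩
    rw [genLocus_globalHom (isInvertible_tensorPow hL _)]
    exact ⟨hx, ha⟩⟩

/-- Every non-vanishing locus meets an affine open in an affine open. -/
theorem isAffineOpen_genOpen_inf (hL : PicF.IsInvertible L) (s : Γ(L, ⊤)) {A : X.Opens} (hA : IsAffineOpen A) :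
    IsAffineOpen (genOpen hL s ⊓ A) := by
  let U := genOpen hL s
  have hhom : IsAffineHom U.ι := by
    choose V hVaff hxV ℓ hℓ using fun x : X => show ∃ (V : X.Opens) (_ : IsAffineOpen V) (_ : x ∈ V)
        (ℓ : Γ(L, V)), IsBasis L ℓ by
      obtain ⟨U, hxU, ℓ, hℓ⟩ := exists_isBasis hL x
      obtain ⟨V, hV, hxV, hVU⟩ := exists_isAffineOpen_mem_and_subset hxU
      exact ⟨V, hV, hxV, _, isBasis_res hℓ (V := V) hVU⟩
    refine isAffineHom_of_forall_exists_isAffineOpen _ fun x => ⟨V x, hxV x, hVaff x, ?_⟩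
    obtain ⟨c, hc⟩ := exists_coef (hℓ x) (gres L s (V x))
    show IsAffineOpen (U.ι ⁻¹ᵁ V x)
    rw [← Scheme.Hom.isAffineOpen_iff_of_isOpenImmersion U.ι, Scheme.Hom.image_preimage_eq_opensRange_inf,
      Scheme.Opens.opensRange_ι, genOpen_inf_eq_basicOpen hL (hℓ x) hc]
    exact (hVaff x).basicOpen c
  have h := hA.preimage U.ι
  rw [← Scheme.Hom.isAffineOpen_iff_of_isOpenImmersion U.ι, Scheme.Hom.image_preimage_eq_opensRange_inf,
    Scheme.Opens.opensRange_ι] at h
  exact h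

/-- Bring two sections to a common power. -/
theorem exists_common_power (hL : PicF.IsInvertible L) {a b : ℕ} (ha : 0 < a) (hb : 0 < b)
    (s : Γ(CohB1.tensorPow L a, ⊤)) (t : Γ(CohB1.tensorPow L b, ⊤)) :
    ∃ (s' t' : Γ(CohB1.tensorPow L (a * b), ⊤)),
      genOpen (isInvertible_tensorPow hL _) s' = genOpen (isInvertible_tensorPow hL _) s ∧
      genOpen (isInvertible_tensorPow hL _) t' = genOpen (isInvertible_tensorPow hL _) t := by
  have h : ∀ N, b * a = N → ∃ t' : Γ(CohB1.tensorPow L N, ⊤),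
      genOpen (isInvertible_tensorPow hL _) t' = genOpen (isInvertible_tensorPow hL _) t := by
    rintro _ rfl
    exact ⟨spow hL t a, genOpen_spow hL t ha⟩
  obtain ⟨t', ht'⟩ := h (a * b) (mul_comm b a)
  exact ⟨spow hL s b, t', genOpen_spow hL s hb, ht'⟩

theorem isSeparated_of_affLoci (hL : PicF.IsInvertible L) (h : AffLoci hL) : X.IsSeparated := by
  choose n hn s hxs haff using h
  refine isSeparated_of_affine_cover (fun x => genOpen (isInvertible_tensorPow hL (n x)) (s x))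
    (fun x => ⟨x, hxs x⟩) haff
    (fun x y => isAffineOpen_genOpen_inf (isInvertible_tensorPow hL _) (s x) (haff y)) fun x y => ?_
  obtain ⟨s', t', hs', ht'⟩ := exists_common_power hL (hn x) (hn y) (s x) (s y)
  generalize hA : genOpen (isInvertible_tensorPow hL (n x)) (s x) = A at hs' ⊢
  generalize hB : genOpen (isInvertible_tensorPow hL (n y)) (s y) = B at ht' ⊢
  have hAaff : IsAffineOpen A := hA ▸ haff x
  have bA := isBasis_genOpen (isInvertible_tensorPow hL _) s'
  have bB := isBasis_genOpen (isInvertible_tensorPow hL _) t'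
  rw [hs'] at bA
  rw [ht'] at bB
  obtain ⟨f, hf⟩ := exists_coef bA (gres _ t' A)
  obtain ⟨g, hg⟩ := exists_coef bB (gres _ s' B)
  have hf' := congrArg (res _ (inf_le_left : A ⊓ B ≤ A)) hf
  have hg' := congrArg (res _ (inf_le_right : A ⊓ B ≤ B)) hg
  rw [res_gres, res_smul, res_gres] at hf' hg'
  rw [hf', smul_smul] at hg'
  have hb : IsBasis (CohB1.tensorPow L (n x * n y)) (gres (CohB1.tensorPow L (n x * n y)) s' (A ⊓ B)) := by
    have := isBasis_res bA (inf_le_left : A ⊓ B ≤ A)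
    rwa [res_gres] at this
  have hinv : resR (inf_le_right : A ⊓ B ≤ B) g * resR (inf_le_left : A ⊓ B ≤ A) f = 1 :=
    coef_unique hb (hg'.symm.trans (one_smul _ _).symm)
  have hD : A ⊓ B = X.basicOpen f := by
    rw [← genOpen_inf_eq_basicOpen (isInvertible_tensorPow hL _) bA hf, ht', inf_comm]
  have hle : X.basicOpen f ≤ A ⊓ B := hD.ge
  letI := hAaff.isLocalization_basicOpen f
  rw [eq_top_iff]
  intro c _
  obtain ⟨⟨a, ⟨_, k, rfl⟩⟩, ha⟩ := IsLocalization.surj (Submonoid.powers f) (resR hle c)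
  have hinj : Function.Injective (resR hle) := (ConcreteCategory.bijective_of_isIso
    (X.presheaf.map (eqToHom (le_antisymm hle hD.le)).op)).1
  have e : c = resR (inf_le_left : A ⊓ B ≤ A) a * resR (inf_le_right : A ⊓ B ≤ B) g ^ k := by
    have e1 : c * resR (inf_le_left : A ⊓ B ≤ A) f ^ k = resR (inf_le_left : A ⊓ B ≤ A) a := hinj (by
      simp only [resR_mul, resR_pow, resR_resR]
      change _ = algebraMap _ Γ(X, X.basicOpen f) a
      rw [← ha, ← resR_pow]
      rfl)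
    rw [← e1, mul_assoc, ← mul_pow, mul_comm (resR _ f), hinv, one_pow, mul_one]
  rw [e]
  refine mul_mem ?_ (pow_mem ?_ k)
  · exact Subring.subset_closure (Set.mem_union_left _ ⟨a, rfl⟩)
  · exact Subring.subset_closure (Set.mem_union_right _ ⟨g, rfl⟩)

theorem isSeparated_of_isAmple (h : CohB1.IsAmple L) : X.IsSeparated :=
  isSeparated_of_affLoci h.1 (affLoci_of_isAmple h)

/-- Non-vanishing loci of powers of an ample module form a basis of the topology by affine opens. -/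
theorem exists_locus_le (h : CohB1.IsAmple L) {x : X} {U : X.Opens} (hxU : x ∈ U) :
    ∃ n, 0 < n ∧ ∃ s : Γ(CohB1.tensorPow L n, ⊤), x ∈ genOpen (isInvertible_tensorPow h.1 n) s ∧
      genOpen (isInvertible_tensorPow h.1 n) s ≤ U ∧ IsAffineOpen (genOpen (isInvertible_tensorPow h.1 n) s) := by
  have := h.2.1
  have := isSeparated_of_isAmple h
  obtain ⟨N, hN, t, hxt, hta⟩ := affLoci_of_isAmple h x
  generalize hA : genOpen (isInvertible_tensorPow h.1 N) t = A at hxt hta
  obtain ⟨g, hgle, hxg⟩ := hta.exists_basicOpen_le (⟨x, ⟨hxU, hxt⟩⟩ : ↥(U ⊓ A)) hxt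
  obtain ⟨E, hE⟩ := exists_extend (r := 0) h.1 t A hA (g : Γ(X, A))
  obtain ⟨w, hwle, hw⟩ := hE (E + 1) (Nat.le_succ E)
  have key : genOpen (isInvertible_tensorPow h.1 _) w = X.basicOpen g := by
    refine Opens.ext (Set.ext fun y => ?_)
    by_cases hy : y ∈ A
    · obtain ⟨V, hyV, ℓ, hℓ⟩ := exists_isBasis h.1 y
      have hb := isBasis_res hℓ (inf_le_left : V ⊓ A ≤ V)
      obtain ⟨d, hd⟩ := exists_coef (isBasis_pw hb N) (gres (CohB1.tensorPow L N) t (V ⊓ A))
      have h1 := hw (V ⊓ A) inf_le_right _ hb (resR (inf_le_right : V ⊓ A ≤ A) g) d (by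
        exact (mul_one (resR (inf_le_right : V ⊓ A ≤ A) g)).symm) hd
      have h2 := genOpen_inf_eq_basicOpen (isInvertible_tensorPow h.1 _) (isBasis_pw hb _) h1
      rw [Scheme.basicOpen_mul, Scheme.basicOpen_res, X.basicOpen_pow d (Nat.succ_pos E)] at h2
      have h3 := genOpen_inf_eq_basicOpen (isInvertible_tensorPow h.1 _) (isBasis_pw hb N) hd
      rw [hA] at h3
      exact ⟨fun hh => (h2.le ⟨hh, hyV, hy⟩).1.2,
        fun hh => (h2.ge ⟨⟨⟨hyV, hy⟩, hh⟩, h3.le ⟨hy, hyV, hy⟩⟩).1⟩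
    · exact ⟨fun hh => absurd (hwle hh) hy, fun hh => absurd (X.basicOpen_le g hh) hy⟩
  refine ⟨0 + N * (E + 1), by rw [zero_add]; exact Nat.mul_pos hN (Nat.succ_pos E), w, ?_, ?_, ?_⟩
  · rw [key]; exact hxg
  · rw [key]; exact hgle.trans inf_le_left
  · rw [key]; exact hta.basicOpen g

theorem isAmple_of_basis [CompactSpace X] (hL : PicF.IsInvertible L)
    (h : ∀ (x : X) (U : X.Opens), x ∈ U → ∃ n, 0 < n ∧ ∃ s : Γ(CohB1.tensorPow L n, ⊤),
      x ∈ genOpen (isInvertible_tensorPow hL n) s ∧ genOpen (isInvertible_tensorPow hL n) s ≤ U) :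
    CohB1.IsAmple L :=
  isAmple_of_affLoci hL fun x => by
    obtain ⟨V, hV, hxV, -⟩ := exists_isAffineOpen_mem_and_subset (x := x) (U := ⊤) (Opens.mem_top x)
    obtain ⟨n, hn, s, hxs, hsV⟩ := h x V hxV
    refine ⟨n, hn, s, hxs, ?_⟩
    rw [← inf_eq_left.mpr hsV]
    exact isAffineOpen_genOpen_inf _ s hV

theorem isAmple_of_iso {L' : X.Modules} (τ : L ≅ L') (h : CohB1.IsAmple L) : CohB1.IsAmple L' := by
  have := h.2.1
  refine isAmple_of_affLoci ((trIso τ).isInvertible h.1) fun x => ?_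
  obtain ⟨n, hn, s, hx, ha⟩ := affLoci_of_isAmple h x
  obtain ⟨σ, hσ⟩ := (trIso τ).exists_map h.1 (k := n) (one_mul n) s
  exact ⟨n, hn, σ, hσ.ge hx, hσ ▸ ha⟩

theorem isAmple_pow (h : CohB1.IsAmple L) {e : ℕ} (he : 0 < e) : CohB1.IsAmple (CohB1.tensorPow L e) := by
  have := h.2.1
  refine isAmple_of_affLoci (isInvertible_tensorPow h.1 e) fun x => ?_
  obtain ⟨n, hn, s, hx, ha⟩ := affLoci_of_isAmple h x
  obtain ⟨σ, hσ⟩ := (trPow L e).exists_map h.1 (k := n) (mul_comm e n) (spow h.1 s e)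
  have hσ' : genOpen (isInvertible_tensorPow (isInvertible_tensorPow h.1 e) n) σ =
      genOpen (isInvertible_tensorPow h.1 n) s := hσ.trans (genOpen_spow h.1 s he)
  exact ⟨n, hn, σ, hσ'.ge hx, hσ' ▸ ha⟩

theorem isAmple_of_pow [CompactSpace X] (hL : PicF.IsInvertible L) {e : ℕ} (he : 0 < e)
    (h : CohB1.IsAmple (CohB1.tensorPow L e)) : CohB1.IsAmple L := by
  refine isAmple_of_affLoci hL fun x => ?_
  obtain ⟨n, hn, σ, hx, ha⟩ := affLoci_of_isAmple h x
  obtain ⟨s, hs⟩ := (trPow L e).exists_inv hL (k := n) rfl σ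
  exact ⟨e * n, Nat.mul_pos he hn, s, hs.ge hx, hs ▸ ha⟩

/-- Inverse images under morphisms for which preimages of some affine neighbourhoods are affine. -/
theorem isAmple_pullback (h : CohB1.IsAmple L) (g : Y ⟶ X) [CompactSpace Y]
    (hg : ∀ y : Y, ∃ U : X.Opens, g y ∈ U ∧ IsAffineOpen (g ⁻¹ᵁ U)) :
    CohB1.IsAmple ((Scheme.Modules.pullback g).obj L) := by
  refine isAmple_of_affLoci (isInvertible_pullback g h.1) fun y => ?_
  obtain ⟨U, hyU, hU⟩ := hg y
  obtain ⟨n, hn, s, hx, hle, -⟩ := exists_locus_le h hyU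
  obtain ⟨σ, hσ⟩ := (trPull g h.1).exists_map h.1 (k := n) (one_mul n) s
  refine ⟨n, hn, σ, hσ.ge hx, ?_⟩
  have e := inf_eq_left.mpr (show genOpen (isInvertible_tensorPow (isInvertible_pullback g h.1) n) σ ≤ g ⁻¹ᵁ U from
    hσ.le.trans fun z hz => hle hz)
  rw [← e]
  exact isAffineOpen_genOpen_inf _ σ hU

/-- Tensor with a module whose powers have sections without common zero. -/
theorem isAmple_tensor {L' : X.Modules} (h : CohB1.IsAmple L) (hL' : PicF.IsInvertible L')
    (h' : ∀ x : X, ∃ n, 0 < n ∧ ∃ s : Γ(CohB1.tensorPow L' n, ⊤), x ∈ genOpen (isInvertible_tensorPow hL' n) s) :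
    CohB1.IsAmple (CohB1.tensorMod L L') := by
  have := h.2.1
  refine isAmple_of_affLoci (isInvertible_tensorMod h.1 hL') fun x => ?_
  obtain ⟨b, hb, t, hxt⟩ := h' x
  obtain ⟨a, ha, s, hxs, hle, haff⟩ := exists_locus_le h hxt
  have e : ∀ N, b * a = N → ∃ t' : Γ(CohB1.tensorPow L' N, ⊤),
      genOpen (isInvertible_tensorPow hL' _) t' = genOpen (isInvertible_tensorPow hL' _) t := by
    rintro _ rfl
    exact ⟨spow hL' t a, genOpen_spow hL' t ha⟩
  obtain ⟨t', ht'⟩ := e (a * b) (mul_comm b a)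
  obtain ⟨σ, hσ⟩ := exists_tensor h.1 hL' (spow h.1 s b) t'
  rw [ht', genOpen_spow h.1 s hb, inf_eq_left.mpr hle] at hσ
  exact ⟨a * b, Nat.mul_pos ha hb, σ, hσ.ge hxs, hσ ▸ haff⟩

end Groth.Agent.InvPow
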