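import Groth.Agent.InvPow.ExtendModule
import Groth.Agent.InvPow.Ample
import Groth.Agent.ProjTwist.Generated
import Groth.Agent.QCohLib.FiniteType
import Groth.Prelude.Def_Curv2

/-!
# Global generation after twisting by an ample module
-/

set_option autoImplicit false
set_option synthInstance.maxHeartbeats 400000
set_option maxHeartbeats 800000
universe u
open CategoryTheory CategoryTheory.Limits AlgebraicGeometry Opposite TopologicalSpace

namespace Groth.Agent.InvPow

open InvBasic ProjUniv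

variable {X : Scheme.{u}} {L : X.Modules}

theorem isGloballyGenerated_of_span {F : X.Modules} (h : ProjTwist.LocSpan F (fun g : Γ(F, ⊤) => g)) :
    Curv2.IsGloballyGenerated F := by
  let J : Type u := Γ(F, ⊤)
  let p : (∐ fun _ : J => Coh.structureModule X) ⟶ F := Sigma.desc fun g : J => ProjTwist.globalHom F g
  suffices hp : Epi p from ⟨J, p, hp⟩
  refine ⟨fun {T} a b hab => ?_⟩
  have hi : ∀ g : J, ProjTwist.globalHom F g ≫ a = ProjTwist.globalHom F g ≫ b := fun g => by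
    simpa [p] using congrArg (fun q => Sigma.ι (fun _ : J => Coh.structureModule X) g ≫ q) hab
  apply Scheme.Modules.hom_ext
  intro U
  ext t
  choose V hVU hxV hmem using fun x : U => h U t x.1 x.2
  refine TopCat.Sheaf.eq_of_locally_eq' (⟨T.presheaf, T.isSheaf⟩ : TopCat.Sheaf Ab X) V U
    (fun x => homOfLE (hVU x)) (fun x hx => Opens.mem_iSup.mpr ⟨⟨x, hx⟩, hxV _⟩) _ _ fun x => ?_
  have key : ∀ w ∈ Submodule.span Γ(X, V x) (Set.range fun g : Γ(F, ⊤) => gres F g (V x)),
      a.app (V x) w = b.app (V x) w := by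
    intro w hw
    induction hw using Submodule.span_induction with
    | mem w hw =>
      obtain ⟨g, rfl⟩ := hw
      have e := congrArg (fun q : Coh.structureModule X ⟶ T => q.app (V x) (1 : Γ(X, V x))) (hi g)
      change a.app (V x) ((ProjTwist.globalHom F g).app (V x) (1 : Γ(X, V x))) =
        b.app (V x) ((ProjTwist.globalHom F g).app (V x) (1 : Γ(X, V x))) at e
      rwa [ProjTwist.globalHom_app, one_smul] at e
    | zero => rw [map_zero, map_zero]
    | add u v _ _ hu hv => rw [map_add, map_add, hu, hv]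
    | smul c u _ hu => rw [Scheme.Modules.Hom.app_smul, Scheme.Modules.Hom.app_smul, hu]
  exact (QCohLib.app_map a (hVU x) t).symm.trans ((key _ (hmem x)).trans (QCohLib.app_map b (hVU x) t))

/-- An invertible module with sections without common zero is globally generated. -/
theorem isGloballyGenerated_of_gen {M : X.Modules} (hM : PicF.IsInvertible M)
    (h : ∀ x : X, ∃ s : Γ(M, ⊤), x ∈ genOpen hM s) : Curv2.IsGloballyGenerated M :=
  isGloballyGenerated_of_span fun U t x hx => by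
    obtain ⟨s, hs⟩ := h x
    refine ⟨U ⊓ genOpen hM s, inf_le_left, ⟨hx, hs⟩, ?_⟩
    have hb : IsBasis M (gres M s (U ⊓ genOpen hM s)) := by
      have := isBasis_res (isBasis_genOpen hM s) (inf_le_right : U ⊓ genOpen hM s ≤ genOpen hM s)
      rwa [res_gres] at this
    obtain ⟨c, hc⟩ := exists_coef hb (res M inf_le_left t)
    show res M _ t ∈ _
    rw [hc]
    exact Submodule.smul_mem _ _ (Submodule.subset_span ⟨s, rfl⟩)

theorem tw_add {F : X.Modules} {U : X.Opens} (m m' : Γ(F, U)) (ℓ : Γ(L, U)) (n : ℕ) :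
    tw F (m + m') ℓ n = tw F m ℓ n + tw F m' ℓ n := ProjCoh.tmul_add_left F _ U _ _ _

theorem tw_zero {F : X.Modules} {U : X.Opens} (ℓ : Γ(L, U)) (n : ℕ) : tw F (0 : Γ(F, U)) ℓ n = 0 :=
  ProjCoh.tmul_zero_left F _ U _

/-- Large twists of a module quasi-coherent of finite type are spanned by global sections. -/
theorem exists_locSpan_twist (hA : CohB1.IsAmple L) {F : X.Modules} (hF : Coh.IsCoh F) :
    ∃ E : ℕ, ∀ n, E ≤ n → ProjTwist.LocSpan (CohB1.tensorMod F (CohB1.tensorPow L n))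
      (fun g : Γ(CohB1.tensorMod F (CohB1.tensorPow L n), ⊤) => g) := by
  have := hA.2.1
  have := isSeparated_of_isAmple hA
  have := hF.1
  choose D N hN t hxD hD hDaff ℓ hℓ using fun x : X => show ∃ (D : X.Opens) (N : ℕ) (_ : 0 < N)
      (t : Γ(CohB1.tensorPow L N, ⊤)) (_ : x ∈ D) (_ : genOpen (isInvertible_tensorPow hA.1 N) t = D)
      (_ : IsAffineOpen D) (ℓ : Γ(L, D)), IsBasis L ℓ by
    obtain ⟨U, hxU, ℓ, hℓ⟩ := exists_isBasis hA.1 x
    obtain ⟨N, hN, t, hxt, hle, haff⟩ := exists_locus_le hA hxU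
    exact ⟨_, N, hN, t, hxt, rfl, haff, _, isBasis_res hℓ hle⟩
  obtain ⟨S, hS⟩ := isCompact_univ.elim_finite_subcover (fun x => (D x : Set X)) (fun x => (D x).2)
    (fun x _ => Set.mem_iUnion.mpr ⟨x, hxD x⟩)
  choose G hG using fun x => (QCohLib.finite_sections F hF.2 (hDaff x)).fg_top
  choose E hE using fun x v => exists_extend_twist F hA.1 (hN x) (t x) (D x) (hD x) (hℓ x) v
  refine ⟨S.sup fun x => (G x).sup (E x), fun n hn U s y hy => ?_⟩
  obtain ⟨x, hxS, hyx⟩ := Set.mem_iUnion₂.mp (hS (Set.mem_univ y))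
  obtain ⟨f, hfU, hyf⟩ := (hDaff x).exists_basicOpen_le (⟨y, hy, hyx⟩ : ↥(U ⊓ D x)) hyx
  have hfD : X.basicOpen f ≤ D x := X.basicOpen_le f
  refine ⟨X.basicOpen f, hfU.trans inf_le_left, hyf, ?_⟩
  obtain ⟨m, hm⟩ := (tw_bijective F (isBasis_res (hℓ x) hfD) n).2
    (res (CohB1.tensorMod F (CohB1.tensorPow L n)) (hfU.trans inf_le_left) s)
  show res _ _ s ∈ _
  rw [← hm]
  obtain ⟨k, z, hz⟩ := QCohLib.exists_res_eq_pow_smul (hDaff x) f (X.basicOpen f) hfD rfl m
  have hu : IsUnit (resR hfD f ^ k) := (X.toRingedSpace.isUnit_res_basicOpen f).pow k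
  let P := Submodule.span Γ(X, X.basicOpen f) (Set.range fun g : Γ(CohB1.tensorMod F (CohB1.tensorPow L n), ⊤) =>
    gres (CohB1.tensorMod F (CohB1.tensorPow L n)) g (X.basicOpen f))
  show tw F m (res L hfD (ℓ x)) n ∈ P
  rw [← Submodule.smul_mem_iff_of_isUnit P hu, ← smul_tw, ← hz]
  suffices h : ∀ q ∈ (⊤ : Submodule Γ(X, D x) Γ(F, D x)), tw F (res F hfD q) (res L hfD (ℓ x)) n ∈ P from h z trivial
  rw [← hG x]
  intro q hq
  induction hq using Submodule.span_induction with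
  | mem q hq =>
    obtain ⟨w, a, ha, hw⟩ := hE x q n ((Finset.le_sup hq).trans ((Finset.le_sup (f := fun x => (G x).sup (E x)) hxS).trans hn))
    have e := congrArg (res _ hfD) hw
    rw [res_gres, res_tw, res_smul, smul_tw] at e
    rw [← Submodule.smul_mem_iff_of_isUnit P (ha.map (X.presheaf.map (homOfLE hfD).op).hom)]
    exact e ▸ Submodule.subset_span ⟨w, rfl⟩
  | zero => rw [show res F hfD 0 = 0 from map_zero _, tw_zero]; exact Submodule.zero_mem _
  | add a b _ _ ha hb =>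
    rw [show res F hfD (a + b) = res F hfD a + res F hfD b from map_add _ _ _, tw_add]
    exact Submodule.add_mem _ ha hb
  | smul c a _ ha => rw [res_smul, smul_tw]; exact Submodule.smul_mem _ _ ha

/-- The tensor product of invertible modules is commutative. -/
theorem nonempty_tensor_comm {L' : X.Modules} (hL : PicF.IsInvertible L) (hL' : PicF.IsInvertible L') :
    Nonempty (CohB1.tensorMod L L' ≅ CohB1.tensorMod L' L) := by
  choose V hxV ℓ hℓ ℓ' hℓ' using fun x : X => show ∃ (V : X.Opens) (_ : x ∈ V) (ℓ : Γ(L, V)) (_ : IsBasis L ℓ)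
      (ℓ' : Γ(L', V)), IsBasis L' ℓ' by
    obtain ⟨U, hx, ℓ, hℓ⟩ := exists_isBasis hL x
    obtain ⟨U', hx', ℓ', hℓ'⟩ := exists_isBasis hL' x
    exact ⟨U ⊓ U', ⟨hx, hx'⟩, _, isBasis_res hℓ inf_le_left, _, isBasis_res hℓ' inf_le_right⟩
  refine nonempty_iso_of_bases (V := V) (a := fun x => SecTwist.tmul L L' (V x) (ℓ x) (ℓ' x))
    (b := fun x => SecTwist.tmul L' L (V x) (ℓ' x) (ℓ x)) (fun x => ⟨x, hxV x⟩)
    (fun x => isBasis_tmul (hℓ x) (hℓ' x)) ?_ (fun x => isBasis_tmul (hℓ' x) (hℓ x))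
  intro i j W hi hj u hu
  obtain ⟨c, hc⟩ := exists_coef (isBasis_res (hℓ i) hi) (res L hj (ℓ j))
  obtain ⟨c', hc'⟩ := exists_coef (isBasis_res (hℓ' i) hi) (res L' hj (ℓ' j))
  have m : ∀ (P Q : X.Modules) {A B : X.Opens} (h : B ≤ A) (s : Γ(P, A)) (t : Γ(Q, A)),
      res (CohB1.tensorMod P Q) h (SecTwist.tmul P Q A s t) = SecTwist.tmul P Q B (res P h s) (res Q h t) :=
    fun P Q _ _ h s t => SecTwist.map_tmul P Q (homOfLE h) s t
  have e1 : res (CohB1.tensorMod L L') hj (SecTwist.tmul L L' (V j) (ℓ j) (ℓ' j)) =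
      (c' * c) • res (CohB1.tensorMod L L') hi (SecTwist.tmul L L' (V i) (ℓ i) (ℓ' i)) := by
    rw [m L L' hj, m L L' hi, hc, hc', ProjCoh.tmul_smul_right, smul_smul, ProjCoh.tmul_smul_left]
  have e2 : res (CohB1.tensorMod L' L) hj (SecTwist.tmul L' L (V j) (ℓ' j) (ℓ j)) =
      (c * c') • res (CohB1.tensorMod L' L) hi (SecTwist.tmul L' L (V i) (ℓ' i) (ℓ i)) := by
    rw [m L' L hj, m L' L hi, hc, hc', ProjCoh.tmul_smul_right, smul_smul, ProjCoh.tmul_smul_left]
  rw [e2, mul_comm, coef_unique (isBasis_res (isBasis_tmul (hℓ i) (hℓ' i)) hi) (e1.symm.trans hu)]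

/-- The tensor product of invertible modules is associative. -/
theorem nonempty_tensor_assoc {A B C : X.Modules} (hA : PicF.IsInvertible A) (hB : PicF.IsInvertible B)
    (hC : PicF.IsInvertible C) :
    Nonempty (CohB1.tensorMod A (CohB1.tensorMod B C) ≅ CohB1.tensorMod (CohB1.tensorMod A B) C) := by
  choose V hxV a ha b hb c hc using fun x : X => show ∃ (V : X.Opens) (_ : x ∈ V) (a : Γ(A, V)) (_ : IsBasis A a)
      (b : Γ(B, V)) (_ : IsBasis B b) (c : Γ(C, V)), IsBasis C c by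
    obtain ⟨U, hx, a, ha⟩ := exists_isBasis hA x
    obtain ⟨U', hx', b, hb⟩ := exists_isBasis hB x
    obtain ⟨U'', hx'', c, hc⟩ := exists_isBasis hC x
    exact ⟨U ⊓ U' ⊓ U'', ⟨⟨hx, hx'⟩, hx''⟩, _, isBasis_res ha (inf_le_left.trans inf_le_left), _,
      isBasis_res hb (inf_le_left.trans inf_le_right), _, isBasis_res hc inf_le_right⟩
  refine nonempty_iso_of_bases (V := V)
    (a := fun x => SecTwist.tmul A (CohB1.tensorMod B C) (V x) (a x) (SecTwist.tmul B C (V x) (b x) (c x)))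
    (b := fun x => SecTwist.tmul (CohB1.tensorMod A B) C (V x) (SecTwist.tmul A B (V x) (a x) (b x)) (c x))
    (fun x => ⟨x, hxV x⟩) (fun x => isBasis_tmul (ha x) (isBasis_tmul (hb x) (hc x))) ?_
    (fun x => isBasis_tmul (isBasis_tmul (ha x) (hb x)) (hc x))
  intro i j W hi hj u hu
  obtain ⟨ua, hua⟩ := exists_coef (isBasis_res (ha i) hi) (res A hj (a j))
  obtain ⟨ub, hub⟩ := exists_coef (isBasis_res (hb i) hi) (res B hj (b j))
  obtain ⟨uc, huc⟩ := exists_coef (isBasis_res (hc i) hi) (res C hj (c j))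
  have m : ∀ (P Q : X.Modules) {U U' : X.Opens} (h : U' ≤ U) (s : Γ(P, U)) (t : Γ(Q, U)),
      res (CohB1.tensorMod P Q) h (SecTwist.tmul P Q U s t) = SecTwist.tmul P Q U' (res P h s) (res Q h t) :=
    fun P Q _ _ h s t => SecTwist.map_tmul P Q (homOfLE h) s t
  have e1 : res (CohB1.tensorMod A (CohB1.tensorMod B C)) hj
      (SecTwist.tmul A (CohB1.tensorMod B C) (V j) (a j) (SecTwist.tmul B C (V j) (b j) (c j))) =
      (uc * ub * ua) • res (CohB1.tensorMod A (CohB1.tensorMod B C)) hi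
        (SecTwist.tmul A (CohB1.tensorMod B C) (V i) (a i) (SecTwist.tmul B C (V i) (b i) (c i))) := by
    rw [m A _ hj, m A _ hi, m B C hj, m B C hi, hua, hub, huc, ProjCoh.tmul_smul_right B, smul_smul,
      ProjCoh.tmul_smul_left B, ProjCoh.tmul_smul_right A, smul_smul, ProjCoh.tmul_smul_left A]
  have e2 : res (CohB1.tensorMod (CohB1.tensorMod A B) C) hj
      (SecTwist.tmul (CohB1.tensorMod A B) C (V j) (SecTwist.tmul A B (V j) (a j) (b j)) (c j)) =
      (uc * (ub * ua)) • res (CohB1.tensorMod (CohB1.tensorMod A B) C) hi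
        (SecTwist.tmul (CohB1.tensorMod A B) C (V i) (SecTwist.tmul A B (V i) (a i) (b i)) (c i)) := by
    rw [m _ C hj, m _ C hi, m A B hj, m A B hi, hua, hub, huc, ProjCoh.tmul_smul_right A, smul_smul,
      ProjCoh.tmul_smul_left A, ProjCoh.tmul_smul_right (CohB1.tensorMod A B), smul_smul,
      ProjCoh.tmul_smul_left (CohB1.tensorMod A B)]
  rw [e2, ← mul_assoc, coef_unique (isBasis_res (isBasis_tmul (ha i) (isBasis_tmul (hb i) (hc i))) hi)
    (e1.symm.trans hu)]

/-- `L^1 ≅ L`. -/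
theorem nonempty_pow_one_iso (hL : PicF.IsInvertible L) : Nonempty (CohB1.tensorPow L 1 ≅ L) :=
  (trPow L 1).nonempty_iso (trIso (Iso.refl L)) hL

theorem exists_gen_pow_one (hL : PicF.IsInvertible L) (s : Γ(L, ⊤)) :
    ∃ σ : Γ(CohB1.tensorPow L 1, ⊤), genOpen (isInvertible_tensorPow hL 1) σ = genOpen hL s := by
  obtain ⟨e⟩ := nonempty_pow_one_iso hL
  exact ⟨_, gen_iff_of_iso hL (isInvertible_tensorPow hL 1) e.symm s⟩

/-- Invertible modules are quasi-coherent of finite type. -/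
theorem isCoh_of_isInvertible {M : X.Modules} (hM : PicF.IsInvertible M) : Coh.IsCoh M := by
  have := isQuasicoherent_of_isInvertible hM
  choose V hV hxV ℓ hℓ using fun x : X => show ∃ (V : X.Opens) (_ : IsAffineOpen V) (_ : x ∈ V)
      (ℓ : Γ(M, V)), IsBasis M ℓ by
    obtain ⟨U, hxU, ℓ, hℓ⟩ := exists_isBasis hM x
    obtain ⟨V, hV, hxV, hVU⟩ := exists_isAffineOpen_mem_and_subset hxU
    exact ⟨V, hV, hxV, _, isBasis_res hℓ (V := V) hVU⟩
  refine ⟨this, QCohLib.isFiniteType_of_affine_cover M (fun x => ⟨V x, hV x⟩) (fun x => ⟨x, hxV x⟩) fun x => ?_⟩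
  refine Module.Finite.of_surjective (LinearMap.toSpanSingleton Γ(X, V x) Γ(M, V x) (ℓ x)) fun m => ?_
  obtain ⟨c, hc⟩ := exists_coef (hℓ x) m
  exact ⟨c, hc.symm⟩

/-- Invertible modules: large twists by an ample module have sections without common zero. -/
theorem exists_gen_twist (hA : CohB1.IsAmple L) {M : X.Modules} (hM : PicF.IsInvertible M) :
    ∃ E : ℕ, ∀ n, E ≤ n → ∀ x : X, ∃ s : Γ(CohB1.tensorMod (CohB1.tensorPow L n) M, ⊤),
      x ∈ genOpen (isInvertible_tensorMod (isInvertible_tensorPow hA.1 n) hM) s := by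
  have hF : Coh.IsCoh M := isCoh_of_isInvertible hM
  obtain ⟨E, hE⟩ := exists_locSpan_twist hA hF
  refine ⟨E, fun n hn x => ?_⟩
  have hP := isInvertible_tensorMod hM (isInvertible_tensorPow hA.1 n)
  obtain ⟨s, hs⟩ := exists_gen hP (ProjTwist.generatedBy_of_locSpan _ _ (hE n hn)) x
  obtain ⟨e⟩ := nonempty_tensor_comm hM (isInvertible_tensorPow hA.1 n)
  refine ⟨_, (gen_iff_of_iso hP (isInvertible_tensorMod (isInvertible_tensorPow hA.1 n) hM) e s).ge ?_⟩
  exact hs

end Groth.Agent.InvPow
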