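import Groth.Agent.InvPow.VeryAmple
import Groth.Agent.InvPow.GloballyGenerated
import Groth.Prelude.Def_PicGrp

/-!
# Large powers of an ample sheaf times a fixed invertible sheaf are very ample
-/

set_option autoImplicit false
set_option synthInstance.maxHeartbeats 400000
set_option maxHeartbeats 1600000
universe u
open CategoryTheory CategoryTheory.Limits AlgebraicGeometry Opposite TopologicalSpace

namespace Groth.Agent.InvPow

open InvBasic ProjUniv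

variable {X : Scheme.{u}} {L M₀ : X.Modules} {R : Type u} [CommRing R] (q : X ⟶ Spec (CommRingCat.of R))

theorem gres_tmul {P Q : X.Modules} (s : Γ(P, ⊤)) (g : Γ(Q, ⊤)) (V : X.Opens) :
    gres (CohB1.tensorMod P Q) (SecTwist.tmul P Q ⊤ s g) V = SecTwist.tmul P Q V (gres P s V) (gres Q g V) :=
  SecTwist.map_tmul P Q (homOfLE le_top) s g

theorem genOpen_tmul {P Q : X.Modules} (hP : PicF.IsInvertible P) (hQ : PicF.IsInvertible Q) (s : Γ(P, ⊤))
    (g : Γ(Q, ⊤)) :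
    genOpen (isInvertible_tensorMod hP hQ) (SecTwist.tmul P Q ⊤ s g) = genOpen hP s ⊓ genOpen hQ g := by
  refine Opens.ext (Set.ext fun x => ?_)
  obtain ⟨U, hxU, a, ha⟩ := exists_isBasis hP x
  obtain ⟨U', hxU', b, hb⟩ := exists_isBasis hQ x
  obtain ⟨c, hc⟩ := exists_coef (isBasis_res ha (inf_le_left : U ⊓ U' ≤ U)) (gres P s (U ⊓ U'))
  obtain ⟨d, hd⟩ := exists_coef (isBasis_res hb (inf_le_right : U ⊓ U' ≤ U')) (gres Q g (U ⊓ U'))
  have h1 := genOpen_inf_eq_basicOpen hP (isBasis_res ha _) hc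
  have h2 := genOpen_inf_eq_basicOpen hQ (isBasis_res hb _) hd
  have h3 := genOpen_inf_eq_basicOpen (isInvertible_tensorMod hP hQ)
    (s := SecTwist.tmul P Q ⊤ s g) (c := d * c)
    (isBasis_tmul (isBasis_res ha (inf_le_left : U ⊓ U' ≤ U)) (isBasis_res hb (inf_le_right : U ⊓ U' ≤ U'))) (by
      rw [gres_tmul, hc, hd, ProjCoh.tmul_smul_right, smul_smul, ProjCoh.tmul_smul_left])
  rw [Scheme.basicOpen_mul] at h3
  exact ⟨fun h => ⟨(h1.ge (h3.le ⟨h, hxU, hxU'⟩).2).1, (h2.ge (h3.le ⟨h, hxU, hxU'⟩).1).1⟩,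
    fun h => (h3.ge ⟨h2.le ⟨h.2, hxU, hxU'⟩, h1.le ⟨h.1, hxU, hxU'⟩⟩).1⟩

theorem exists_bound_immersion_tensor [IsSeparated q] [LocallyOfFiniteType q] (hL : CohB1.IsAmple L)
    (hM : PicF.IsInvertible M₀) (hg : ∀ x, ∃ g : Γ(M₀, ⊤), x ∈ genOpen hM g) :
    ∃ n₀ : ℕ, ∀ n, n₀ ≤ n → ∃ (M : ℕ) (i : X ⟶ CohB1.ProjSpaceOver M (Spec (CommRingCat.of R))), IsImmersion i ∧
      i ≫ pullback.snd (CohB1.ProjSpace.toSpec M (ULift.{u} ℤ))
        (specULiftZIsTerminal.from (Spec (CommRingCat.of R))) = q ∧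
      Nonempty (CohB1.tensorMod (CohB1.tensorPow L n) M₀ ≅
        (Scheme.Modules.pullback i).obj (Twist.twistOver M (Spec (CommRingCat.of R)) 1)) := by
  classical
  obtain ⟨N, hN, ht⟩ := exists_uniform_sections hL
  have hinv := hL.1
  have hcpt := hL.2.1
  have : X.IsSeparated := ⟨by
    rw [← terminal.comp_from q]
    infer_instance⟩
  choose t hxt htaff using ht
  choose g hg using hg
  choose D hxD hDG hDaff E hE using fun (r : Fin N) x =>
    exists_chart_le q hinv r.1 (t x) x (hxt x) (htaff x) (genOpen hM (g x)) (hg x)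
  choose F hF using fun r => isCompact_univ.elim_finite_subcover (fun x => (D r x : Set X))
    (fun x => (D r x).2) (fun x _ => Set.mem_iUnion.mpr ⟨x, hxD r x⟩)
  let E₀ := Finset.univ.sup fun r => (F r).sup (E r)
  refine ⟨N * (E₀ + 1), fun n hn => ?_⟩
  obtain ⟨r, e, he, rfl⟩ : ∃ (r : Fin N) (e : ℕ), E₀ ≤ e ∧ n = r.1 + N * e := by
    refine ⟨⟨n % N, Nat.mod_lt _ hN⟩, n / N, ?_, (Nat.mod_add_div n N).symm⟩
    rw [Nat.le_div_iff_mul_le hN]
    calc E₀ * N ≤ N * (E₀ + 1) := by rw [mul_comm]; exact Nat.mul_le_mul_left _ (Nat.le_succ _)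
      _ ≤ n := hn
  have hEle : ∀ x : ↥(F r), E r x.1 ≤ e := fun x => ((Finset.le_sup x.2).trans
    (Finset.le_sup (f := fun r => (F r).sup (E r)) (Finset.mem_univ r))).trans he
  choose κ hκ w j hop hgen using fun x : ↥(F r) => hE r x.1 e (hEle x)
  have hLn := isInvertible_tensorPow hinv (r.1 + N * e)
  let T : (Σ x : ↥(F r), κ x) → ProjUP.Γm (CohB1.tensorMod (CohB1.tensorPow L (r.1 + N * e)) M₀) :=
    fun p => SecTwist.tmul (CohB1.tensorPow L (r.1 + N * e)) M₀ ⊤ (w p.1 p.2) (g p.1.1)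
  have hTD : ∀ x : ↥(F r), genOpen (isInvertible_tensorMod hLn hM) (T ⟨x, j x⟩) = D r x.1 := fun x => by
    refine (genOpen_tmul hLn hM (w x (j x)) (g x.1)).trans ?_
    rw [hop x]
    exact inf_eq_left.mpr (hDG r x.1)
  obtain ⟨M, i, hi, -, hiq, hiso⟩ := ProjSpaceBC.exists_immersion q (isInvertible_tensorMod hLn hM) T
    (Set.range fun x => (⟨x, j x⟩ : Σ x : ↥(F r), κ x))
    (fun y => by
      obtain ⟨x, hx, hyx⟩ := Set.mem_iUnion₂.mp (hF r (Set.mem_univ y))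
      exact ⟨_, ⟨⟨x, hx⟩, rfl⟩, (hTD ⟨x, hx⟩).ge hyx⟩)
    (by rintro _ ⟨x, rfl⟩; rw [hTD x]; exact hDaff r x.1)
    (by
      rintro _ ⟨x, rfl⟩
      rw [hTD x, eq_top_iff, ← hgen x]
      refine Subring.closure_mono (Set.union_subset_union_right _ ?_)
      rintro c ⟨k, hk⟩
      refine ⟨⟨x, k⟩, ?_⟩
      rw [gres_tmul, gres_tmul, hk, ProjCoh.tmul_smul_left])
  exact ⟨M, i, hi, hiq, hiso⟩

theorem exists_bound_immersion_twist [IsSeparated q] [LocallyOfFiniteType q] (hL : CohB1.IsAmple L)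
    {L' : X.Modules} (hL' : PicF.IsInvertible L') :
    ∃ n₀ : ℕ, ∀ n, n₀ ≤ n → ∃ (M : ℕ) (i : X ⟶ CohB1.ProjSpaceOver M (Spec (CommRingCat.of R))), IsImmersion i ∧
      i ≫ pullback.snd (CohB1.ProjSpace.toSpec M (ULift.{u} ℤ))
        (specULiftZIsTerminal.from (Spec (CommRingCat.of R))) = q ∧
      Nonempty (CohB1.tensorMod (CohB1.tensorPow L n) L' ≅
        (Scheme.Modules.pullback i).obj (Twist.twistOver M (Spec (CommRingCat.of R)) 1)) := by
  obtain ⟨a, ha⟩ := exists_gen_twist hL hL'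
  have hP := isInvertible_tensorMod (isInvertible_tensorPow hL.1 a) hL'
  obtain ⟨n₁, hn₁⟩ := exists_bound_immersion_tensor q hL hP (ha a le_rfl)
  refine ⟨n₁ + a, fun n hn => ?_⟩
  obtain ⟨m, hm, rfl⟩ : ∃ m, n₁ ≤ m ∧ n = m + a := ⟨n - a, by omega, by omega⟩
  obtain ⟨M, i, hi, hiq, ⟨τ⟩⟩ := hn₁ m hm
  obtain ⟨as⟩ := nonempty_tensor_assoc (isInvertible_tensorPow hL.1 m) (isInvertible_tensorPow hL.1 a) hL'
  obtain ⟨b⟩ := nonempty_pow_add_iso hL.1 m a
  exact ⟨M, i, hi, hiq, ⟨(as ≪≫ PicGrp.tensorModIso b (Iso.refl L')).symm ≪≫ τ⟩⟩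

end Groth.Agent.InvPow
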