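import Groth.Agent.InvPow.RelAmple
import Groth.Agent.InvPow.GloballyGenerated
import Groth.Agent.InvPow.VeryAmpleTwist
import Groth.Prelude.Def_PicGrp

/-!
# Relatively ample times the pullback of a high ample power
-/

set_option autoImplicit false
set_option synthInstance.maxHeartbeats 400000
set_option maxHeartbeats 1600000
universe u
open CategoryTheory CategoryTheory.Limits AlgebraicGeometry Opposite TopologicalSpace

namespace Groth.Agent.InvPow

open InvBasic ProjUniv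

variable {X Y : Scheme.{u}} {L : X.Modules} {K : Y.Modules}

theorem res_tmul (P Q : X.Modules) {A B : X.Opens} (h : B ≤ A) (s : Γ(P, A)) (t : Γ(Q, A)) :
    res (CohB1.tensorMod P Q) h (SecTwist.tmul P Q A s t) = SecTwist.tmul P Q B (res P h s) (res Q h t) :=
  SecTwist.map_tmul P Q (homOfLE h) s t

/-- `(A ⊗ B)^m ≅ A^m ⊗ B^m`. -/
theorem nonempty_tensor_pow_iso {A B : X.Modules} (hA : PicF.IsInvertible A) (hB : PicF.IsInvertible B) (m : ℕ) :
    Nonempty (CohB1.tensorPow (CohB1.tensorMod A B) m ≅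
      CohB1.tensorMod (CohB1.tensorPow A m) (CohB1.tensorPow B m)) := by
  choose V hxV a ha b hb using fun x : X => show ∃ (V : X.Opens) (_ : x ∈ V) (a : Γ(A, V)) (_ : IsBasis A a)
      (b : Γ(B, V)), IsBasis B b by
    obtain ⟨U, hx, a, ha⟩ := exists_isBasis hA x
    obtain ⟨U', hx', b, hb⟩ := exists_isBasis hB x
    exact ⟨U ⊓ U', ⟨hx, hx'⟩, _, isBasis_res ha inf_le_left, _, isBasis_res hb inf_le_right⟩
  refine nonempty_iso_of_bases (V := V) (a := fun x => pw (CohB1.tensorMod A B) (SecTwist.tmul A B (V x) (a x) (b x)) m)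
    (b := fun x => SecTwist.tmul (CohB1.tensorPow A m) (CohB1.tensorPow B m) (V x) (pw A (a x) m) (pw B (b x) m))
    (fun x => ⟨x, hxV x⟩) (fun x => isBasis_pw (isBasis_tmul (ha x) (hb x)) m) ?_
    (fun x => isBasis_tmul (isBasis_pw (ha x) m) (isBasis_pw (hb x) m))
  intro i j W hi hj u hu
  obtain ⟨c, hc⟩ := exists_coef (isBasis_res (ha i) hi) (res A hj (a j))
  obtain ⟨d, hd⟩ := exists_coef (isBasis_res (hb i) hi) (res B hj (b j))
  have e1 : res (CohB1.tensorPow (CohB1.tensorMod A B) m) hj (pw (CohB1.tensorMod A B) (SecTwist.tmul A B (V j) (a j) (b j)) m) =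
      (d * c) ^ m • res (CohB1.tensorPow (CohB1.tensorMod A B) m) hi (pw (CohB1.tensorMod A B) (SecTwist.tmul A B (V i) (a i) (b i)) m) := by
    rw [res_pw, res_pw, res_tmul A B hj, res_tmul A B hi, hc, hd, ProjCoh.tmul_smul_right, smul_smul,
      ProjCoh.tmul_smul_left, pw_smul]
  have e2 : res (CohB1.tensorMod (CohB1.tensorPow A m) (CohB1.tensorPow B m)) hj
      (SecTwist.tmul (CohB1.tensorPow A m) (CohB1.tensorPow B m) (V j) (pw A (a j) m) (pw B (b j) m)) =
      (d * c) ^ m • res (CohB1.tensorMod (CohB1.tensorPow A m) (CohB1.tensorPow B m)) hi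
      (SecTwist.tmul (CohB1.tensorPow A m) (CohB1.tensorPow B m) (V i) (pw A (a i) m) (pw B (b i) m)) := by
    rw [res_tmul _ _ hj, res_tmul _ _ hi, res_pw, res_pw, res_pw, res_pw, hc, hd, pw_smul, pw_smul,
      ProjCoh.tmul_smul_right, smul_smul, ProjCoh.tmul_smul_left, mul_pow]
  rw [e2, coef_unique (isBasis_res (isBasis_pw (isBasis_tmul (ha i) (hb i)) m) hi) (e1.symm.trans hu)]

theorem isSeparated_of_isRelAmple (f : X ⟶ Y) (h : RelAmple.IsRelAmple f L) : IsSeparated f :=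
  IsZariskiLocalAtTarget.of_forall_exists_morphismRestrict fun y => by
    obtain ⟨V, hV, hyV, -⟩ := exists_isAffineOpen_mem_and_subset (x := y) (U := ⊤) (Opens.mem_top y)
    have := isSeparated_of_isAmple (((isRelAmple_iff f).mp h).2 ⟨V, hV⟩)
    exact ⟨V, hyV, IsSeparated.of_comp (f ∣_ V) (terminal.from _)⟩

/-- Relatively ample times the pullback of a high power of an ample sheaf is ample. -/
theorem exists_isAmple_tensor_pullback (f : X ⟶ Y) (hK : CohB1.IsAmple K) (hL : RelAmple.IsRelAmple f L) :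
    ∃ n₀ : ℕ, 0 < n₀ ∧ ∀ n, n₀ ≤ n →
      CohB1.IsAmple (CohB1.tensorMod L ((Scheme.Modules.pullback f).obj (CohB1.tensorPow K n))) := by
  have := hK.2.1
  have := isSeparated_of_isAmple hK
  have := hL.1
  have := isSeparated_of_isRelAmple f hL
  have : CompactSpace X := QuasiCompact.compactSpace_of_compactSpace f
  have : X.IsSeparated := ⟨by rw [← terminal.comp_from f]; infer_instance⟩
  have hLi := isInvertible_of_isRelAmple hL
  let P := (Scheme.Modules.pullback f).obj K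
  have hP : PicF.IsInvertible P := ProjUniv.isInvertible_pullback f hK.1
  have key : ∀ x : X, ∃ E m, 0 < m ∧ ∃ D : X.Opens, x ∈ D ∧ IsAffineOpen D ∧ ∀ n, E ≤ n →
      ∃ σ : Γ(CohB1.tensorMod (CohB1.tensorPow L m) (CohB1.tensorPow P n), ⊤),
        genOpen (isInvertible_tensorMod (isInvertible_tensorPow hLi m) (isInvertible_tensorPow hP n)) σ = D := by
    intro x
    obtain ⟨U, hxU, ℓ, hℓ⟩ := exists_isBasis hK.1 (f x)
    obtain ⟨N, hN, t, hxt, hle, haff⟩ := exists_locus_le hK hxU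
    obtain ⟨t', ht'⟩ := (trPull f hK.1).exists_map hK.1 (k := N) (one_mul N) t
    generalize hY : genOpen (isInvertible_tensorPow hK.1 N) t = Yt at hxt hle haff ht'
    generalize hD : genOpen (isInvertible_tensorPow hP N) t' = D₀ at ht'
    have hD₀ : D₀ = f ⁻¹ᵁ Yt := ht'
    subst hD₀
    have hamp : AmpOn L (f ⁻¹ᵁ Yt) := ((isRelAmple_iff f).mp hL).2 ⟨Yt, haff⟩
    obtain ⟨m, hm, σ, hxσ, hσaff⟩ := affLoci_of_isAmple hamp ⟨x, hxt⟩
    obtain ⟨v, hv⟩ := exists_onOpen hLi (f ⁻¹ᵁ Yt) σ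
    have := isQuasicoherent_of_isInvertible (isInvertible_tensorPow hLi m)
    have hb : IsBasis P (pullLoc f K (res K hle ℓ)) := isBasis_pullLoc f hK.1 (isBasis_res hℓ hle)
    obtain ⟨E, hE⟩ := exists_extend_twist (CohB1.tensorPow L m) hP hN t' (f ⁻¹ᵁ Yt) hD hb v
    refine ⟨E + N, m, hm, (f ⁻¹ᵁ Yt).ι ''ᵁ genOpen (isInvertible_tensorPow hamp.1 m) σ, ⟨⟨x, hxt⟩, hxσ, rfl⟩,
      hσaff.image_of_isOpenImmersion _, fun n hn => ?_⟩
    obtain ⟨k, hk, rfl⟩ : ∃ k, E ≤ k ∧ n = k + N := ⟨n - N, by omega, by omega⟩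
    obtain ⟨w, a, hau, hw⟩ := hE k hk
    have h1 := isInvertible_tensorMod (isInvertible_tensorPow hLi m) (isInvertible_tensorPow hP k)
    have h2 := isInvertible_tensorPow hP N
    obtain ⟨as⟩ := nonempty_tensor_assoc (isInvertible_tensorPow hLi m) (isInvertible_tensorPow hP k) h2
    obtain ⟨b⟩ := nonempty_pow_add_iso hP k N
    refine ⟨_, (gen_iff_of_iso (isInvertible_tensorMod h1 h2)
      (isInvertible_tensorMod (isInvertible_tensorPow hLi m) (isInvertible_tensorPow hP (k + N)))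
      (as.symm ≪≫ PicGrp.tensorModIso (Iso.refl _) b) (SecTwist.tmul _ _ ⊤ w t')).trans ?_⟩
    refine (genOpen_tmul h1 h2 w t').trans ?_
    rw [hD]
    refine Opens.ext (Set.ext fun y => ?_)
    by_cases hy : y ∈ f ⁻¹ᵁ Yt
    · obtain ⟨A, hA, α, c, hyA, hα, hc, hbo⟩ := hv y hy
      have e := congrArg (res _ hA) hw
      rw [res_gres, res_tw, res_smul, hc, smul_smul, smul_tw] at e
      have h3 := genOpen_inf_eq_basicOpen h1
        (isBasis_tmul (isBasis_pw hα m) (isBasis_pw (isBasis_res hb hA) k)) e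
      rw [Scheme.basicOpen_mul, Scheme.basicOpen_of_isUnit _ (hau.map (X.presheaf.map (homOfLE hA).op).hom)] at h3
      constructor
      · intro hh
        exact ⟨⟨y, hy⟩, (hbo.ge (show (⟨y, hy⟩ : (f ⁻¹ᵁ Yt : X.Opens)) ∈ (f ⁻¹ᵁ Yt).ι ⁻¹ᵁ X.basicOpen c from
          (h3.le ⟨hh.1, hyA⟩).2)).1, rfl⟩
      · rintro ⟨z, hz, rfl⟩
        exact ⟨(h3.ge ⟨hyA, hbo.le ⟨hz, hyA⟩⟩).1, hy⟩
    · refine ⟨fun hh => absurd hh.2 hy, ?_⟩
      rintro ⟨z, -, rfl⟩
      exact absurd z.2 hy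
  choose E m hm D hxD hDaff hD using key
  obtain ⟨S, hS⟩ := isCompact_univ.elim_finite_subcover (fun x => (D x : Set X)) (fun x => (D x).2)
    (fun x _ => Set.mem_iUnion.mpr ⟨x, hxD x⟩)
  refine ⟨S.sup E + 1, Nat.succ_pos _, fun n hn => ?_⟩
  have hKn := ProjUniv.isInvertible_pullback f (isInvertible_tensorPow hK.1 n)
  refine isAmple_of_affLoci (isInvertible_tensorMod hLi hKn) fun y => ?_
  obtain ⟨x, hxS, hyx⟩ := Set.mem_iUnion₂.mp (hS (Set.mem_univ y))
  obtain ⟨σ, hσ⟩ := hD x (n * m x) (le_trans ((Finset.le_sup hxS).trans (by omega)) (Nat.le_mul_of_pos_right n (hm x)))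
  obtain ⟨i1⟩ := nonempty_tensor_pow_iso hLi hKn (m x)
  obtain ⟨i2⟩ := nonempty_pullback_pow_iso f (isInvertible_tensorPow hK.1 n) (m x)
  obtain ⟨i3⟩ := nonempty_pow_mul_iso hK.1 n (m x)
  obtain ⟨i4⟩ := nonempty_pullback_pow_iso f hK.1 (n * m x)
  let τ := PicGrp.tensorModIso (Iso.refl (CohB1.tensorPow L (m x)))
    (i4.symm ≪≫ (Scheme.Modules.pullback f).mapIso i3.symm ≪≫ i2) ≪≫ i1.symm
  have e := (gen_iff_of_iso (isInvertible_tensorMod (isInvertible_tensorPow hLi (m x)) (isInvertible_tensorPow hP _))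
    (isInvertible_tensorPow (isInvertible_tensorMod hLi hKn) (m x)) τ σ).trans hσ
  exact ⟨m x, hm x, _, e.ge hyx, e ▸ hDaff x⟩

end Groth.Agent.InvPow
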