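import Groth.Agent.InvPow.Transfer

/-!
# Invertible modules with matching local bases are isomorphic
-/

set_option autoImplicit false
set_option synthInstance.maxHeartbeats 400000
set_option maxHeartbeats 800000
universe u
open CategoryTheory AlgebraicGeometry Opposite TopologicalSpace

namespace Groth.Agent.InvPow

open InvBasic ProjUniv

variable {X Y : Scheme.{u}} {M N : X.Modules} {ι : Type u} {V : ι → X.Opens}
  (a : ∀ i, Γ(M, V i)) (b : ∀ i, Γ(N, V i))

/-- The transition laws of `a` imply those of `b`. -/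
def Compat : Prop := ∀ i j (W : X.Opens) (hi : W ≤ V i) (hj : W ≤ V j) (u : Γ(X, W)),
  res M hj (a j) = u • res M hi (a i) → res N hj (b j) = u • res N hi (b i)

/-- `t` has the same coefficients as `q`. -/
def SameCoef (U : X.Opens) (q : Γ(M, U)) (t : Γ(N, U)) : Prop :=
  ∀ i (W : X.Opens) (hU : W ≤ U) (hi : W ≤ V i) (c : Γ(X, W)),
    res M hU q = c • res M hi (a i) → res N hU t = c • res N hi (b i)

variable {a b} (hV : ∀ x, ∃ i, x ∈ V i) (ha : ∀ i, IsBasis M (a i)) (h : Compat a b)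

include hV ha h in
theorem existsUnique_sameCoef (U : X.Opens) (q : Γ(M, U)) : ∃! t, SameCoef a b U q t := by
  choose c hc using fun i => exists_coef (isBasis_res (ha i) (inf_le_right : U ⊓ V i ≤ V i))
    (res M (inf_le_left : U ⊓ V i ≤ U) q)
  have hcov : U ≤ ⨆ i, U ⊓ V i := fun x hx => by
    obtain ⟨i, hi⟩ := hV x
    exact Opens.mem_iSup.mpr ⟨i, hx, hi⟩
  obtain ⟨t, ht, huniq⟩ := TopCat.Sheaf.existsUnique_gluing' ⟨N.presheaf, N.isSheaf⟩ (fun i => U ⊓ V i) U
    (fun i => homOfLE inf_le_left) hcov (fun i => c i • res N (inf_le_right : U ⊓ V i ≤ V i) (b i)) fun i j => by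
      change res N (inf_le_left : U ⊓ V i ⊓ (U ⊓ V j) ≤ U ⊓ V i) _ =
        res N (inf_le_right : U ⊓ V i ⊓ (U ⊓ V j) ≤ U ⊓ V j) _
      rw [res_smul, res_smul, res_res, res_res]
      have ei := congrArg (res M (inf_le_left : U ⊓ V i ⊓ (U ⊓ V j) ≤ U ⊓ V i)) (hc i)
      have ej := congrArg (res M (inf_le_right : U ⊓ V i ⊓ (U ⊓ V j) ≤ U ⊓ V j)) (hc j)
      rw [res_res, res_smul, res_res] at ei ej
      obtain ⟨u, hu⟩ := exists_coef (isBasis_res (ha i) (inf_le_left.trans inf_le_right : U ⊓ V i ⊓ (U ⊓ V j) ≤ V i))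
        (res M (inf_le_right.trans inf_le_right : U ⊓ V i ⊓ (U ⊓ V j) ≤ V j) (a j))
      rw [hu, smul_smul] at ej
      rw [h i j _ _ _ u hu, smul_smul, coef_unique (isBasis_res (ha i) _) (ei.symm.trans ej)]
  refine ⟨t, fun i W hU hi d hd => ?_, fun t' ht' => huniq t' fun i => ht' i _ inf_le_left inf_le_right _ (hc i)⟩
  have e : res N (inf_le_left : U ⊓ V i ≤ U) t = c i • res N (inf_le_right : U ⊓ V i ≤ V i) (b i) := ht i
  have e' := congrArg (res N (le_inf hU hi)) e
  rw [res_res, res_smul, res_res] at e'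
  rw [e']
  refine congrArg (· • res N hi (b i)) (coef_unique (isBasis_res (ha i) hi) ?_)
  have e'' := congrArg (res M (le_inf hU hi)) (hc i)
  rw [res_res, res_smul, res_res] at e''
  exact e''.symm.trans hd

/-- The section with the same coefficients. -/
noncomputable def coefMap (U : X.Opens) (q : Γ(M, U)) : Γ(N, U) := (existsUnique_sameCoef hV ha h U q).choose

theorem sameCoef_coefMap (U : X.Opens) (q : Γ(M, U)) : SameCoef a b U q (coefMap hV ha h U q) :=
  (existsUnique_sameCoef hV ha h U q).choose_spec.1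

theorem coefMap_eq {U : X.Opens} {q : Γ(M, U)} {t : Γ(N, U)} (ht : SameCoef a b U q t) :
    coefMap hV ha h U q = t := ((existsUnique_sameCoef hV ha h U q).choose_spec.2 t ht).symm

/-- The morphism preserving coefficients. -/
noncomputable def coefHom : M ⟶ N :=
  ⟨PresheafOfModules.homMk
    { app := fun U => AddCommGrpCat.ofHom (AddMonoidHom.mk' (fun q => coefMap hV ha h U.unop q)
        fun q q' => coefMap_eq hV ha h fun i W hU hi d hd => by
          obtain ⟨c₁, h₁⟩ := exists_coef (isBasis_res (ha i) hi) (res M hU q)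
          have h₂ : res M hU q' = (d - c₁) • res M hi (a i) := by
            rw [sub_smul, ← hd, ← h₁, show res M hU (q + q') = res M hU q + res M hU q' from map_add _ _ _,
              add_sub_cancel_left]
          show res N hU (_ + _) = _
          rw [show ∀ x y : Γ(N, U.unop), res N hU (x + y) = res N hU x + res N hU y from fun x y => map_add _ x y,
            sameCoef_coefMap hV ha h _ q i W hU hi c₁ h₁, sameCoef_coefMap hV ha h _ q' i W hU hi _ h₂, ← add_smul,
            add_sub_cancel])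
      naturality := fun {U U'} g => by
        ext q
        refine coefMap_eq hV ha h fun i W hU hi d hd => ?_
        have hd' : res M (hU.trans (leOfHom g.unop)) q = d • res M hi (a i) := by
          rw [← hd]; exact (res_res M (leOfHom g.unop) hU q).symm
        have := sameCoef_coefMap hV ha h U.unop q i W (hU.trans (leOfHom g.unop)) hi d hd'
        rw [← this]
        exact res_res N (leOfHom g.unop) hU _ }
    (fun U r q => coefMap_eq hV ha h fun i W hU hi d hd => by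
      obtain ⟨c₁, h₁⟩ := exists_coef (isBasis_res (ha i) hi) (res M hU q)
      have hd' : res M hU ((show Γ(X, U.unop) from r) • (show Γ(M, U.unop) from q)) = d • res M hi (a i) := hd
      rw [res_smul, h₁, smul_smul] at hd'
      rw [← coef_unique (isBasis_res (ha i) hi) hd']
      show res N hU ((show Γ(X, U.unop) from r) • coefMap hV ha h U.unop q) = _
      refine (res_smul _ _ _ _).trans ?_
      rw [sameCoef_coefMap hV ha h _ q i W hU hi c₁ h₁, smul_smul])⟩

theorem coefHom_app (U : X.Opens) (q : Γ(M, U)) : (coefHom hV ha h).app U q = coefMap hV ha h U q := rfl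

include hV ha h in
/-- Modules with bases obeying the same transition laws are isomorphic. -/
theorem nonempty_iso_of_bases (hb : ∀ i, IsBasis N (b i)) : Nonempty (M ≅ N) := by
  have h' : Compat b a := fun i j W hi hj u hu => by
    obtain ⟨u', hu'⟩ := exists_coef (isBasis_res (ha i) hi) (res M hj (a j))
    rw [hu', coef_unique (isBasis_res (hb i) hi) ((h i j W hi hj u' hu').symm.trans hu)]
  refine ⟨⟨coefHom hV ha h, coefHom hV hb h', ?_, ?_⟩⟩
  · refine Scheme.Modules.hom_ext _ _ fun U => ?_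
    ext q
    refine coefMap_eq hV hb h' fun i W hU hi d hd => ?_
    obtain ⟨c, hc⟩ := exists_coef (isBasis_res (ha i) hi) (res M hU q)
    have e : res N hU (coefMap hV ha h U q) = c • res N hi (b i) := sameCoef_coefMap hV ha h U q i W hU hi c hc
    rw [← coef_unique (isBasis_res (hb i) hi) (e.symm.trans hd)]
    exact hc
  · refine Scheme.Modules.hom_ext _ _ fun U => ?_
    ext q
    refine coefMap_eq hV ha h fun i W hU hi d hd => ?_
    obtain ⟨c, hc⟩ := exists_coef (isBasis_res (hb i) hi) (res N hU q)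
    have e : res M hU (coefMap hV hb h' U q) = c • res M hi (a i) := sameCoef_coefMap hV hb h' U q i W hU hi c hc
    rw [← coef_unique (isBasis_res (ha i) hi) (e.symm.trans hd)]
    exact hc

/-- Two rules with the same exponent give isomorphic modules. -/
theorem Tr.nonempty_iso {L : X.Modules} {f : Y ⟶ X} {M N : Y.Modules} {e : ℕ} (T : Tr f L M e) (T' : Tr f L N e)
    (hL : PicF.IsInvertible L) : Nonempty (M ≅ N) := by
  choose V hxV ℓ hℓ using exists_isBasis hL
  refine nonempty_iso_of_bases (V := fun y : Y => f ⁻¹ᵁ V (f y)) (a := fun y => T.β (ℓ (f y)))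
    (b := fun y => T'.β (ℓ (f y))) (fun y => ⟨y, hxV (f y)⟩) (fun y => T.basis (hℓ _)) ?_ fun y => T'.basis (hℓ _)
  intro i j W hi hj u hu
  have h1 : V (f i) ⊓ V (f j) ≤ V (f i) := inf_le_left
  have h2 : V (f i) ⊓ V (f j) ≤ V (f j) := inf_le_right
  have hW : W ≤ f ⁻¹ᵁ (V (f i) ⊓ V (f j)) := fun y hy => ⟨hi hy, hj hy⟩
  obtain ⟨u₀, hu₀⟩ := exists_coef (isBasis_res (hℓ (f i)) h1) (res L h2 (ℓ (f j)))
  have key : ∀ {P : Y.Modules} (S : Tr f L P e), res P hj (S.β (ℓ (f j))) =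
      resR hW ((f.app _ u₀ : Γ(Y, f ⁻¹ᵁ (V (f i) ⊓ V (f j)))) ^ e) • res P hi (S.β (ℓ (f i))) := by
    intro P S
    have e1 : res P hW (S.β (res L h2 (ℓ (f j)))) = res P hj (S.β (ℓ (f j))) := by rw [← S.nat, res_res]
    have e2 : res P hW (S.β (res L h1 (ℓ (f i)))) = res P hi (S.β (ℓ (f i))) := by rw [← S.nat, res_res]
    rw [← e1, ← e2, hu₀, S.smul, res_smul]
  rw [key T'] at *
  rw [key T] at hu
  rw [coef_unique (isBasis_res (T.basis (hℓ (f i))) hi) hu]

/-- `f^*(L^n) ≅ (f^*L)^n`. -/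
theorem nonempty_pullback_pow_iso {L : X.Modules} (f : Y ⟶ X) (hL : PicF.IsInvertible L) (n : ℕ) :
    Nonempty ((Scheme.Modules.pullback f).obj (CohB1.tensorPow L n) ≅
      CohB1.tensorPow ((Scheme.Modules.pullback f).obj L) n) := by
  let A : Tr f L ((Scheme.Modules.pullback f).obj (CohB1.tensorPow L n)) n :=
    { β := fun {_} ℓ => pullLoc f _ (pw L ℓ n)
      basis := fun h => isBasis_pullLoc f (isInvertible_tensorPow hL n) (isBasis_pw h n)
      nat := fun h ℓ => by rw [res_pullLoc, res_pw]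
      smul := fun c ℓ => by rw [pw_smul, pullLoc_smul, map_pow] }
  let B : Tr f L (CohB1.tensorPow ((Scheme.Modules.pullback f).obj L) n) n :=
    { β := fun {_} ℓ => pw _ (pullLoc f L ℓ) n
      basis := fun h => isBasis_pw (isBasis_pullLoc f hL h) n
      nat := fun h ℓ => by rw [res_pw, res_pullLoc]
      smul := fun c ℓ => by rw [pullLoc_smul, pw_smul] }
  exact A.nonempty_iso B hL

/-- `f^*(L ⊗ L') ≅ f^*L ⊗ f^*L'`. -/
theorem nonempty_pullback_tensor_iso {L L' : X.Modules} (f : Y ⟶ X) (hL : PicF.IsInvertible L)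
    (hL' : PicF.IsInvertible L') :
    Nonempty ((Scheme.Modules.pullback f).obj (CohB1.tensorMod L L') ≅
      CohB1.tensorMod ((Scheme.Modules.pullback f).obj L) ((Scheme.Modules.pullback f).obj L')) := by
  choose V hxV ℓ hℓ ℓ' hℓ' using fun x : X => show ∃ (V : X.Opens) (_ : x ∈ V) (ℓ : Γ(L, V)) (_ : IsBasis L ℓ)
      (ℓ' : Γ(L', V)), IsBasis L' ℓ' by
    obtain ⟨U, hx, ℓ, hℓ⟩ := exists_isBasis hL x
    obtain ⟨U', hx', ℓ', hℓ'⟩ := exists_isBasis hL' x
    exact ⟨U ⊓ U', ⟨hx, hx'⟩, _, isBasis_res hℓ inf_le_left, _, isBasis_res hℓ' inf_le_right⟩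
  let P := (Scheme.Modules.pullback f).obj L
  let P' := (Scheme.Modules.pullback f).obj L'
  refine nonempty_iso_of_bases (V := fun y : Y => f ⁻¹ᵁ V (f y))
    (a := fun y => pullLoc f _ (SecTwist.tmul L L' (V (f y)) (ℓ (f y)) (ℓ' (f y))))
    (b := fun y => SecTwist.tmul P P' (f ⁻¹ᵁ V (f y)) (pullLoc f L (ℓ (f y))) (pullLoc f L' (ℓ' (f y))))
    (fun y => ⟨y, hxV (f y)⟩) (fun y => isBasis_pullLoc f (isInvertible_tensorMod hL hL') (isBasis_tmul (hℓ _) (hℓ' _)))
    ?_ fun y => isBasis_tmul (isBasis_pullLoc f hL (hℓ _)) (isBasis_pullLoc f hL' (hℓ' _))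
  intro i j W hi hj u hu
  have h1 : V (f i) ⊓ V (f j) ≤ V (f i) := inf_le_left
  have h2 : V (f i) ⊓ V (f j) ≤ V (f j) := inf_le_right
  have hW : W ≤ f ⁻¹ᵁ (V (f i) ⊓ V (f j)) := fun y hy => ⟨hi hy, hj hy⟩
  obtain ⟨u₀, hu₀⟩ := exists_coef (isBasis_res (hℓ (f i)) h1) (res L h2 (ℓ (f j)))
  obtain ⟨u₁, hu₁⟩ := exists_coef (isBasis_res (hℓ' (f i)) h1) (res L' h2 (ℓ' (f j)))
  let w : Γ(Y, W) := resR hW ((f.app _ (u₁ * u₀) : Γ(Y, f ⁻¹ᵁ (V (f i) ⊓ V (f j)))))
  have m : ∀ {A : X.Opens} {B : X.Opens} (h : B ≤ A) (s : Γ(L, A)) (t : Γ(L', A)),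
      res (CohB1.tensorMod L L') h (SecTwist.tmul L L' A s t) = SecTwist.tmul L L' B (res L h s) (res L' h t) :=
    fun h s t => SecTwist.map_tmul L L' (homOfLE h) s t
  have m' : ∀ {A : Y.Opens} {B : Y.Opens} (h : B ≤ A) (s : Γ(P, A)) (t : Γ(P', A)),
      res (CohB1.tensorMod P P') h (SecTwist.tmul P P' A s t) = SecTwist.tmul P P' B (res P h s) (res P' h t) :=
    fun h s t => SecTwist.map_tmul P P' (homOfLE h) s t
  have ka : ∀ k (hk : W ≤ f ⁻¹ᵁ V (f k)) (hk' : V (f i) ⊓ V (f j) ≤ V (f k)),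
      res _ hk (pullLoc f (CohB1.tensorMod L L') (SecTwist.tmul L L' (V (f k)) (ℓ (f k)) (ℓ' (f k)))) =
        res _ hW (pullLoc f (CohB1.tensorMod L L')
          (SecTwist.tmul L L' _ (res L hk' (ℓ (f k))) (res L' hk' (ℓ' (f k))))) := fun k hk hk' => by
    rw [← m, ← res_pullLoc f _ hk', res_res]
  have kb : ∀ k (hk : W ≤ f ⁻¹ᵁ V (f k)) (hk' : V (f i) ⊓ V (f j) ≤ V (f k)),
      res (CohB1.tensorMod P P') hk (SecTwist.tmul P P' (f ⁻¹ᵁ V (f k)) (pullLoc f L (ℓ (f k))) (pullLoc f L' (ℓ' (f k)))) =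
        res (CohB1.tensorMod P P') hW (SecTwist.tmul P P' (f ⁻¹ᵁ (V (f i) ⊓ V (f j))) (pullLoc f L (res L hk' (ℓ (f k))))
          (pullLoc f L' (res L' hk' (ℓ' (f k))))) := fun k hk hk' => by
    rw [← res_pullLoc f L hk', ← res_pullLoc f L' hk',
      ← m' (show f ⁻¹ᵁ (V (f i) ⊓ V (f j)) ≤ f ⁻¹ᵁ V (f k) from fun y hy => hk' hy), res_res]
  have e1 : res _ hj (pullLoc f (CohB1.tensorMod L L') (SecTwist.tmul L L' (V (f j)) (ℓ (f j)) (ℓ' (f j)))) =
      w • res _ hi (pullLoc f (CohB1.tensorMod L L') (SecTwist.tmul L L' (V (f i)) (ℓ (f i)) (ℓ' (f i)))) := by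
    rw [ka j hj h2, ka i hi h1, hu₀, hu₁, ProjCoh.tmul_smul_right, smul_smul, ProjCoh.tmul_smul_left, pullLoc_smul,
      res_smul]
  have e2 : res (CohB1.tensorMod P P') hj (SecTwist.tmul P P' (f ⁻¹ᵁ V (f j)) (pullLoc f L (ℓ (f j))) (pullLoc f L' (ℓ' (f j)))) =
      w • res (CohB1.tensorMod P P') hi (SecTwist.tmul P P' (f ⁻¹ᵁ V (f i)) (pullLoc f L (ℓ (f i))) (pullLoc f L' (ℓ' (f i)))) := by
    rw [kb j hj h2, kb i hi h1, hu₀, hu₁, pullLoc_smul, pullLoc_smul, ProjCoh.tmul_smul_right, smul_smul,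
      ProjCoh.tmul_smul_left, res_smul, ← map_mul]
  rw [e2]
  refine congrArg (· • _) ?_
  exact coef_unique (isBasis_res (isBasis_pullLoc f (isInvertible_tensorMod hL hL') (isBasis_tmul (hℓ _) (hℓ' _))) hi)
    (e1.symm.trans hu)

/-- `L^a ⊗ L^b ≅ L^(a+b)`. -/
theorem nonempty_pow_add_iso {L : X.Modules} (hL : PicF.IsInvertible L) (k l : ℕ) :
    Nonempty (CohB1.tensorMod (CohB1.tensorPow L k) (CohB1.tensorPow L l) ≅ CohB1.tensorPow L (k + l)) := by
  let A : Tr (𝟙 X) L (CohB1.tensorMod (CohB1.tensorPow L k) (CohB1.tensorPow L l)) (k + l) :=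
    { β := fun {U} ℓ => SecTwist.tmul _ _ U (pw L ℓ k) (pw L ℓ l)
      basis := fun h => isBasis_tmul (isBasis_pw h k) (isBasis_pw h l)
      nat := fun {U U'} h ℓ => by
        refine (SecTwist.map_tmul _ _ (homOfLE h) _ _).trans ?_
        exact congr (congrArg (SecTwist.tmul (CohB1.tensorPow L k) (CohB1.tensorPow L l) U') (res_pw h ℓ k))
          (res_pw h ℓ l)
      smul := fun {U} c ℓ => by
        rw [pw_smul, pw_smul, ProjCoh.tmul_smul_right, smul_smul, ProjCoh.tmul_smul_left, ← pow_add, add_comm l k]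
        rfl }
  exact A.nonempty_iso (trPow L (k + l)) hL

/-- `(L^a)^b ≅ L^(ab)`. -/
theorem nonempty_pow_mul_iso {L : X.Modules} (hL : PicF.IsInvertible L) (k l : ℕ) :
    Nonempty (CohB1.tensorPow (CohB1.tensorPow L k) l ≅ CohB1.tensorPow L (k * l)) := by
  let A : Tr (𝟙 X) L (CohB1.tensorPow (CohB1.tensorPow L k) l) (k * l) :=
    { β := fun {U} ℓ => pw _ (pw L ℓ k) l
      basis := fun h => isBasis_pw (isBasis_pw h k) l
      nat := fun {U U'} h ℓ => by
        refine (res_pw h (pw L ℓ k) l).trans ?_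
        rw [res_pw h ℓ k]
      smul := fun {U} c ℓ => by
        rw [pw_smul, pw_smul, ← pow_mul]
        rfl }
  exact A.nonempty_iso (trPow L (k * l)) hL

end Groth.Agent.InvPow
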