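import Groth.Agent.InvPow.Basic
import Groth.Agent.ProjTwist.Ample

/-!
# Non-vanishing loci of morphisms from the structure sheaf
-/

set_option autoImplicit false
set_option synthInstance.maxHeartbeats 400000
universe u
open CategoryTheory AlgebraicGeometry Opposite TopologicalSpace

namespace Groth.Agent.InvPow

open InvBasic ProjUniv

variable {X : Scheme.{u}} {L : X.Modules}

theorem exists_globalHom_eq (s : Coh.structureModule X ⟶ L) :
    ∃ σ : Γ(L, ⊤), ProjTwist.globalHom L σ = s := ⟨s.app ⊤ (1 : Γ(X, ⊤)), by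
  refine Scheme.Modules.hom_ext _ _ (fun V => AddCommGrpCat.ext ?_)
  intro (r : Γ(X, V))
  rw [ProjTwist.globalHom_app]
  refine Eq.trans ?_ (congrArg (s.app V) (mul_one r))
  refine Eq.trans ?_ (Scheme.Modules.Hom.app_smul s r (1 : Γ(X, V))).symm
  congr 1
  refine (Groth.Agent.QCohLib.app_map s (le_top : V ≤ ⊤) (1 : Γ(X, ⊤))).symm.trans ?_
  exact congrArg (s.app V) (map_one (X.presheaf.map (homOfLE (le_top : V ≤ ⊤)).op).hom)⟩

/-- The locus of a section as a morphism is the locus where it generates. -/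
theorem genLocus_globalHom (hL : PicF.IsInvertible L) (σ : Γ(L, ⊤)) :
    CohB1.genLocus L (ProjTwist.globalHom L σ) = genOpen hL σ := by
  refine le_antisymm (sSup_le fun U hU x hx => ?_) (le_sSup ?_)
  · refine gen_of_isBasis (L := L) (s := σ) (U := U) (fun W hW => ?_) hx
    obtain ⟨W', rfl⟩ : ∃ W' : (U : Scheme).Opens, U.ι ''ᵁ W' = W := ⟨U.ι ⁻¹ᵁ W, by
      rw [Scheme.Hom.image_preimage_eq_opensRange_inf, Scheme.Opens.opensRange_ι, inf_eq_right]
      exact hW⟩
    have h1 := (ProjTwist.isIso_restrict_globalHom_iff L σ U).mp hU W'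
    simp only [Groth.Agent.QCohLib.map_map]
    exact h1
  · show IsIso _
    rw [ProjTwist.isIso_restrict_globalHom_iff]
    intro V
    have hle : (genOpen hL σ).ι ''ᵁ V ≤ genOpen hL σ := by
      rintro _ ⟨z, -, rfl⟩
      exact z.2
    have h1 := isBasis_genOpen hL σ _ hle
    simp only [Groth.Agent.QCohLib.map_map] at h1
    exact h1

end Groth.Agent.InvPow
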