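import Groth.Agent.InvPow.PullBasisLocal
import Groth.Agent.InvPow.Locus

/-!
# Transporting sections of tensor powers
-/

set_option autoImplicit false
set_option synthInstance.maxHeartbeats 400000
set_option maxHeartbeats 800000
universe u
open CategoryTheory AlgebraicGeometry Opposite TopologicalSpace

namespace Groth.Agent.InvPow

open InvBasic ProjUniv

variable {X Y : Scheme.{u}}

/-- A rule carrying bases of `L` to bases of `M`, multiplying scalars by `e`-th powers. -/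
structure Tr (f : Y ⟶ X) (L : X.Modules) (M : Y.Modules) (e : ℕ) where
  /-- The rule on local sections. -/
  β : ∀ {U : X.Opens}, Γ(L, U) → Γ(M, f ⁻¹ᵁ U)
  basis : ∀ {U : X.Opens} {ℓ : Γ(L, U)}, IsBasis L ℓ → IsBasis M (β ℓ)
  nat : ∀ {U U' : X.Opens} (h : U' ≤ U) (ℓ : Γ(L, U)),
    res M (show f ⁻¹ᵁ U' ≤ f ⁻¹ᵁ U from fun _ hy => h hy) (β ℓ) = β (res L h ℓ)
  smul : ∀ {U : X.Opens} (c : Γ(X, U)) (ℓ : Γ(L, U)), β (c • ℓ) = (f.app U c : Γ(Y, f ⁻¹ᵁ U)) ^ e • β ℓ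

variable {f : Y ⟶ X} {L : X.Modules} {M : Y.Modules} {e : ℕ}

theorem res_app {U U' : X.Opens} (h : U' ≤ U) (c : Γ(X, U)) :
    resR (show f ⁻¹ᵁ U' ≤ f ⁻¹ᵁ U from fun _ hy => h hy) (f.app U c) = f.app U' (resR h c) :=
  (ConcreteCategory.congr_hom (f.naturality (homOfLE h).op) c).symm

namespace Tr

theorem isInvertible (T : Tr f L M e) (hL : PicF.IsInvertible L) : PicF.IsInvertible M :=
  isInvertible_of_isBasis fun y => by
    obtain ⟨U, hU, ℓ, hℓ⟩ := exists_isBasis hL (f y)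
    exact ⟨f ⁻¹ᵁ U, hU, _, T.basis hℓ⟩

theorem congr (T : Tr f L M e) {k : ℕ} {U : X.Opens} {ℓ ℓ' : Γ(L, U)} (hℓ : IsBasis L ℓ) {c c' : Γ(X, U)}
    (h : c • pw L ℓ (e * k) = c' • pw L ℓ' (e * k)) :
    (f.app U c : Γ(Y, f ⁻¹ᵁ U)) • pw M (T.β ℓ) k = (f.app U c' : Γ(Y, f ⁻¹ᵁ U)) • pw M (T.β ℓ') k := by
  obtain ⟨u, rfl⟩ := exists_coef hℓ ℓ'
  rw [pw_smul, smul_smul] at h
  rw [T.smul, pw_smul, smul_smul, coef_unique (isBasis_pw hℓ _) h, map_mul, map_pow, ← pow_mul]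

/-- A section of a power of `L` gives a section of a power of `M`. -/
theorem exists_map (T : Tr f L M e) (hL : PicF.IsInvertible L) {n k : ℕ} (hn : e * k = n)
    (s : Γ(CohB1.tensorPow L n, ⊤)) :
    ∃ σ : Γ(CohB1.tensorPow M k, ⊤), genOpen (isInvertible_tensorPow (T.isInvertible hL) k) σ =
      f ⁻¹ᵁ genOpen (isInvertible_tensorPow hL n) s := by
  subst hn
  choose V hxV ℓ hℓ using exists_isBasis hL
  choose c hc using fun x => exists_coef (isBasis_pw (hℓ x) (e * k)) (gres (CohB1.tensorPow L (e * k)) s (V x))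
  obtain ⟨σ, hσ⟩ := exists_glue_sections (CohB1.tensorPow M k) (fun y : Y => f ⁻¹ᵁ V (f y))
    (fun y => ⟨y, hxV (f y)⟩) (fun y => (f.app (V (f y)) (c (f y)) : Γ(Y, f ⁻¹ᵁ V (f y))) • pw M (T.β (ℓ (f y))) k)
    fun y z => by
      have h1 := congrArg (res (CohB1.tensorPow L (e * k)) (inf_le_left : V (f y) ⊓ V (f z) ≤ V (f y))) (hc (f y))
      have h2 := congrArg (res (CohB1.tensorPow L (e * k)) (inf_le_right : V (f y) ⊓ V (f z) ≤ V (f z))) (hc (f z))
      rw [res_gres, res_smul, res_pw] at h1 h2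
      have h3 := T.congr (k := k) (isBasis_res (hℓ (f y)) (inf_le_left : V (f y) ⊓ V (f z) ≤ V (f y))) (h1.symm.trans h2)
      change res (CohB1.tensorPow M k) (show f ⁻¹ᵁ (V (f y) ⊓ V (f z)) ≤ f ⁻¹ᵁ V (f y) from fun _ h => h.1) _ =
        res (CohB1.tensorPow M k) (show f ⁻¹ᵁ (V (f y) ⊓ V (f z)) ≤ f ⁻¹ᵁ V (f z) from fun _ h => h.2) _
      rw [res_smul, res_smul, res_pw, res_pw, res_app inf_le_left, res_app inf_le_right, T.nat, T.nat]
      exact h3
  refine ⟨σ, Opens.ext (Set.ext fun y => ?_)⟩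
  have h1 := genOpen_inf_eq_basicOpen (isInvertible_tensorPow hL _) (isBasis_pw (hℓ (f y)) _) (hc (f y))
  have h2 := genOpen_inf_eq_basicOpen (isInvertible_tensorPow (T.isInvertible hL) k)
    (isBasis_pw (T.basis (hℓ (f y))) k) (hσ y)
  rw [← Scheme.preimage_basicOpen] at h2
  refine ⟨fun h => ?_, fun h => ?_⟩
  · exact (h1.ge (h2.le ⟨h, hxV (f y)⟩)).1
  · exact (h2.ge (h1.le ⟨h, hxV (f y)⟩)).1

/-- The rule over the identity, as a map of sections on the same open. -/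
noncomputable def β₀ {M : X.Modules} (T : Tr (𝟙 X) L M e) {U : X.Opens} (ℓ : Γ(L, U)) : Γ(M, U) := T.β ℓ

theorem basis₀ {M : X.Modules} (T : Tr (𝟙 X) L M e) {U : X.Opens} {ℓ : Γ(L, U)} (h : IsBasis L ℓ) :
    IsBasis M (T.β₀ ℓ) := T.basis h

theorem nat₀ {M : X.Modules} (T : Tr (𝟙 X) L M e) {U U' : X.Opens} (h : U' ≤ U) (ℓ : Γ(L, U)) :
    res M h (T.β₀ ℓ) = T.β₀ (res L h ℓ) := T.nat h ℓ

theorem smul₀ {M : X.Modules} (T : Tr (𝟙 X) L M e) {U : X.Opens} (c : Γ(X, U)) (ℓ : Γ(L, U)) :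
    T.β₀ (c • ℓ) = c ^ e • T.β₀ ℓ := T.smul c ℓ

/-- Over the identity a section of a power of `M` comes from one of a power of `L`. -/
theorem exists_inv {M : X.Modules} (T : Tr (𝟙 X) L M e) (hL : PicF.IsInvertible L) {n k : ℕ} (hn : e * k = n)
    (σ : Γ(CohB1.tensorPow M k, ⊤)) :
    ∃ s : Γ(CohB1.tensorPow L n, ⊤), genOpen (isInvertible_tensorPow hL n) s =
      genOpen (isInvertible_tensorPow (T.isInvertible hL) k) σ := by
  subst hn
  choose V hxV ℓ hℓ using exists_isBasis hL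
  choose c hc using fun x => exists_coef (isBasis_pw (T.basis₀ (hℓ x)) k) (gres (CohB1.tensorPow M k) σ (V x))
  obtain ⟨s, hs⟩ := exists_glue_coef V (fun x => ⟨x, hxV x⟩) ℓ (e * k) c fun x y => by
    obtain ⟨u, hu⟩ := exists_coef (isBasis_res (hℓ x) (inf_le_left : V x ⊓ V y ≤ V x))
      (res L (inf_le_right : V x ⊓ V y ≤ V y) (ℓ y))
    have h1 : gres (CohB1.tensorPow M k) σ (V x ⊓ V y) =
        resR (inf_le_left : V x ⊓ V y ≤ V x) (c x) • pw M (T.β₀ (res L (inf_le_left : V x ⊓ V y ≤ V x) (ℓ x))) k := by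
      have h := congrArg (res (CohB1.tensorPow M k) (inf_le_left : V x ⊓ V y ≤ V x)) (hc x)
      rw [res_gres] at h
      refine h.trans ?_
      rw [res_smul, res_pw, T.nat₀ inf_le_left]
    have h2 : gres (CohB1.tensorPow M k) σ (V x ⊓ V y) =
        resR (inf_le_right : V x ⊓ V y ≤ V y) (c y) • pw M (T.β₀ (res L (inf_le_right : V x ⊓ V y ≤ V y) (ℓ y))) k := by
      have h := congrArg (res (CohB1.tensorPow M k) (inf_le_right : V x ⊓ V y ≤ V y)) (hc y)
      rw [res_gres] at h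
      refine h.trans ?_
      rw [res_smul, res_pw, T.nat₀ inf_le_right]
    rw [hu, T.smul₀, pw_smul, smul_smul] at h2
    have h3 : resR (inf_le_left : V x ⊓ V y ≤ V x) (c x) = resR (inf_le_right : V x ⊓ V y ≤ V y) (c y) * (u ^ e) ^ k :=
      coef_unique (isBasis_pw (T.basis₀ (isBasis_res (hℓ x) (inf_le_left : V x ⊓ V y ≤ V x))) k) (h1.symm.trans h2)
    rw [hu, pw_smul, smul_smul, h3, ← pow_mul]
  refine ⟨s, Opens.ext (Set.ext fun x => ?_)⟩
  have h1 := genOpen_inf_eq_basicOpen (isInvertible_tensorPow hL _) (isBasis_pw (hℓ x) _) (hs x)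
  have h2 := genOpen_inf_eq_basicOpen (isInvertible_tensorPow (T.isInvertible hL) k)
    (isBasis_pw (T.basis₀ (hℓ x)) k) (hc x)
  refine ⟨fun h => ?_, fun h => ?_⟩
  · exact (h2.ge (h1.le ⟨h, hxV x⟩)).1
  · exact (h1.ge (h2.le ⟨h, hxV x⟩)).1

end Tr

/-- Inverse image. -/
noncomputable def trPull (f : Y ⟶ X) (hL : PicF.IsInvertible L) :
    Tr f L ((Scheme.Modules.pullback f).obj L) 1 where
  β := fun {_} ℓ => pullLoc f L ℓ
  basis := fun h => isBasis_pullLoc f hL h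
  nat := fun h ℓ => res_pullLoc f L h ℓ
  smul := fun c ℓ => by rw [pow_one]; exact pullLoc_smul f L c ℓ

variable (L) in
/-- A power. -/
noncomputable def trPow (e : ℕ) : Tr (𝟙 X) L (CohB1.tensorPow L e) e where
  β := fun {_} ℓ => pw L ℓ e
  basis := fun h => isBasis_pw h e
  nat := fun h ℓ => res_pw h ℓ e
  smul := fun c ℓ => pw_smul c ℓ e

theorem isBasis_of_iso {M M' : X.Modules} (τ : M ≅ M') {U : X.Opens} {ℓ : Γ(M, U)} (h : IsBasis M ℓ) :
    IsBasis M' (τ.hom.app U ℓ) := by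
  intro W hW
  have hb : Function.Bijective (τ.hom.app W) := by
    refine ⟨Function.LeftInverse.injective (g := τ.inv.app W) fun r => ?_,
      Function.RightInverse.surjective (g := τ.inv.app W) fun r => ?_⟩
    · exact ConcreteCategory.congr_hom (congrArg (fun φ => Scheme.Modules.Hom.app φ W) τ.hom_inv_id) r
    · exact ConcreteCategory.congr_hom (congrArg (fun φ => Scheme.Modules.Hom.app φ W) τ.inv_hom_id) r
  have e : (fun r : Γ(X, W) => r • (M'.presheaf.map (homOfLE hW).op (τ.hom.app U ℓ) : Γ(M', W))) =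
      τ.hom.app W ∘ fun r => r • (M.presheaf.map (homOfLE hW).op ℓ : Γ(M, W)) := by
    funext r
    simp only [Function.comp_apply]
    rw [Scheme.Modules.Hom.app_smul, QCohLib.app_map]
  rw [e]
  exact hb.comp (h W hW)

/-- An isomorphism. -/
noncomputable def trIso {L' : X.Modules} (τ : L ≅ L') : Tr (𝟙 X) L L' 1 where
  β := fun {U} ℓ => τ.hom.app U ℓ
  basis := fun h => isBasis_of_iso τ h
  nat := fun h ℓ => (QCohLib.app_map τ.hom h ℓ).symm
  smul := fun c ℓ => by rw [pow_one]; exact Scheme.Modules.Hom.app_smul _ _ _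

theorem isBasis_tmul {L L' : X.Modules} {U : X.Opens} {ℓ : Γ(L, U)} {ℓ' : Γ(L', U)} (h : IsBasis L ℓ)
    (h' : IsBasis L' ℓ') : IsBasis (CohB1.tensorMod L L') (SecTwist.tmul L L' U ℓ ℓ') := fun W hW => by
  have h2 := ProjCoh.tmul_gen_bijective L (L := L') (g := ℓ') h' hW
  have e : (fun r : Γ(X, W) => r • ((CohB1.tensorMod L L').presheaf.map (homOfLE hW).op
      (SecTwist.tmul L L' U ℓ ℓ') : Γ(CohB1.tensorMod L L', W))) =
      (fun m : Γ(L, W) => SecTwist.tmul L L' W m (L'.presheaf.map (homOfLE hW).op ℓ')) ∘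
        fun r : Γ(X, W) => r • res L hW ℓ := by
    funext r
    simp only [Function.comp_apply]
    rw [ProjCoh.tmul_smul_left]
    exact congrArg (r • ·) (SecTwist.map_tmul L L' (homOfLE hW) ℓ ℓ')
  rw [e]
  exact h2.comp (h W hW)

theorem isInvertible_tensorMod {L L' : X.Modules} (hL : PicF.IsInvertible L) (hL' : PicF.IsInvertible L') :
    PicF.IsInvertible (CohB1.tensorMod L L') :=
  isInvertible_of_isBasis fun x => by
    obtain ⟨U, hx, ℓ, hℓ⟩ := exists_isBasis hL x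
    obtain ⟨U', hx', ℓ', hℓ'⟩ := exists_isBasis hL' x
    exact ⟨U ⊓ U', ⟨hx, hx'⟩, _, isBasis_tmul (isBasis_res hℓ (inf_le_left : U ⊓ U' ≤ U))
      (isBasis_res hℓ' (inf_le_right : U ⊓ U' ≤ U'))⟩

/-- Sections of `L^n` and `L'^n` multiply to a section of `(L ⊗ L')^n`. -/
theorem exists_tensor {L L' : X.Modules} (hL : PicF.IsInvertible L) (hL' : PicF.IsInvertible L') {n : ℕ}
    (s : Γ(CohB1.tensorPow L n, ⊤)) (s' : Γ(CohB1.tensorPow L' n, ⊤)) :
    ∃ σ : Γ(CohB1.tensorPow (CohB1.tensorMod L L') n, ⊤),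
      genOpen (isInvertible_tensorPow (isInvertible_tensorMod hL hL') n) σ =
        genOpen (isInvertible_tensorPow hL n) s ⊓ genOpen (isInvertible_tensorPow hL' n) s' := by
  choose V hxV ℓ hℓ ℓ' hℓ' using fun x : X => show ∃ (V : X.Opens) (_ : x ∈ V) (ℓ : Γ(L, V)) (_ : IsBasis L ℓ)
      (ℓ' : Γ(L', V)), IsBasis L' ℓ' by
    obtain ⟨U, hx, ℓ, hℓ⟩ := exists_isBasis hL x
    obtain ⟨U', hx', ℓ', hℓ'⟩ := exists_isBasis hL' x
    exact ⟨U ⊓ U', ⟨hx, hx'⟩, _, isBasis_res hℓ inf_le_left, _, isBasis_res hℓ' inf_le_right⟩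
  choose c hc using fun x => exists_coef (isBasis_pw (hℓ x) n) (gres (CohB1.tensorPow L n) s (V x))
  choose c' hc' using fun x => exists_coef (isBasis_pw (hℓ' x) n) (gres (CohB1.tensorPow L' n) s' (V x))
  obtain ⟨σ, hσ⟩ := exists_glue_coef (L := CohB1.tensorMod L L') V (fun x => ⟨x, hxV x⟩)
    (fun x => SecTwist.tmul L L' (V x) (ℓ x) (ℓ' x)) n (fun x => c x * c' x) fun x y => by
      obtain ⟨u, hu⟩ := exists_coef (isBasis_res (hℓ x) (inf_le_left : V x ⊓ V y ≤ V x))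
        (res L (inf_le_right : V x ⊓ V y ≤ V y) (ℓ y))
      obtain ⟨u', hu'⟩ := exists_coef (isBasis_res (hℓ' x) (inf_le_left : V x ⊓ V y ≤ V x))
        (res L' (inf_le_right : V x ⊓ V y ≤ V y) (ℓ' y))
      have h1 := congrArg (res (CohB1.tensorPow L n) (inf_le_left : V x ⊓ V y ≤ V x)) (hc x)
      have h2 := congrArg (res (CohB1.tensorPow L n) (inf_le_right : V x ⊓ V y ≤ V y)) (hc y)
      rw [res_gres, res_smul, res_pw] at h1 h2
      rw [hu, pw_smul, smul_smul] at h2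
      have e1 := coef_unique (isBasis_pw (isBasis_res (hℓ x) _) n) (h1.symm.trans h2)
      have h3 := congrArg (res (CohB1.tensorPow L' n) (inf_le_left : V x ⊓ V y ≤ V x)) (hc' x)
      have h4 := congrArg (res (CohB1.tensorPow L' n) (inf_le_right : V x ⊓ V y ≤ V y)) (hc' y)
      rw [res_gres, res_smul, res_pw] at h3 h4
      rw [hu', pw_smul, smul_smul] at h4
      have e2 := coef_unique (isBasis_pw (isBasis_res (hℓ' x) _) n) (h3.symm.trans h4)
      have m1 : res (CohB1.tensorMod L L') (inf_le_left : V x ⊓ V y ≤ V x) (SecTwist.tmul L L' (V x) (ℓ x) (ℓ' x)) =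
          SecTwist.tmul L L' (V x ⊓ V y) (res L inf_le_left (ℓ x)) (res L' inf_le_left (ℓ' x)) :=
        SecTwist.map_tmul L L' (homOfLE inf_le_left) (ℓ x) (ℓ' x)
      have m2 : res (CohB1.tensorMod L L') (inf_le_right : V x ⊓ V y ≤ V y) (SecTwist.tmul L L' (V y) (ℓ y) (ℓ' y)) =
          SecTwist.tmul L L' (V x ⊓ V y) (res L inf_le_right (ℓ y)) (res L' inf_le_right (ℓ' y)) :=
        SecTwist.map_tmul L L' (homOfLE inf_le_right) (ℓ y) (ℓ' y)
      rw [m1, m2, hu, hu', ProjCoh.tmul_smul_right, smul_smul, ProjCoh.tmul_smul_left, pw_smul, smul_smul, resR_mul,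
        resR_mul, e1, e2, mul_pow]
      congr 1
      ring
  refine ⟨σ, Opens.ext (Set.ext fun x => ?_)⟩
  have h0 := genOpen_inf_eq_basicOpen (isInvertible_tensorPow (isInvertible_tensorMod hL hL') n)
    (isBasis_pw (isBasis_tmul (hℓ x) (hℓ' x)) n) (hσ x)
  have h1 := genOpen_inf_eq_basicOpen (isInvertible_tensorPow hL n) (isBasis_pw (hℓ x) n) (hc x)
  have h2 := genOpen_inf_eq_basicOpen (isInvertible_tensorPow hL' n) (isBasis_pw (hℓ' x) n) (hc' x)
  rw [Scheme.basicOpen_mul] at h0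
  refine ⟨fun h => ⟨(h1.ge (h0.le ⟨h, hxV x⟩).1).1, (h2.ge (h0.le ⟨h, hxV x⟩).2).1⟩, fun h => ?_⟩
  exact (h0.ge ⟨h1.le ⟨h.1, hxV x⟩, h2.le ⟨h.2, hxV x⟩⟩).1

end Groth.Agent.InvPow
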