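import Groth.Agent.InvPow.Ample
import Groth.Prelude.Def_LCI2
import Mathlib.AlgebraicGeometry.Morphisms.QuasiCompact

/-!
# Relatively ample modules: locality on the base
-/

set_option autoImplicit false
set_option synthInstance.maxHeartbeats 400000
set_option maxHeartbeats 800000
universe u
open CategoryTheory CategoryTheory.Limits AlgebraicGeometry Opposite TopologicalSpace

namespace Groth.Agent.InvPow

open InvBasic ProjUniv

variable {X Y : Scheme.{u}} {L : X.Modules}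

/-- The restriction to `W` is ample. -/
abbrev AmpOn (L : X.Modules) (W : X.Opens) : Prop := CohB1.IsAmple ((Scheme.Modules.pullback W.ι).obj L)

theorem isAmple_restrict_iff (W : X.Opens) : CohB1.IsAmple (L.restrict W.ι) ↔ AmpOn L W :=
  ⟨isAmple_of_iso ((Scheme.Modules.restrictFunctorIsoPullback W.ι).app L),
    isAmple_of_iso ((Scheme.Modules.restrictFunctorIsoPullback W.ι).app L).symm⟩

/-- Ampleness passes to morphisms that factor as an open immersion into `W`. -/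
theorem isAmple_pullback_of_le {W : X.Opens} (h : AmpOn L W) {Z : Scheme.{u}} (j : Z ⟶ X) [IsOpenImmersion j]
    [CompactSpace Z] (hj : Set.range j ⊆ (W : Set X)) : CohB1.IsAmple ((Scheme.Modules.pullback j).obj L) := by
  let j' : Z ⟶ W := IsOpenImmersion.lift W.ι j (by rwa [W.range_ι])
  have hj' : j' ≫ W.ι = j := IsOpenImmersion.lift_fac _ _ _
  have : IsOpenImmersion (j' ≫ W.ι) := hj' ▸ inferInstance
  have : IsOpenImmersion j' := IsOpenImmersion.of_comp j' W.ι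
  refine isAmple_of_iso ((Scheme.Modules.pullbackComp j' W.ι).app L ≪≫ (Scheme.Modules.pullbackCongr hj').app L) ?_
  refine isAmple_pullback h j' fun z => ?_
  obtain ⟨A, hA, hzA, -⟩ := exists_isAffineOpen_mem_and_subset (x := z) (U := ⊤) (Opens.mem_top z)
  exact ⟨j' ''ᵁ A, ⟨z, hzA, rfl⟩, by rw [j'.preimage_image_eq]; exact hA⟩

theorem ampOn_mono {W W' : X.Opens} (h : AmpOn L W) (hW : W' ≤ W) [CompactSpace W'] : AmpOn L W' :=
  isAmple_pullback_of_le h W'.ι (by rw [W'.range_ι]; exact hW)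

theorem isInvertible_of_cover {ι : Type*} (W : ι → X.Opens) (hW : ∀ x, ∃ i, x ∈ W i)
    (h : ∀ i, PicF.IsInvertible ((Scheme.Modules.pullback (W i).ι).obj L)) : PicF.IsInvertible L :=
  isInvertible_of_isBasis fun x => by
    obtain ⟨i, hi⟩ := hW x
    have hres : PicF.IsInvertible (L.restrict (W i).ι) :=
      (trIso ((Scheme.Modules.restrictFunctorIsoPullback (W i).ι).app L).symm).isInvertible (h i)
    obtain ⟨U, hxU, ℓ, hℓ⟩ := exists_isBasis hres ⟨x, hi⟩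
    refine ⟨(W i).ι ''ᵁ U, ⟨⟨x, hi⟩, hxU, rfl⟩, ℓ, fun V hV => ?_⟩
    obtain ⟨V', rfl⟩ : ∃ V' : ((W i) : Scheme.{u}).Opens, (W i).ι ''ᵁ V' = V := ⟨(W i).ι ⁻¹ᵁ V, by
      rw [Scheme.Hom.image_preimage_eq_opensRange_inf, Scheme.Opens.opensRange_ι, inf_eq_right]
      exact hV.trans ((W i).ι_image_le U)⟩
    have hle : V' ≤ U := by
      intro y hy
      obtain ⟨z, hz, hzy⟩ := hV ⟨y, hy, rfl⟩
      exact (Subtype.ext hzy : z = y) ▸ hz
    have hb := hℓ V' hle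
    have e : (fun r : Γ(X, (W i).ι ''ᵁ V') => r • (L.presheaf.map (homOfLE hV).op ℓ : Γ(L, (W i).ι ''ᵁ V'))) =
        fun r : Γ(((W i) : Scheme.{u}), V') =>
          (show Γ(L, (W i).ι ''ᵁ V') from r • ((L.restrict (W i).ι).presheaf.map (homOfLE hle).op ℓ :
            Γ(L.restrict (W i).ι, V'))) :=
      funext fun r => (InvBasic.restrict_smul_eq L (W i) V' r _).symm
    rw [e]
    exact hb

/-- Sections of powers of the restriction to an open come from sections of powers on the open. -/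
theorem exists_onOpen (hL : PicF.IsInvertible L) (D : X.Opens) {n : ℕ}
    (σ : Γ(CohB1.tensorPow ((Scheme.Modules.pullback D.ι).obj L) n, ⊤)) :
    ∃ v : Γ(CohB1.tensorPow L n, D), ∀ x ∈ D, ∃ (V : X.Opens) (hV : V ≤ D) (ℓ : Γ(L, V)) (c : Γ(X, V)),
      x ∈ V ∧ IsBasis L ℓ ∧ res (CohB1.tensorPow L n) hV v = c • pw L ℓ n ∧
      genOpen (isInvertible_tensorPow (isInvertible_pullback D.ι hL) n) σ ⊓ D.ι ⁻¹ᵁ V = D.ι ⁻¹ᵁ X.basicOpen c := by
  let T := trPull D.ι hL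
  choose V hVD hxV ℓ hℓ using fun x : D => show ∃ (V : X.Opens) (_ : V ≤ D) (_ : x.1 ∈ V) (ℓ : Γ(L, V)),
      IsBasis L ℓ by
    obtain ⟨U, hxU, ℓ, hℓ⟩ := exists_isBasis hL x.1
    exact ⟨U ⊓ D, inf_le_right, ⟨hxU, x.2⟩, _, isBasis_res hℓ inf_le_left⟩
  have hbij : ∀ (W : X.Opens), W ≤ D → Function.Bijective (D.ι.app W) := fun W hW => by
    have : IsIso (D.ι.app W) := D.ι.isIso_app W (by rwa [Scheme.Opens.opensRange_ι])
    exact ConcreteCategory.bijective_of_isIso _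
  choose c' hc' using fun x : D => exists_coef (isBasis_pw (T.basis (hℓ x)) n)
    (gres (CohB1.tensorPow ((Scheme.Modules.pullback D.ι).obj L) n) σ (D.ι ⁻¹ᵁ V x))
  choose c hc using fun x : D => (hbij (V x) (hVD x)).2 (c' x)
  have hT : ∀ (x : D) (W : X.Opens) (h : W ≤ V x),
      gres (CohB1.tensorPow ((Scheme.Modules.pullback D.ι).obj L) n) σ (D.ι ⁻¹ᵁ W) =
        (D.ι.app W (resR h (c x)) : Γ((D : Scheme.{u}), D.ι ⁻¹ᵁ W)) •
          pw _ (T.β (res L h (ℓ x))) n := by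
    intro x W h
    have e := congrArg (res (CohB1.tensorPow ((Scheme.Modules.pullback D.ι).obj L) n)
      (show D.ι ⁻¹ᵁ W ≤ D.ι ⁻¹ᵁ V x from fun _ hy => h hy)) (hc' x)
    rw [res_gres, res_smul, res_pw, T.nat, ← hc x, res_app h] at e
    exact e
  obtain ⟨v, hv, -⟩ := TopCat.Sheaf.existsUnique_gluing'
    ⟨(CohB1.tensorPow L n).presheaf, (CohB1.tensorPow L n).isSheaf⟩ V D (fun x => homOfLE (hVD x))
    (fun x hx => Opens.mem_iSup.mpr ⟨⟨x, hx⟩, hxV ⟨x, hx⟩⟩)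
    (fun x => c x • pw L (ℓ x) n) fun x y => by
      change res (CohB1.tensorPow L n) (inf_le_left : V x ⊓ V y ≤ V x) _ =
        res (CohB1.tensorPow L n) (inf_le_right : V x ⊓ V y ≤ V y) _
      rw [res_smul, res_smul, res_pw, res_pw]
      obtain ⟨u, hu⟩ := exists_coef (isBasis_res (hℓ x) (inf_le_left : V x ⊓ V y ≤ V x))
        (res L (inf_le_right : V x ⊓ V y ≤ V y) (ℓ y))
      have h1 := hT x (V x ⊓ V y) inf_le_left
      have h2 := hT y (V x ⊓ V y) inf_le_right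
      rw [hu, T.smul, pw_smul, smul_smul, pow_one, ← map_pow, ← map_mul] at h2
      have h3 := (hbij _ (inf_le_left.trans (hVD x))).1
        (coef_unique (isBasis_pw (T.basis (isBasis_res (hℓ x) (inf_le_left : V x ⊓ V y ≤ V x))) n) (h1.symm.trans h2))
      rw [hu, pw_smul, smul_smul, h3]
  refine ⟨v, fun x hx => ⟨V ⟨x, hx⟩, hVD _, ℓ ⟨x, hx⟩, c ⟨x, hx⟩, hxV _, hℓ _, hv ⟨x, hx⟩, ?_⟩⟩
  rw [genOpen_inf_eq_basicOpen _ (isBasis_pw (T.basis (hℓ ⟨x, hx⟩)) n) (hc' ⟨x, hx⟩), ← hc,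
    Scheme.preimage_basicOpen]

/-- Ampleness is local for a cover by principal opens. -/
theorem isAmple_of_local [CompactSpace X] [X.IsSeparated] (hL : PicF.IsInvertible L)
    (h : ∀ x : X, ∃ g : Γ(X, ⊤), x ∈ X.basicOpen g ∧ AmpOn L (X.basicOpen g)) : CohB1.IsAmple L := by
  refine isAmple_of_affLoci hL fun x => ?_
  obtain ⟨g, hxg, hA⟩ := h x
  generalize hD : X.basicOpen g = D at hxg hA
  obtain ⟨n, hn, σ, hxσ, haff⟩ := affLoci_of_isAmple hA ⟨x, hxg⟩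
  obtain ⟨v, hv⟩ := exists_onOpen hL D σ
  have hgD : genOpen (isInvertible_tensorPow hL 0) (g : Γ(CohB1.tensorPow L 0, ⊤)) = D := by
    refine Opens.ext (Set.ext fun y => ?_)
    obtain ⟨V, hyV, ℓ, hℓ⟩ := exists_isBasis hL y
    have h1 := genOpen_inf_eq_basicOpen (isInvertible_tensorPow hL 0) (isBasis_pw hℓ 0)
      (s := (g : Γ(CohB1.tensorPow L 0, ⊤))) (c := resR (le_top : V ≤ ⊤) g)
      (show resR (le_top : V ≤ ⊤) g = resR (le_top : V ≤ ⊤) g * 1 from (mul_one _).symm)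
    rw [Scheme.basicOpen_res, hD] at h1
    exact ⟨fun hh => (h1.le ⟨hh, hyV⟩).2, fun hh => (h1.ge ⟨hyV, hh⟩).1⟩
  obtain ⟨E, hE⟩ := exists_extend (N := 0) hL (show Γ(CohB1.tensorPow L 0, ⊤) from g) D hgD v
  obtain ⟨w, hwle, hw⟩ := hE (E + 1) (Nat.le_succ E)
  have key : genOpen (isInvertible_tensorPow hL _) w =
      D.ι ''ᵁ genOpen (isInvertible_tensorPow (isInvertible_pullback D.ι hL) n) σ := by
    refine Opens.ext (Set.ext fun y => ?_)
    by_cases hy : y ∈ D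
    · obtain ⟨V, hVD, ℓ, c, hyV, hℓ, hc, hbo⟩ := hv y hy
      have h1 := hw V hVD ℓ hℓ c (resR (le_top : V ≤ ⊤) g) hc
        (show resR (le_top : V ≤ ⊤) g = resR (le_top : V ≤ ⊤) g * 1 from (mul_one _).symm)
      have h2 := genOpen_inf_eq_basicOpen (isInvertible_tensorPow hL _) (isBasis_pw hℓ _) h1
      rw [Scheme.basicOpen_mul, X.basicOpen_pow _ (Nat.succ_pos E), Scheme.basicOpen_res, hD] at h2
      constructor
      · intro hh
        exact ⟨⟨y, hy⟩, (hbo.ge (show (⟨y, hy⟩ : D) ∈ D.ι ⁻¹ᵁ X.basicOpen c from (h2.le ⟨hh, hyV⟩).1)).1, rfl⟩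
      · rintro ⟨z, hz, rfl⟩
        exact (h2.ge ⟨hbo.le ⟨hz, hyV⟩, hyV, hy⟩).1
    · refine ⟨fun hh => absurd (hwle hh) hy, ?_⟩
      rintro ⟨z, -, rfl⟩
      exact absurd z.2 hy
  refine ⟨n + 0 * (E + 1), by omega, w, key.ge ⟨⟨x, hxg⟩, hxσ, rfl⟩, ?_⟩
  rw [key]
  exact haff.image_of_isOpenImmersion D.ι

/-- The part over an affine open of a module ample over smaller affine opens is ample. -/
theorem ampOn_preimage_of_cover (f : X ⟶ Y) [QuasiCompact f] {V : Y.Opens} (hV : IsAffineOpen V)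
    (h : ∀ y ∈ V, ∃ U : Y.Opens, y ∈ U ∧ AmpOn L (f ⁻¹ᵁ U)) : AmpOn L (f ⁻¹ᵁ V) := by
  let W := f ⁻¹ᵁ V
  have hcompact : CompactSpace W := isCompact_iff_compactSpace.mp (f.isCompact_preimage hV.isCompact)
  choose U hyU hU using h
  choose g hg1 hg2 using fun (y : Y) (hy : y ∈ V) =>
    hV.exists_basicOpen_le (⟨y, hyU y hy, hy⟩ : ↥(U y hy ⊓ V)) hy
  have hamp : ∀ y (hy : y ∈ V), AmpOn L (f ⁻¹ᵁ Y.basicOpen (g y hy)) := fun y hy => by
    have : CompactSpace (f ⁻¹ᵁ Y.basicOpen (g y hy)) := isCompact_iff_compactSpace.mp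
      (f.isCompact_preimage (hV.basicOpen (g y hy)).isCompact)
    exact ampOn_mono (hU y hy) fun x hx => (hg1 y hy hx).1
  have : IsAffine V := hV
  let f' : (W : Scheme.{u}) ⟶ V := f ∣_ V
  have hpre : ∀ (y : Y) (hy : y ∈ V), f' ⁻¹ᵁ (V.ι ⁻¹ᵁ Y.basicOpen (g y hy)) = W.ι ⁻¹ᵁ (f ⁻¹ᵁ Y.basicOpen (g y hy)) :=
    fun y hy => by rw [← Scheme.Hom.comp_preimage, morphismRestrict_ι, Scheme.Hom.comp_preimage]
  have hloc : ∀ (y : Y) (hy : y ∈ V), CohB1.IsAmple ((Scheme.Modules.pullback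
      ((f' ⁻¹ᵁ (V.ι ⁻¹ᵁ Y.basicOpen (g y hy))).ι ≫ W.ι)).obj L) := fun y hy => by
    have : CompactSpace (f' ⁻¹ᵁ (V.ι ⁻¹ᵁ Y.basicOpen (g y hy))) := by
      rw [hpre]
      refine isCompact_iff_compactSpace.mp (W.ι.isOpenEmbedding.isInducing.isCompact_iff.mpr ?_)
      change IsCompact (W.ι ''ᵁ W.ι ⁻¹ᵁ (f ⁻¹ᵁ Y.basicOpen (g y hy)) : Set X)
      rw [Scheme.Hom.image_preimage_eq_opensRange_inf, Scheme.Opens.opensRange_ι,
        inf_eq_right.mpr (fun x hx => Y.basicOpen_le _ hx)]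
      exact f.isCompact_preimage (hV.basicOpen (g y hy)).isCompact
    refine isAmple_pullback_of_le (hamp y hy) _ ?_
    rintro _ ⟨z, rfl⟩
    exact (hpre y hy).le z.2
  have hsep : (W : Scheme.{u}).IsSeparated := by
    have : IsSeparated f' := IsZariskiLocalAtTarget.of_forall_exists_morphismRestrict fun y => by
      refine ⟨V.ι ⁻¹ᵁ Y.basicOpen (g y.1 y.2), hg2 y.1 y.2, ?_⟩
      have := isSeparated_of_isAmple (hloc y.1 y.2)
      exact IsSeparated.of_comp (f' ∣_ (V.ι ⁻¹ᵁ Y.basicOpen (g y.1 y.2))) (terminal.from _)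
    exact ⟨by rw [← terminal.comp_from f']; infer_instance⟩
  have hcov : ∀ x : W, f (W.ι x) ∈ V := fun x => x.2
  have hinv : PicF.IsInvertible ((Scheme.Modules.pullback W.ι).obj L) :=
    isInvertible_of_cover (fun x : W => f' ⁻¹ᵁ (V.ι ⁻¹ᵁ Y.basicOpen (g (f (W.ι x)) (hcov x))))
      (fun x => ⟨x, (hpre _ _).ge (hg2 (f (W.ι x)) (hcov x))⟩)
      (fun x => (trIso ((Scheme.Modules.pullbackComp _ W.ι).app L).symm).isInvertible (hloc _ (hcov x)).1)
  refine isAmple_of_local hinv fun x => ?_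
  let b : Γ((V : Scheme.{u}), ⊤) := V.topIso.inv (g (f (W.ι x)) (hcov x))
  have hb : (V : Scheme.{u}).basicOpen b = V.ι ⁻¹ᵁ Y.basicOpen (g (f (W.ι x)) (hcov x)) := by
    rw [Scheme.preimage_basicOpen]
    show (V : Scheme.{u}).basicOpen (V.topIso.inv (g _ _)) = (V : Scheme.{u}).basicOpen (V.ι.app V (g _ _))
    rw [← (V : Scheme.{u}).basicOpen_res_eq (V.ι.app V (g _ _))
      (eqToHom (by rw [V.ι_preimage_self] : (⊤ : (V : Scheme.{u}).Opens) = V.ι ⁻¹ᵁ V)).op]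
    congr 1
    rw [Scheme.Opens.ι_app]
    have h3 : V.ι ''ᵁ ⊤ ≤ V.ι ''ᵁ (V.ι ⁻¹ᵁ V) := V.ι.image_mono (by rw [V.ι_preimage_self])
    show resR (V.ι_image_le ⊤) (g _ _) = resR h3 (resR (V.ι_image_le _) (g _ _))
    rw [resR_resR]
  refine ⟨f'.appTop b, ?_, ?_⟩
  · rw [← Scheme.preimage_basicOpen_top, hb, hpre]
    exact hg2 _ (hcov x)
  · have e : (W : Scheme.{u}).basicOpen (f'.appTop b) = f' ⁻¹ᵁ (V.ι ⁻¹ᵁ Y.basicOpen (g (f (W.ι x)) (hcov x))) := by
      rw [← Scheme.preimage_basicOpen_top, hb]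
    rw [e]
    exact isAmple_of_iso ((Scheme.Modules.pullbackComp _ W.ι).app L).symm (hloc _ (hcov x))

theorem isRelAmple_iff (f : X ⟶ Y) :
    RelAmple.IsRelAmple f L ↔ QuasiCompact f ∧ ∀ V : Y.affineOpens, AmpOn L (f ⁻¹ᵁ V.1) :=
  and_congr Iff.rfl (forall_congr' fun _ => isAmple_restrict_iff _)

/-- Relative ampleness may be tested near each point of the base. -/
theorem isRelAmple_of_local (f : X ⟶ Y) [QuasiCompact f]
    (h : ∀ y : Y, ∃ U : Y.Opens, y ∈ U ∧ AmpOn L (f ⁻¹ᵁ U)) : RelAmple.IsRelAmple f L :=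
  (isRelAmple_iff f).mpr ⟨inferInstance, fun V => ampOn_preimage_of_cover f V.2 fun y _ => h y⟩

theorem isInvertible_of_isRelAmple {f : X ⟶ Y} (h : RelAmple.IsRelAmple f L) : PicF.IsInvertible L := by
  choose V hV hxV _ using fun x : X => exists_isAffineOpen_mem_and_subset (x := f x) (U := ⊤) (Opens.mem_top _)
  exact isInvertible_of_cover (fun x => f ⁻¹ᵁ V x) (fun x => ⟨x, hxV x⟩)
    fun x => (((isRelAmple_iff f).mp h).2 ⟨V x, hV x⟩).1


/-- Ampleness passes to open subschemes that are quasi-compact. -/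
theorem isAmple_pullback_openImm (h : CohB1.IsAmple L) {Z : Scheme.{u}} (j : Z ⟶ X) [IsOpenImmersion j]
    [CompactSpace Z] : CohB1.IsAmple ((Scheme.Modules.pullback j).obj L) := by
  refine isAmple_pullback h j fun z => ?_
  obtain ⟨A, hA, hzA, -⟩ := exists_isAffineOpen_mem_and_subset (x := z) (U := ⊤) (Opens.mem_top z)
  exact ⟨j ''ᵁ A, ⟨z, hzA, rfl⟩, by rw [j.preimage_image_eq]; exact hA⟩

theorem ampOn_of_isAmple (h : CohB1.IsAmple L) (W : X.Opens) [CompactSpace W] : AmpOn L W :=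
  isAmple_pullback_openImm h W.ι

/-- The part of a fibre product over affine opens is affine. -/
theorem isAffineOpen_pullback_inf {Y' : Scheme.{u}} (f : X ⟶ Y) (g : Y' ⟶ Y) {A : X.Opens} (hA : IsAffineOpen A)
    {U : Y.Opens} (hU : IsAffineOpen U) {B : Y'.Opens} (hB : IsAffineOpen B) (hAU : A ≤ f ⁻¹ᵁ U)
    (hBU : B ≤ g ⁻¹ᵁ U) : IsAffineOpen (pullback.fst f g ⁻¹ᵁ A ⊓ pullback.snd f g ⁻¹ᵁ B) := by
  have : IsAffine A := hA
  have : IsAffine B := hB
  have : IsAffine U := hU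
  let p : pullback (f.resLE U A hAU) (g.resLE U B hBU) ⟶ pullback f g :=
    pullback.map _ _ f g A.ι B.ι U.ι (Scheme.Hom.resLE_comp_ι _ _) (Scheme.Hom.resLE_comp_ι _ _)
  have e : p.opensRange = pullback.fst f g ⁻¹ᵁ A ⊓ pullback.snd f g ⁻¹ᵁ B := by
    refine Opens.ext ?_
    show Set.range p = _
    rw [Scheme.Pullback.range_map, A.range_ι, B.range_ι]
    rfl
  rw [← e]
  exact isAffineOpen_opensRange p

end Groth.Agent.InvPow
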