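import Groth.Agent.InvPow.VeryAmple
import Groth.Agent.InvPow.Ample
import Groth.Agent.InvPow.RelAmple
import Groth.Prelude.Def_LCI2

/-!
# Very ampleness over an arbitrary base
-/

set_option autoImplicit false
set_option synthInstance.maxHeartbeats 400000
set_option maxHeartbeats 1600000
universe u
open CategoryTheory CategoryTheory.Limits AlgebraicGeometry Opposite TopologicalSpace

namespace Groth.Agent.InvPow

open InvBasic ProjUniv

variable {X S : Scheme.{u}} {L : X.Modules} {R : Type u} [CommRing R]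

/-- Sections giving an affine chart whose ring is generated over a base ring acting on a locus. -/
theorem exists_chart_ring [CompactSpace X] [X.IsSeparated] (hL : PicF.IsInvertible L) {N : ℕ}
    (r : ℕ) (t : Γ(CohB1.tensorPow L N, ⊤)) (x : X) (hx : x ∈ genOpen (isInvertible_tensorPow hL N) t)
    (U : X.Opens) (hU : genOpen (isInvertible_tensorPow hL N) t = U) (haff : IsAffineOpen U) (G : X.Opens) (hxG : x ∈ G)
    (ρ : R →+* Γ(X, U)) (hρ : ρ.FiniteType) :
    ∃ (D : X.Opens) (hDU : D ≤ U), x ∈ D ∧ D ≤ G ∧ IsAffineOpen D ∧ ∃ E, ∀ e, E ≤ e →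
      ∃ (κ : Type u) (_ : Finite κ) (w : κ → ProjUP.Γm (CohB1.tensorPow L (r + N * e))) (j : κ),
        genOpen (isInvertible_tensorPow hL _) (w j) = D ∧
        Subring.closure (Set.range (fun a => resR hDU (ρ a)) ∪ {c | ∃ i, gres (CohB1.tensorPow L (r + N * e)) (w i) D =
          c • gres (CohB1.tensorPow L (r + N * e)) (w j) D}) = ⊤ := by
  classical
  rw [hU] at hx
  obtain ⟨V, hxV, ℓ₀, hℓ₀⟩ := exists_isBasis hL x
  obtain ⟨h, hhle, hxh⟩ := haff.exists_basicOpen_le (⟨x, ⟨⟨hxV, hxG⟩, hx⟩⟩ : ↥(V ⊓ G ⊓ U)) hx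
  let D := X.basicOpen h
  have hDU : D ≤ U := X.basicOpen_le h
  let ℓ := res L ((hhle.trans inf_le_left).trans inf_le_left : D ≤ V) ℓ₀
  have hℓ : IsBasis L ℓ := isBasis_res hℓ₀ _
  have hinvr := isInvertible_tensorPow hL r
  have : (CohB1.tensorPow L r).IsQuasicoherent := isQuasicoherent_of_isInvertible hinvr
  obtain ⟨M, v0, hv0⟩ := QCohLib.exists_res_eq_pow_smul (M := CohB1.tensorPow L r) haff h D hDU rfl (pw L ℓ r)
  have hfin := hρ
  let := ρ.toAlgebra
  obtain ⟨G, hG⟩ := hfin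
  let v : Option (Option G) → Γ(CohB1.tensorPow L r, U) := fun
    | none => h • v0
    | some none => v0
    | some (some a) => (a : Γ(X, U)) • (h • v0)
  choose E hE using fun i => exists_extend hL t U hU (v i)
  refine ⟨D, hDU, hxh, (hhle.trans inf_le_left).trans inf_le_right, haff.basicOpen h, Finset.univ.sup E, fun e he => ?_⟩
  choose w hwU hw using fun i => hE i e ((Finset.le_sup (Finset.mem_univ i)).trans he)
  obtain ⟨d, hd⟩ := exists_coef (isBasis_pw hℓ N) (gres (CohB1.tensorPow L N) t D)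
  have hdu : IsUnit d := by
    refine X.toRingedSpace.isUnit_of_isUnit_germ D d fun y hy => ?_
    refine (X.mem_basicOpen d y hy).mp ?_
    rw [← genOpen_inf_eq_basicOpen (isInvertible_tensorPow hL N) (isBasis_pw hℓ N) hd, hU]
    exact ⟨hDU hy, hy⟩
  let hD := resR hDU h
  have hhu : IsUnit hD := X.toRingedSpace.isUnit_res_basicOpen h
  have hv0' : res (CohB1.tensorPow L r) hDU v0 = hD ^ M • pw L ℓ r := hv0
  let cf : Option (Option G) → Γ(X, D) := fun
    | none => 1
    | some none => ↑hhu.unit⁻¹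
    | some (some a) => resR hDU (a : Γ(X, U))
  have hwD : ∀ i, gres (CohB1.tensorPow L (r + N * e)) (w i) D =
      (cf i * (hD ^ (M + 1) * d ^ e)) • pw L ℓ (r + N * e) := by
    intro i
    refine (hw i D hDU ℓ hℓ (cf i * hD ^ (M + 1)) d ?_ hd).trans (by rw [mul_assoc])
    match i with
    | none =>
      show res (CohB1.tensorPow L r) hDU (h • v0) = _
      rw [res_smul, hv0', smul_smul]
      congr 1
      simp only [cf, one_mul]
      rw [pow_succ']
    | some none =>
      show res (CohB1.tensorPow L r) hDU v0 = _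
      rw [hv0']
      congr 1
      simp only [cf]
      rw [pow_succ', ← mul_assoc, IsUnit.val_inv_mul, one_mul]
    | some (some a) =>
      show res (CohB1.tensorPow L r) hDU ((a : Γ(X, U)) • (h • v0)) = _
      rw [res_smul, res_smul, hv0', smul_smul, smul_smul]
      congr 1
      simp only [cf]
      rw [pow_succ']
      ring
  have hbasis : IsBasis (CohB1.tensorPow L (r + N * e)) (gres (CohB1.tensorPow L (r + N * e)) (w none) D) := by
    intro W hW
    have hu : IsUnit (resR hW (cf none * (hD ^ (M + 1) * d ^ e))) := by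
      refine IsUnit.map (X.presheaf.map (homOfLE hW).op).hom ?_
      simp only [cf, one_mul]
      exact (hhu.pow _).mul (hdu.pow _)
    have e1 : (fun c : Γ(X, W) => c • ((CohB1.tensorPow L (r + N * e)).presheaf.map (homOfLE hW).op
        (gres (CohB1.tensorPow L (r + N * e)) (w none) D) : Γ(CohB1.tensorPow L (r + N * e), W))) =
        (fun c => c • res (CohB1.tensorPow L (r + N * e)) hW (pw L ℓ (r + N * e))) ∘
          fun c : Γ(X, W) => c * resR hW (cf none * (hD ^ (M + 1) * d ^ e)) := by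
      funext c
      show c • res (CohB1.tensorPow L (r + N * e)) hW (gres (CohB1.tensorPow L (r + N * e)) (w none) D) = _
      rw [hwD, res_smul, smul_smul]
      rfl
    rw [e1]
    exact (isBasis_pw hℓ _ W hW).comp hu.unit.mulRight.bijective
  have hop : genOpen (isInvertible_tensorPow hL _) (w none) = D := by
    refine le_antisymm (fun y hy => ?_) fun y hy => gen_of_isBasis hbasis hy
    have hyU := hwU none hy
    obtain ⟨V', hyV', ℓ', hℓ'⟩ := exists_isBasis hL y
    have hb := isBasis_res hℓ' (inf_le_left : V' ⊓ U ≤ V')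
    obtain ⟨c0, hc0⟩ := exists_coef (isBasis_pw hb r) (res (CohB1.tensorPow L r) (inf_le_right : V' ⊓ U ≤ U) v0)
    obtain ⟨d0, hd0⟩ := exists_coef (isBasis_pw hb N) (gres (CohB1.tensorPow L N) t (V' ⊓ U))
    have h1 := hw none (V' ⊓ U) inf_le_right _ hb (resR (inf_le_right : V' ⊓ U ≤ U) h * c0) d0 (by
      show res (CohB1.tensorPow L r) _ (h • v0) = _
      rw [res_smul, hc0, smul_smul]) hd0
    have h2 := (genOpen_inf_eq_basicOpen (isInvertible_tensorPow hL _) (isBasis_pw hb _) h1).le ⟨hy, hyV', hyU⟩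
    rw [Scheme.basicOpen_mul, Scheme.basicOpen_mul, Scheme.basicOpen_res] at h2
    exact h2.1.1.2
  refine ⟨Option (Option G), inferInstance, w, none, hop, ?_⟩
  set S := Subring.closure (Set.range (fun a => resR hDU (ρ a)) ∪ {c | ∃ i, gres (CohB1.tensorPow L (r + N * e)) (w i) D =
    c • gres (CohB1.tensorPow L (r + N * e)) (w none) D})
  have hcf : ∀ i, cf i ∈ S := fun i => Subring.subset_closure (Or.inr ⟨i, by
    rw [hwD i, hwD none, smul_smul]
    simp only [cf, one_mul]⟩)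
  have hres : ∀ a : Γ(X, U), resR hDU a ∈ S := by
    intro a
    have ha : a ∈ Algebra.adjoin R (G : Set Γ(X, U)) := hG ▸ trivial
    induction ha using Algebra.adjoin_induction with
    | mem b hb => exact hcf (some (some ⟨b, hb⟩))
    | algebraMap c => exact Subring.subset_closure (Or.inl ⟨c, rfl⟩)
    | add b c _ _ hb hc =>
      rw [show resR hDU (b + c) = resR hDU b + resR hDU c from map_add (X.presheaf.map (homOfLE hDU).op).hom b c]
      exact add_mem hb hc
    | mul b c _ _ hb hc =>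
      rw [resR_mul]
      exact mul_mem hb hc
  rw [eq_top_iff]
  intro c _
  let := haff.isLocalization_basicOpen h
  obtain ⟨⟨a, ⟨_, k, rfl⟩⟩, ha⟩ := IsLocalization.surj (Submonoid.powers h) (c : Γ(X, X.basicOpen h))
  change c * resR hDU (h ^ k) = resR hDU a at ha
  have e2 : c = resR hDU a * (↑hhu.unit⁻¹ : Γ(X, D)) ^ k := by
    rw [← ha, resR_pow, mul_assoc, ← mul_pow]
    change c = c * (hD * ↑hhu.unit⁻¹) ^ k
    rw [IsUnit.mul_val_inv, one_pow, mul_one]
  rw [e2]
  exact mul_mem (hres a) (pow_mem (hcf (some none)) k)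


/-- Uniformly many loci subordinate to a cover. -/
theorem exists_uniform_sections_le (hL : CohB1.IsAmple L) (G : X → X.Opens) (hG : ∀ x, x ∈ G x) :
    ∃ N : ℕ, 0 < N ∧ ∀ y : X, ∃ (z : X) (t : Γ(CohB1.tensorPow L N, ⊤)),
      y ∈ genOpen (isInvertible_tensorPow hL.1 N) t ∧ genOpen (isInvertible_tensorPow hL.1 N) t ≤ G z ∧
      IsAffineOpen (genOpen (isInvertible_tensorPow hL.1 N) t) := by
  classical
  have := hL.2.1
  choose n hn s hs hle haff using fun x => exists_locus_le hL (hG x)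
  obtain ⟨F, hF⟩ := isCompact_univ.elim_finite_subcover
    (fun x => (genOpen (isInvertible_tensorPow hL.1 (n x)) (s x) : Set X))
    (fun x => (genOpen (isInvertible_tensorPow hL.1 (n x)) (s x)).2) (fun x _ => Set.mem_iUnion.mpr ⟨x, hs x⟩)
  refine ⟨∏ x ∈ F, n x, Finset.prod_pos fun x _ => hn x, fun y => ?_⟩
  obtain ⟨x, hx, hyx⟩ := Set.mem_iUnion₂.mp (hF (Set.mem_univ y))
  rw [← Finset.mul_prod_erase F n hx]
  refine ⟨x, spow hL.1 (s x) (∏ z ∈ F.erase x, n z), ?_⟩
  rw [genOpen_spow hL.1 (s x) (Finset.prod_pos fun z _ => hn z)]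
  exact ⟨hyx, hle x, haff x⟩

/-- A morphism is an immersion if affine charts covering its image pull back to closed affine charts. -/
theorem isImmersion_of_affine_charts {Y : Scheme.{u}} {J : Type*} (r : X ⟶ Y) (O : J → Y.Opens)
    (hO : ∀ j, IsAffineOpen (O j)) (hcov : ∀ x, ∃ j, x ∈ r ⁻¹ᵁ O j) (haff : ∀ j, IsAffineOpen (r ⁻¹ᵁ O j))
    (hsurj : ∀ j, Function.Surjective (r.app (O j))) : IsImmersion r := by
  let U : Y.Opens := ⨆ j, O j
  let r' : X ⟶ U := IsOpenImmersion.lift U.ι r (by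
    rw [U.range_ι]
    rintro _ ⟨x, rfl⟩
    obtain ⟨j, hj⟩ := hcov x
    exact Opens.mem_iSup.mpr ⟨j, hj⟩)
  have hr' : r' ≫ U.ι = r := IsOpenImmersion.lift_fac _ _ _
  have hc : IsClosedImmersion r' := by
    have hU : ⨆ j, U.ι ⁻¹ᵁ O j = ⊤ := by
      refine top_le_iff.mp fun y _ => ?_
      obtain ⟨j, hj⟩ := Opens.mem_iSup.mp y.2
      exact Opens.mem_iSup.mpr ⟨j, hj⟩
    rw [IsZariskiLocalAtTarget.iff_of_iSup_eq_top (P := @IsClosedImmersion) _ hU]
    intro j
    have hle : O j ≤ U.ι.opensRange := by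
      rw [Scheme.Opens.opensRange_ι]
      exact le_iSup O j
    have hV : IsAffineOpen (U.ι ⁻¹ᵁ O j) := (hO j).preimage_of_isOpenImmersion U.ι hle
    have hpre : r' ⁻¹ᵁ U.ι ⁻¹ᵁ O j = r ⁻¹ᵁ O j := by rw [← Scheme.Hom.comp_preimage, hr']
    have : IsAffine (U.ι ⁻¹ᵁ O j) := hV
    have : IsAffine (r' ⁻¹ᵁ U.ι ⁻¹ᵁ O j) := (show IsAffineOpen (r' ⁻¹ᵁ U.ι ⁻¹ᵁ O j) by
      rw [hpre]; exact haff j)
    refine IsClosedImmersion.of_surjective_of_isAffine _ ?_
    rw [morphismRestrict_appTop]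
    have happ : Function.Surjective (r'.app (U.ι ⁻¹ᵁ O j)) := by
      intro c
      obtain ⟨c', hc'⟩ := (ConcreteCategory.bijective_of_isIso (X.presheaf.map (eqToHom hpre).op)).2 c
      obtain ⟨a, ha⟩ := hsurj j c'
      refine ⟨U.ι.app (O j) a, ?_⟩
      rw [← hc', ← ha]
      have e := ConcreteCategory.congr_hom (Scheme.Hom.congr_app hr' (O j)) a
      rw [Scheme.Hom.comp_app] at e
      exact e
    rw [← (U.ι ⁻¹ᵁ O j).ι_image_top] at happ
    intro c
    obtain ⟨c', hc'⟩ := (ConcreteCategory.bijective_of_isIso (X.presheaf.map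
      (eqToHom (image_morphismRestrict_preimage r' (U.ι ⁻¹ᵁ O j) ⊤)).op)).2 c
    obtain ⟨b, hb⟩ := happ c'
    exact ⟨b, (congrArg _ hb).trans hc'⟩
  rw [← hr']
  infer_instance

/-- Large powers of an ample module give immersions into projective spaces over any base. -/
theorem exists_bound_isRelVeryAmplePn (f : X ⟶ S) [LocallyOfFiniteType f] (hL : CohB1.IsAmple L) :
    ∃ d₀ : ℕ, 0 < d₀ ∧ ∀ d, d₀ ≤ d → RelAmple.IsRelVeryAmplePn f (CohB1.tensorPow L d) := by
  classical
  have hinv := hL.1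
  have := hL.2.1
  have := isSeparated_of_isAmple hL
  choose U hUaff hxU _ using fun x : X =>
    exists_isAffineOpen_mem_and_subset (x := f x) (U := ⊤) (Opens.mem_top _)
  obtain ⟨N, hN, ht⟩ := exists_uniform_sections_le hL (fun x => f ⁻¹ᵁ U x) hxU
  choose z t hxt htle htaff using ht
  choose D hDT hxD hDG hDaff E hE using fun (r : Fin N) x =>
    exists_chart_ring (R := Γ(S, U (z x))) hinv r.1 (t x) x (hxt x) _ rfl (htaff x) ⊤ trivial
      (f.appLE (U (z x)) _ (htle x)).hom (f.finiteType_appLE (hUaff (z x)) (htaff x) (htle x))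
  choose F hF using fun r => isCompact_univ.elim_finite_subcover (fun x => (D r x : Set X))
    (fun x => (D r x).2) (fun x _ => Set.mem_iUnion.mpr ⟨x, hxD r x⟩)
  let E₀ := Finset.univ.sup fun r => (F r).sup (E r)
  refine ⟨N * (E₀ + 1), Nat.mul_pos hN (Nat.succ_pos _), fun n hn => ?_⟩
  obtain ⟨r, e, he, rfl⟩ : ∃ (r : Fin N) (e : ℕ), E₀ ≤ e ∧ n = r.1 + N * e := by
    refine ⟨⟨n % N, Nat.mod_lt _ hN⟩, n / N, ?_, (Nat.mod_add_div n N).symm⟩
    rw [Nat.le_div_iff_mul_le hN]
    calc E₀ * N ≤ N * (E₀ + 1) := by rw [mul_comm]; exact Nat.mul_le_mul_left _ (Nat.le_succ _)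
      _ ≤ n := hn
  have hEle : ∀ x : ↥(F r), E r x.1 ≤ e := fun x => ((Finset.le_sup x.2).trans
    (Finset.le_sup (f := fun r => (F r).sup (E r)) (Finset.mem_univ r))).trans he
  choose κ hκ w j hop hgen using fun x : ↥(F r) => hE r x.1 e (hEle x)
  let ι := Σ x : ↥(F r), κ x
  let en := Finite.equivFin ι
  let M := Nat.card ι
  let L' := CohB1.tensorPow L (r.1 + N * e)
  have hL' := isInvertible_tensorPow hinv (r.1 + N * e)
  let s : Fin (M + 1) → ProjUP.Γm L' := Fin.cons 0 ((fun p : ι => w p.1 p.2) ∘ en.symm)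
  have hst : ∀ p : ι, s (en p).succ = w p.1 p.2 := fun p => by
    simp only [s, Fin.cons_succ, Function.comp_apply]
    exact congrArg (fun q : ι => w q.1 q.2) (en.symm_apply_apply p)
  obtain ⟨R₀, -, τ, hτ⟩ := exists_hom (R := ULift.{u} ℤ) (specULiftZIsTerminal.from X) hL' s
    (ProjSpaceBC.generatedBy_of_gen fun y => by
      obtain ⟨x, hx, hyx⟩ := Set.mem_iUnion₂.mp (hF r (Set.mem_univ y))
      exact ⟨(en ⟨⟨x, hx⟩, j ⟨x, hx⟩⟩).succ, (hst _).symm ▸ (hop ⟨x, hx⟩).ge hyx⟩)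
  let c := CohB1.ProjSpace.toSpec M (ULift.{u} ℤ)
  let R₁ : X ⟶ CohB1.ProjSpace M (ULift.{u} ℤ) := R₀
  let Dj : Fin (M + 1) → (CohB1.ProjSpace M (ULift.{u} ℤ)).Opens := fun k => ProjUniv.D M (ULift.{u} ℤ) k
  let i : X ⟶ pullback c (specULiftZIsTerminal.from S) :=
    pullback.lift R₁ f (specULiftZIsTerminal.hom_ext _ _)
  have hifst : i ≫ pullback.fst c (specULiftZIsTerminal.from S) = R₁ := pullback.lift_fst _ _ _
  have hisnd : i ≫ pullback.snd c (specULiftZIsTerminal.from S) = f := pullback.lift_snd _ _ _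
  have hD : ∀ x : ↥(F r), R₁ ⁻¹ᵁ Dj (en ⟨x, j x⟩).succ = D r x.1 := fun x =>
    Opens.ext (Set.ext fun y => by
      rw [← hop x]
      show y ∈ R₀ ⁻¹ᵁ ProjUniv.D M (ULift.{u} ℤ) _ ↔ Gen L' (w x (j x)) y
      rw [← hst ⟨x, j x⟩, ← hτ, ProjSpaceBC.gen_iso_iff, gen_pco_iff])
  let O : ↥(F r) → (pullback c (specULiftZIsTerminal.from S)).Opens := fun x =>
    (pullback.fst c (specULiftZIsTerminal.from S)) ⁻¹ᵁ Dj (en ⟨x, j x⟩).succ ⊓
      (pullback.snd c (specULiftZIsTerminal.from S)) ⁻¹ᵁ U (z x.1)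
  have hO : ∀ x, IsAffineOpen (O x) := fun x =>
    isAffineOpen_pullback_inf c (specULiftZIsTerminal.from S)
      (Proj.isAffineOpen_basicOpen _ _ (ProjPoint.X_mem _) one_pos) (isAffineOpen_top _) (hUaff _)
      (fun _ _ => trivial) (fun _ _ => trivial)
  have hDU : ∀ x : ↥(F r), D r x.1 ≤ f ⁻¹ᵁ U (z x.1) := fun x y hy => htle x.1 (hDT r x.1 hy)
  have hpre : ∀ x, i ⁻¹ᵁ O x = D r x.1 := fun x => by
    refine Eq.trans ?_ (inf_eq_left.mpr (hDU x))
    show (i ≫ pullback.fst c (specULiftZIsTerminal.from S)) ⁻¹ᵁ _ ⊓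
      (i ≫ pullback.snd c (specULiftZIsTerminal.from S)) ⁻¹ᵁ _ = _
    rw [hifst, hisnd, hD]
  have himm : IsImmersion i := by
    refine isImmersion_of_affine_charts i O hO (fun y => ?_) (fun x => (hpre x).symm ▸ hDaff r x.1) fun x => ?_
    · obtain ⟨x, hx, hyx⟩ := Set.mem_iUnion₂.mp (hF r (Set.mem_univ y))
      exact ⟨⟨x, hx⟩, (hpre ⟨x, hx⟩).ge hyx⟩
    · have hfst : O x ≤ (pullback.fst c (specULiftZIsTerminal.from S)) ⁻¹ᵁ Dj (en ⟨x, j x⟩).succ :=
        inf_le_left
      have hsnd : O x ≤ (pullback.snd c (specULiftZIsTerminal.from S)) ⁻¹ᵁ U (z x.1) := inf_le_right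
      let Φ : Γ(pullback c (specULiftZIsTerminal.from S), O x) →+* Γ(X, D r x.1) := (i.appLE (O x) (D r x.1) (hpre x).ge).hom
      suffices hΦ : Function.Surjective Φ by
        intro a
        obtain ⟨b, hb⟩ := hΦ (resR (hpre x).ge a)
        refine ⟨b, (ConcreteCategory.bijective_of_isIso (X.presheaf.map (eqToHom (hpre x).symm).op)).1 ?_⟩
        exact hb
      rw [← RingHom.range_eq_top, eq_top_iff, ← hgen x, Subring.closure_le]
      rintro a (⟨b, rfl⟩ | ⟨k, hk⟩)
      · refine ⟨(pullback.snd c (specULiftZIsTerminal.from S)).appLE (U (z x.1)) (O x) hsnd b, ?_⟩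
        show ((pullback.snd c (specULiftZIsTerminal.from S)).appLE _ _ hsnd ≫ i.appLE _ _ (hpre x).ge) b = _
        rw [Scheme.Hom.appLE_comp_appLE]
        simp only [hisnd]
        exact (ConcreteCategory.congr_hom (f.appLE_map (htle x.1) (homOfLE (hDT r x.1)).op) b).symm
      · refine ⟨(pullback.fst c (specULiftZIsTerminal.from S)).appLE _ (O x) hfst
          (Proj.awayToSection (CohB1.polyGrading M (ULift.{u} ℤ)) (MvPolynomial.X (en ⟨x, j x⟩).succ)
            (ProjPoint.coord (en ⟨x, j x⟩).succ (en ⟨x, k⟩).succ)), ?_⟩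
        show ((pullback.fst c (specULiftZIsTerminal.from S)).appLE _ _ hfst ≫ i.appLE _ _ (hpre x).ge) _ = _
        rw [Scheme.Hom.appLE_comp_appLE]
        simp only [hifst]
        have hle : D r x.1 ≤ R₀ ⁻¹ᵁ ProjUniv.D M (ULift.{u} ℤ) (en ⟨x, j x⟩).succ := (hD x).ge
        have h1 := congrArg (τ.hom.app _) (gres_pco R₀ hle (en ⟨x, k⟩).succ)
        rw [Scheme.Modules.Hom.app_smul, gres_app, gres_app, hτ, hτ, hst, hst, hk] at h1
        have hb : IsBasis L' (gres L' (w x (j x)) (D r x.1)) := by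
          rw [← hop x]
          exact isBasis_genOpen hL' _
        exact (coef_unique hb h1).symm
  refine ⟨M, i, himm, hisnd, ⟨τ.symm ≪≫ ?_⟩⟩
  exact (Scheme.Modules.pullbackCongr hifst.symm).app _ ≪≫ ((Scheme.Modules.pullbackComp i _).app _).symm

end Groth.Agent.InvPow
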