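import Groth.Agent.InvPow.LocalIso
import Groth.Agent.InvPow.Extend
import Groth.Agent.QCohLib.Sections
import Groth.Agent.InvBasic.QCoh

/-!
# Extending sections of a quasi-coherent module after twisting
-/

set_option autoImplicit false
set_option synthInstance.maxHeartbeats 400000
set_option maxHeartbeats 800000
universe u
open CategoryTheory AlgebraicGeometry Opposite TopologicalSpace

namespace Groth.Agent.InvPow

open InvBasic ProjUniv

variable {X : Scheme.{u}} {L : X.Modules} (F : X.Modules)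

/-- `m ⊗ ℓ^n`. -/
noncomputable def tw {U : X.Opens} (m : Γ(F, U)) (ℓ : Γ(L, U)) (n : ℕ) : Γ(CohB1.tensorMod F (CohB1.tensorPow L n), U) :=
  SecTwist.tmul F (CohB1.tensorPow L n) U m (pw L ℓ n)

theorem res_tw {U W : X.Opens} (h : W ≤ U) (m : Γ(F, U)) (ℓ : Γ(L, U)) (n : ℕ) :
    res (CohB1.tensorMod F (CohB1.tensorPow L n)) h (tw F m ℓ n) = tw F (res F h m) (res L h ℓ) n := by
  refine (SecTwist.map_tmul F _ (homOfLE h) _ _).trans ?_
  exact congrArg (SecTwist.tmul F (CohB1.tensorPow L n) W _) (res_pw h ℓ n)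

theorem tw_smul {U : X.Opens} (c : Γ(X, U)) (m : Γ(F, U)) (ℓ : Γ(L, U)) (n : ℕ) :
    tw F m (c • ℓ) n = tw F (c ^ n • m) ℓ n := by
  rw [tw, pw_smul]
  exact ProjCoh.tmul_smul_right F _ U _ _ _

theorem smul_tw {U : X.Opens} (c : Γ(X, U)) (m : Γ(F, U)) (ℓ : Γ(L, U)) (n : ℕ) :
    tw F (c • m) ℓ n = c • tw F m ℓ n := ProjCoh.tmul_smul_left F _ U _ _ _

theorem tw_bijective {U : X.Opens} {ℓ : Γ(L, U)} (hℓ : IsBasis L ℓ) (n : ℕ) :
    Function.Bijective fun m : Γ(F, U) => tw F m ℓ n := by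
  have h := ProjCoh.tmul_gen_bijective F (L := CohB1.tensorPow L n) (g := pw L ℓ n) (isBasis_pw hℓ n) (le_refl U)
  simpa only [QCohLib.map_self] using! h

/-- A section over a non-vanishing locus extends, for every large twist. -/
theorem exists_extend_twist [CompactSpace X] [QuasiSeparatedSpace X] [F.IsQuasicoherent] (hL : PicF.IsInvertible L) {N : ℕ}
    (hN : 0 < N) (t : Γ(CohB1.tensorPow L N, ⊤)) (D : X.Opens) (hD : genOpen (isInvertible_tensorPow hL N) t = D)
    {ℓ : Γ(L, D)} (hℓ : IsBasis L ℓ) (v : Γ(F, D)) :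
    ∃ E : ℕ, ∀ n, E ≤ n → ∃ (w : Γ(CohB1.tensorMod F (CohB1.tensorPow L n), ⊤)) (a : Γ(X, D)), IsUnit a ∧
      gres (CohB1.tensorMod F (CohB1.tensorPow L n)) w D = tw F (a • v) ℓ n := by
  obtain ⟨ι, _, V, β, hVaff, hβ, hcov⟩ := exists_finite_affine_trivialisation hL
  cases nonempty_fintype ι
  choose f hf using fun i => exists_coef (isBasis_pw (hβ i) N) (gres (CohB1.tensorPow L N) t (V i))
  have hDV : ∀ i, D ⊓ V i = X.basicOpen (f i) := fun i =>
    hD ▸ genOpen_inf_eq_basicOpen (isInvertible_tensorPow hL N) (isBasis_pw (hβ i) N) (hf i)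
  obtain ⟨d, hd⟩ := exists_coef (isBasis_pw hℓ N) (gres (CohB1.tensorPow L N) t D)
  have hdu : IsUnit d := by
    refine X.toRingedSpace.isUnit_of_isUnit_germ D d fun x hx => (X.mem_basicOpen d x hx).mp ?_
    exact (genOpen_inf_eq_basicOpen (isInvertible_tensorPow hL N) (isBasis_pw hℓ N) hd).le ⟨hD.ge hx, hx⟩
  -- change of generator on `D ∩ V i`
  choose μ hμ using fun i => exists_coef (isBasis_res (hβ i) (inf_le_right : D ⊓ V i ≤ V i))
    (res L (inf_le_left : D ⊓ V i ≤ D) ℓ)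
  have hdμ : ∀ i, resR (inf_le_left : D ⊓ V i ≤ D) d * μ i ^ N = resR (inf_le_right : D ⊓ V i ≤ V i) (f i) := by
    intro i
    have e1 := congrArg (res _ (inf_le_left : D ⊓ V i ≤ D)) hd
    have e2 := congrArg (res _ (inf_le_right : D ⊓ V i ≤ V i)) (hf i)
    rw [res_gres, res_smul, res_pw] at e1 e2
    rw [hμ i, pw_smul, smul_smul] at e1
    exact coef_unique (isBasis_pw (isBasis_res (hβ i) _) N) (e1.symm.trans e2)
  have hloc : ∀ (ir : ι × Fin N), ∃ m : ℕ, ∃ x : Γ(F, V ir.1),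
      res F (inf_le_right : D ⊓ V ir.1 ≤ V ir.1) x = resR (inf_le_right : D ⊓ V ir.1 ≤ V ir.1) (f ir.1) ^ m •
        (μ ir.1 ^ (ir.2 : ℕ) • res F (inf_le_left : D ⊓ V ir.1 ≤ D) v) :=
    fun ir => QCohLib.exists_res_eq_pow_smul (hVaff ir.1) (f ir.1) (D ⊓ V ir.1) inf_le_right (hDV ir.1) _
  choose m x hx using hloc
  choose c hc using fun ij : ι × ι => exists_coef (isBasis_res (hβ ij.1) (inf_le_left : V ij.1 ⊓ V ij.2 ≤ V ij.1))
    (res L (inf_le_right : V ij.1 ⊓ V ij.2 ≤ V ij.2) (β ij.2))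
  have hfc : ∀ i j, resR (inf_le_left : V i ⊓ V j ≤ V i) (f i) =
      resR (inf_le_right : V i ⊓ V j ≤ V j) (f j) * c (i, j) ^ N := by
    intro i j
    have e1 := congrArg (res _ (inf_le_left : V i ⊓ V j ≤ V i)) (hf i)
    have e2 := congrArg (res _ (inf_le_right : V i ⊓ V j ≤ V j)) (hf j)
    rw [res_gres, res_smul, res_pw] at e1 e2
    rw [hc (i, j), pw_smul, smul_smul] at e2
    exact coef_unique (isBasis_pw (isBasis_res (hβ i) _) N) (e1.symm.trans e2)
  let M := Finset.univ.sup m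
  obtain ⟨y, hy⟩ : ∃ y : ι × Fin N → (i : ι) → Γ(F, V i), ∀ (r : Fin N) (i : ι),
      res F (inf_le_right : D ⊓ V i ≤ V i) (y (i, r) i) =
        resR (inf_le_right : D ⊓ V i ≤ V i) (f i) ^ M •
          (μ i ^ (r : ℕ) • res F (inf_le_left : D ⊓ V i ≤ D) v) := by
    refine ⟨fun r i => f i ^ (M - m (i, r.2)) • x (i, r.2), fun r i => ?_⟩
    dsimp only
    rw [res_smul, hx (i, r), resR_pow, smul_smul, ← pow_add,
      Nat.sub_add_cancel (show m (i, r) ≤ M from Finset.le_sup (Finset.mem_univ _))]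
  have hov : ∀ ijr : ι × ι × Fin N, ∃ k : ℕ, resR (inf_le_left : V ijr.1 ⊓ V ijr.2.1 ≤ V ijr.1) (f ijr.1) ^ k •
      (res F (inf_le_left : V ijr.1 ⊓ V ijr.2.1 ≤ V ijr.1) (y (ijr.1, ijr.2.2) ijr.1) -
        c (ijr.1, ijr.2.1) ^ (N * M + (ijr.2.2 : ℕ)) •
          res F (inf_le_right : V ijr.1 ⊓ V ijr.2.1 ≤ V ijr.2.1) (y (ijr.2.1, ijr.2.2) ijr.2.1)) = 0 := by
    rintro ⟨i, j, r⟩
    dsimp only
    have hO : D ⊓ (V i ⊓ V j) = X.basicOpen (resR (inf_le_left : V i ⊓ V j ≤ V i) (f i)) := by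
      rw [Scheme.basicOpen_res, ← hDV i]
      ac_nf
    refine QCohLib.exists_pow_smul_eq_zero_of_isCompact (QuasiSeparatedSpace.inter_isCompact _ _ (V i).2 (hVaff i).isCompact (V j).2 (hVaff j).isCompact) _ (D ⊓ (V i ⊓ V j)) inf_le_right hO _ ?_
    show res F _ (_ - _) = 0
    rw [show ∀ p q : Γ(F, V i ⊓ V j), res F (inf_le_right : D ⊓ (V i ⊓ V j) ≤ V i ⊓ V j) (p - q) =
      res F inf_le_right p - res F inf_le_right q from fun p q => map_sub _ p q, res_smul, res_res, res_res, sub_eq_zero]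
    have hi : D ⊓ (V i ⊓ V j) ≤ D ⊓ V i := inf_le_inf_left _ inf_le_left
    have hj : D ⊓ (V i ⊓ V j) ≤ D ⊓ V j := inf_le_inf_left _ inf_le_right
    have hij : D ⊓ (V i ⊓ V j) ≤ V i ⊓ V j := inf_le_right
    have e1 := congrArg (res F hi) (hy r i)
    have e2 := congrArg (res F hj) (hy r j)
    rw [res_res, res_smul, res_smul, res_res, resR_pow, resR_pow, resR_resR] at e1 e2
    have e3 : resR hi (μ i) = resR hij (c (i, j)) * resR hj (μ j) := by
      refine coef_unique (isBasis_res (isBasis_res (hβ i) (inf_le_right : D ⊓ V i ≤ V i)) hi) ?_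
      have a1 := congrArg (res L hi) (hμ i)
      have a2 := congrArg (res L hj) (hμ j)
      have a3 := congrArg (res L hij) (hc (i, j))
      simp only [res_smul, res_res] at a1 a2 a3 ⊢
      rw [mul_comm, mul_smul, ← a3, ← a2, ← a1]
    have e4 := congrArg (resR hij) (hfc i j)
    rw [resR_mul, resR_pow, resR_resR, resR_resR] at e4
    rw [e1, e2, resR_pow, e3, e4, smul_smul, smul_smul, smul_smul]
    refine congrArg (· • _) ?_
    ring
  choose k hk using hov
  let K := Finset.univ.sup k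
  refine ⟨N * (M + K + 1), fun n hn => ?_⟩
  obtain ⟨e, r, he, rfl⟩ : ∃ (e : ℕ) (r : Fin N), M + K ≤ e ∧ n = N * e + (r : ℕ) := by
    refine ⟨n / N, ⟨n % N, Nat.mod_lt _ hN⟩, ?_, (Nat.div_add_mod n N).symm⟩
    exact (Nat.le_div_iff_mul_le hN).mpr (le_trans (by rw [mul_comm]; exact Nat.mul_le_mul_left N (Nat.le_succ _)) hn)
  obtain ⟨p, rfl⟩ : ∃ p, e = M + p := ⟨e - M, by omega⟩
  let S : ∀ i, Γ(CohB1.tensorMod F (CohB1.tensorPow L (N * (M + p) + (r : ℕ))), V i) :=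
    fun i => tw F (f i ^ p • y (i, r) i) (β i) _
  obtain ⟨w, hw⟩ := exists_glue_sections (M := CohB1.tensorMod F (CohB1.tensorPow L (N * (M + p) + (r : ℕ)))) V hcov S
    fun i j => by
      show res _ _ (tw F _ _ _) = res _ _ (tw F _ _ _)
      rw [res_tw, res_tw, hc (i, j), tw_smul, res_smul, res_smul, resR_pow, resR_pow, smul_smul]
      refine congrArg (fun q => tw F q _ _) ?_
      obtain ⟨q, rfl⟩ : ∃ q, p = k (i, j, r) + q := ⟨p - k (i, j, r), by
        have : k (i, j, r) ≤ K := Finset.le_sup (Finset.mem_univ _)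
        omega⟩
      have h0 := congrArg (resR (inf_le_left : V i ⊓ V j ≤ V i) (f i) ^ q • ·) (hk (i, j, r))
      dsimp only at h0
      rw [smul_zero, smul_smul, ← pow_add, smul_sub, sub_eq_zero, smul_smul] at h0
      rw [show k (i, j, r) + q = q + k (i, j, r) from add_comm _ _, h0]
      refine congrArg (· • _) ?_
      rw [hfc i j, mul_pow, ← pow_mul,
        show N * (M + (q + k (i, j, r))) + (r : ℕ) = N * (q + k (i, j, r)) + (N * M + (r : ℕ)) by ring, pow_add]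
      ring
  refine ⟨w, d ^ (M + p), hdu.pow _, ?_⟩
  refine sections_ext (CohB1.tensorMod F (CohB1.tensorPow L (N * (M + p) + (r : ℕ)))) V hcov fun i => ?_
  rw [res_gres, ← res_gres _ w (inf_le_right : D ⊓ V i ≤ V i), hw i, res_tw, res_tw, res_smul, res_smul,
    resR_pow, resR_pow, hy r i, hμ i, tw_smul, smul_smul, smul_smul, smul_smul, pow_add (μ i), pow_mul,
    ← pow_add (resR (inf_le_right : D ⊓ V i ≤ V i) (f i)), ← hdμ i]
  refine congrArg (fun q => tw F (q • _) _ _) ?_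
  ring

end Groth.Agent.InvPow
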