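import Groth.Agent.InvPow.Compose
import Groth.Agent.InvPow.ExtendModule
import Groth.Prelude.Def_MoreMor

/-!
# Ample families of invertible modules
-/

set_option autoImplicit false
set_option synthInstance.maxHeartbeats 400000
set_option maxHeartbeats 1600000
universe u
open CategoryTheory CategoryTheory.Limits AlgebraicGeometry Opposite TopologicalSpace

namespace Groth.Agent.InvPow

open InvBasic ProjUniv

variable {X Y : Scheme.{u}} {L : X.Modules}

/-- An ample family in terms of non-vanishing loci. -/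
theorem exists_locus_of_hasAmpleFamily (h : MoreMor.HasAmpleFamily X) (x : X) :
    ∃ (L : X.Modules) (hL : PicF.IsInvertible L) (t : Γ(L, ⊤)), x ∈ genOpen hL t ∧ IsAffineOpen (genOpen hL t) := by
  obtain ⟨L, n, s, hL, -, hx, ha⟩ := h.2 x
  obtain ⟨σ, rfl⟩ := exists_globalHom_eq s
  rw [genLocus_globalHom (isInvertible_tensorPow hL n)] at hx ha
  exact ⟨_, isInvertible_tensorPow hL n, σ, hx, ha⟩

/-- A scheme with an ample family is quasi-separated. -/
theorem quasiSeparatedSpace_of_hasAmpleFamily (h : MoreMor.HasAmpleFamily X) : QuasiSeparatedSpace X := by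
  have := h.1
  choose L hL t hx ha using fun x => exists_locus_of_hasAmpleFamily h x
  obtain ⟨F, hF⟩ := isCompact_univ.elim_finite_subcover (fun x => (genOpen (hL x) (t x) : Set X))
    (fun x => (genOpen (hL x) (t x)).2) (fun x _ => Set.mem_iUnion.mpr ⟨x, hx x⟩)
  refine quasiSeparatedSpace_iff_forall_affineOpens.mpr fun U V => ?_
  have e : (U.1 : Set X) ∩ V.1 =
      ⋃ x ∈ F, (((genOpen (hL x) (t x) ⊓ U.1 : X.Opens) ⊓ (genOpen (hL x) (t x) ⊓ V.1) : X.Opens) : Set X) := by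
    ext y
    constructor
    · rintro ⟨h1, h2⟩
      obtain ⟨x, hxF, hy⟩ := Set.mem_iUnion₂.mp (hF (Set.mem_univ y))
      exact Set.mem_iUnion₂.mpr ⟨x, hxF, ⟨hy, h1⟩, hy, h2⟩
    · intro hy
      obtain ⟨x, -, ⟨-, h1⟩, -, h2⟩ := Set.mem_iUnion₂.mp hy
      exact ⟨h1, h2⟩
  rw [e]
  refine F.isCompact_biUnion fun x _ => ?_
  let D := genOpen (hL x) (t x)
  have : IsAffine (D : Scheme.{u}) := ha x
  have h1 := (isAffineOpen_genOpen_inf (hL x) (t x) U.2).preimage_of_isOpenImmersion D.ι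
    (by rw [Scheme.Opens.opensRange_ι]; exact inf_le_left)
  have h2 := (isAffineOpen_genOpen_inf (hL x) (t x) V.2).preimage_of_isOpenImmersion D.ι
    (by rw [Scheme.Opens.opensRange_ι]; exact inf_le_left)
  have h3 := (h1.inf h2).image_of_isOpenImmersion D.ι
  rw [← Scheme.Hom.preimage_inf, Scheme.Hom.image_preimage_eq_opensRange_inf, Scheme.Opens.opensRange_ι,
    inf_eq_right.mpr (inf_le_left.trans inf_le_left)] at h3
  exact h3.isCompact

/-- Ample families pass along morphisms with a relatively ample module. -/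
theorem hasAmpleFamily_of_isRelAmple (f : X ⟶ Y) (hY : MoreMor.HasAmpleFamily Y) (hL : RelAmple.IsRelAmple f L) :
    MoreMor.HasAmpleFamily X := by
  have := hY.1
  have := quasiSeparatedSpace_of_hasAmpleFamily hY
  have := hL.1
  have := isSeparated_of_isRelAmple f hL
  have : CompactSpace X := QuasiCompact.compactSpace_of_compactSpace f
  have : QuasiSeparatedSpace X := quasiSeparatedSpace_of_quasiSeparated f
  have hLi := isInvertible_of_isRelAmple hL
  refine ⟨inferInstance, fun x => ?_⟩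
  obtain ⟨K, hK, t, hxt, haff⟩ := exists_locus_of_hasAmpleFamily hY (f x)
  let P := (Scheme.Modules.pullback f).obj K
  have hP : PicF.IsInvertible P := ProjUniv.isInvertible_pullback f hK
  generalize hYt : genOpen hK t = Yt at hxt haff
  have hb : IsBasis P (pullLoc f K (gres K t Yt)) := isBasis_pullLoc f hK (hYt ▸ isBasis_genOpen hK t)
  obtain ⟨i1⟩ := nonempty_pow_one_iso hK
  obtain ⟨t', ht'⟩ := (trPull f hK).exists_map hK (k := 1) (one_mul 1) (i1.inv.app ⊤ t)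
  generalize hD : genOpen (isInvertible_tensorPow hP 1) t' = D₀ at ht'
  have hD₀ : D₀ = f ⁻¹ᵁ Yt := by
    rw [← hYt, ← gen_iff_of_iso hK (isInvertible_tensorPow hK 1) i1.symm t]
    exact ht'
  subst hD₀
  have hamp : AmpOn L (f ⁻¹ᵁ Yt) := ((isRelAmple_iff f).mp hL).2 ⟨Yt, haff⟩
  obtain ⟨m, hm, σ, hxσ, hσaff⟩ := affLoci_of_isAmple hamp ⟨x, hxt⟩
  obtain ⟨v, hv⟩ := exists_onOpen hLi (f ⁻¹ᵁ Yt) σ
  have := isQuasicoherent_of_isInvertible (isInvertible_tensorPow hLi m)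
  obtain ⟨E, hE⟩ := exists_extend_twist (CohB1.tensorPow L m) hP one_pos t' (f ⁻¹ᵁ Yt) hD hb v
  obtain ⟨w, a, hau, hw⟩ := hE E le_rfl
  have h1 := isInvertible_tensorMod (isInvertible_tensorPow hLi m) (isInvertible_tensorPow hP E)
  have h2 := isInvertible_tensorPow hP 1
  have h12 := isInvertible_tensorMod h1 h2
  obtain ⟨j⟩ := nonempty_pow_one_iso h12
  refine ⟨_, 1, ProjTwist.globalHom _ (j.inv.app ⊤ (SecTwist.tmul _ _ ⊤ w t')), h12, le_rfl, ?_⟩
  rw [genLocus_globalHom (isInvertible_tensorPow h12 1)]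
  have e0 : genOpen (isInvertible_tensorPow h12 1) (j.inv.app ⊤ (SecTwist.tmul _ _ ⊤ w t')) =
      genOpen h1 w ⊓ f ⁻¹ᵁ Yt :=
    ((gen_iff_of_iso h12 (isInvertible_tensorPow h12 1) j.symm _).trans (genOpen_tmul h1 h2 w t')).trans (by rw [hD])
  rw [e0]
  suffices e : genOpen h1 w ⊓ f ⁻¹ᵁ Yt = (f ⁻¹ᵁ Yt).ι ''ᵁ genOpen (isInvertible_tensorPow hamp.1 m) σ by
    rw [e]
    exact ⟨⟨⟨x, hxt⟩, hxσ, rfl⟩, hσaff.image_of_isOpenImmersion _⟩
  refine Opens.ext (Set.ext fun y => ?_)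
  by_cases hy : y ∈ f ⁻¹ᵁ Yt
  · obtain ⟨A, hA, α, c, hyA, hα, hc, hbo⟩ := hv y hy
    have e := congrArg (res _ hA) hw
    rw [res_gres, res_tw, res_smul, hc, smul_smul, smul_tw] at e
    have h3 := genOpen_inf_eq_basicOpen h1
      (isBasis_tmul (isBasis_pw hα m) (isBasis_pw (isBasis_res hb hA) E)) e
    rw [Scheme.basicOpen_mul, Scheme.basicOpen_of_isUnit _ (hau.map (X.presheaf.map (homOfLE hA).op).hom)] at h3
    constructor
    · intro hh
      exact ⟨⟨y, hy⟩, (hbo.ge (show (⟨y, hy⟩ : (f ⁻¹ᵁ Yt : X.Opens)) ∈ (f ⁻¹ᵁ Yt).ι ⁻¹ᵁ X.basicOpen c from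
        (h3.le ⟨hh.1, hyA⟩).2)).1, rfl⟩
    · rintro ⟨z, hz, rfl⟩
      exact ⟨(h3.ge ⟨hyA, hbo.le ⟨hz, hyA⟩⟩).1, hy⟩
  · refine ⟨fun hh => absurd hh.2 hy, ?_⟩
    rintro ⟨z, -, rfl⟩
    exact absurd z.2 hy

end Groth.Agent.InvPow
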