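import Groth.Agent.InvPow.DualBasis
import Groth.Agent.InvPow.AmpleFamily
import Groth.Agent.ProjCoh.GenHom
import Groth.Agent.ModGroth.PerfTensor
import Groth.Prelude.Def_PerfAux

/-!
# Ample families give the resolution property
-/

set_option autoImplicit false
set_option synthInstance.maxHeartbeats 400000
set_option maxHeartbeats 1600000
universe u
open CategoryTheory CategoryTheory.Limits AlgebraicGeometry Opposite TopologicalSpace

namespace Groth.Agent.InvPow

open InvBasic ProjUniv

variable {X : Scheme.{u}}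

/-- An invertible module is finite locally free. -/
theorem isFinLocFree_of_isInvertible {P : X.Modules} (hP : PicF.IsInvertible P) : FlatMod.IsFinLocFree P :=
  fun x => by
    obtain ⟨U, hxU, ⟨e⟩⟩ := hP x
    exact ⟨U, 1, hxU, ⟨e ≪≫ (coproductUniqueIso fun _ : Fin 1 => Coh.structureModule (U : Scheme.{u})).symm⟩⟩

/-- A global section of `F ⊗ P` gives a morphism from the dual of `P` to `F`. -/
theorem exists_hom_dual {F P : X.Modules} (hP : PicF.IsInvertible P) (w : Γ(CohB1.tensorMod F P, ⊤))
    {D : X.Opens} {p : Γ(P, D)} (hp : IsBasis P p) (m : Γ(F, D))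
    (hw : gres (CohB1.tensorMod F P) w D = SecTwist.tmul F P D m p) :
    ∃ (φ : RefHull.dual P ⟶ F) (θ : Γ(RefHull.dual P, D)), φ.app D θ = m := by
  choose V hxV q hq using fun x : X => exists_isBasis hP x
  choose n hn using fun x : X =>
    (ProjCoh.tmul_gen_bijective F (L := P) (g := q x) (hq x) (le_refl (V x))).2 (gres (CohB1.tensorMod F P) w (V x))
  let U : Option X → X.Opens := fun i => i.elim D V
  obtain ⟨b, hb, im, him⟩ : ∃ (b : ∀ i, Γ(P, U i)) (_ : ∀ i, IsBasis P (b i)) (im : ∀ i, Γ(F, U i)),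
      (∀ i, gres (CohB1.tensorMod F P) w (U i) = SecTwist.tmul F P (U i) (im i) (b i)) ∧ im none = m := by
    refine ⟨fun i => match i with | none => p | some x => q x, fun i => ?_,
      fun i => match i with | none => m | some x => n x, fun i => ?_, rfl⟩
    · match i with
      | none => exact hp
      | some x => exact hq x
    · match i with
      | none => exact hw
      | some x =>
        have e := hn x
        simp only [QCohLib.map_self] at e
        exact e.symm
  obtain ⟨him, himn⟩ := him
  choose θ hθ hpair using fun i => exists_isBasis_dual (hb i)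
  have hcov : ⨆ i, U i = ⊤ := top_le_iff.mp fun y _ => Opens.mem_iSup.mpr ⟨some y, hxV y⟩
  obtain ⟨φ, hφ⟩ := ProjCoh.exists_hom_of_gen (L := RefHull.dual P) (M := F) (g := θ) (x := im) hcov hθ
    fun i j W hi hj r hr => by
      obtain ⟨c, hc⟩ := exists_coef (isBasis_res (hb j) hj) (res P hi (b i))
      have hrc : r * c = 1 := by
        refine TopCat.Presheaf.section_ext X.sheaf W _ _ fun y hy => ?_
        refine ((isBasis_oneSec (X := X) W).stalk_bijective hy).1 ?_
        have e := congrArg (fun g : Γ(RefHull.dual P, W) =>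
          g.1 ⟨y, hy⟩ (P.presheaf.germ W y hy (res P hi (b i)))) hr
        dsimp only at e
        have l1 : ((RefHull.dual P).presheaf.map (homOfLE hi).op (θ i)).1 ⟨y, hy⟩
            (P.presheaf.germ W y hy (res P hi (b i))) = (Coh.structureModule X).presheaf.germ W y hy (oneSec X W) := by
          show (θ i).1 ⟨y, hi hy⟩ _ = _
          rw [res, TopCat.Presheaf.germ_res_apply, hpair i ⟨y, hi hy⟩, ← res_oneSec hi, TopCat.Presheaf.germ_res_apply]
        have l2 : (r • (RefHull.dual P).presheaf.map (homOfLE hj).op (θ j)).1 ⟨y, hy⟩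
            (P.presheaf.germ W y hy (res P hi (b i))) =
            (X.presheaf.germ W y hy r * X.presheaf.germ W y hy c) •
              (Coh.structureModule X).presheaf.germ W y hy (oneSec X W) := by
          show X.presheaf.germ W y hy r • (θ j).1 ⟨y, hj hy⟩ _ = _
          rw [hc, InvBasic.germ_smul, map_smul, res, TopCat.Presheaf.germ_res_apply, hpair j ⟨y, hj hy⟩,
            ← res_oneSec hj, TopCat.Presheaf.germ_res_apply, smul_smul]
        show X.presheaf.germ W y hy (r * c) • _ = X.presheaf.germ W y hy 1 • _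
        rw [map_mul, map_one, one_smul, ← l2, e, l1]
      have e1 := congrArg (res (CohB1.tensorMod F P) hj) (him j)
      have e2 := congrArg (res (CohB1.tensorMod F P) hi) (him i)
      rw [res_gres, res_tmul] at e1 e2
      rw [hc, ProjCoh.tmul_smul_right F P W, e1] at e2
      have e3 : res F hj (im j) = c • res F hi (im i) := by
        have hbij := ProjCoh.tmul_gen_bijective F (L := P) (g := b j) (hb j) hj
        exact hbij.1 e2
      show r • res F hj (im j) = res F hi (im i)
      rw [e3, smul_smul, hrc, one_smul]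
  exact ⟨φ, θ none, (hφ none).trans himn⟩

/-- Ample families give the resolution property. -/
theorem hasResolutionProperty_of_hasAmpleFamily (h : MoreMor.HasAmpleFamily X) : PerfAux.HasResolutionProperty X := by
  intro F hFq hFt
  have := h.1
  have := quasiSeparatedSpace_of_hasAmpleFamily h
  have : F.IsQuasicoherent := hFq
  choose L hL t hxt haff using fun x : X => exists_locus_of_hasAmpleFamily h x
  obtain ⟨S, hS⟩ := isCompact_univ.elim_finite_subcover (fun x => (genOpen (hL x) (t x) : Set X))
    (fun x => (genOpen (hL x) (t x)).2) (fun x _ => Set.mem_iUnion.mpr ⟨x, hxt x⟩)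
  choose G hG using fun x => (QCohLib.finite_sections F hFt (haff x)).fg_top
  have key : ∀ (x : X) (v : Γ(F, genOpen (hL x) (t x))), ∃ (P : X.Modules) (_ : PicF.IsInvertible P) (φ : P ⟶ F)
      (q : Γ(P, genOpen (hL x) (t x))) (a : Γ(X, genOpen (hL x) (t x))),
      IsUnit a ∧ φ.app _ q = a • v := by
    intro x v
    obtain ⟨i1⟩ := nonempty_pow_one_iso (hL x)
    have hD : genOpen (isInvertible_tensorPow (hL x) 1) (i1.inv.app ⊤ (t x)) = genOpen (hL x) (t x) :=
      gen_iff_of_iso (hL x) (isInvertible_tensorPow (hL x) 1) i1.symm (t x)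
    obtain ⟨E, hE⟩ := exists_extend_twist F (hL x) one_pos (i1.inv.app ⊤ (t x)) _ hD (isBasis_genOpen (hL x) (t x)) v
    obtain ⟨w, a, ha, hw⟩ := hE E le_rfl
    have hP := isInvertible_tensorPow (hL x) E
    obtain ⟨φ, θ, hφ⟩ := exists_hom_dual hP w (isBasis_pw (isBasis_genOpen (hL x) (t x)) E) (a • v) hw
    exact ⟨_, isInvertible_dual hP, φ, θ, a, ha, hφ⟩
  choose P hP φ q a ha hφ using key
  let κ := Σ x : S, {v // v ∈ G x.1}
  let en := Finite.equivFin κ
  let M : Fin (Nat.card κ) → X.Modules := fun k => P (en.symm k).1.1 (en.symm k).2.1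
  let π : (∐ M) ⟶ F := Sigma.desc fun k => φ (en.symm k).1.1 (en.symm k).2.1
  refine ⟨∐ M, π, ModGroth.Perf.isFinLocFree_sigma M fun k => isFinLocFree_of_isInvertible (hP _ _), ⟨fun {T} f g hfg => ?_⟩⟩
  have hc : ∀ (x : X), x ∈ S → ∀ v ∈ G x,
      f.app (genOpen (hL x) (t x)) v = g.app (genOpen (hL x) (t x)) v := by
    intro x hx v hv
    obtain ⟨k, hk⟩ : ∃ k, en.symm k = ⟨⟨x, hx⟩, ⟨v, hv⟩⟩ := ⟨_, en.symm_apply_apply _⟩
    have e := congrArg (fun ψ => Sigma.ι M k ≫ ψ) hfg
    dsimp only [π] at e
    rw [Sigma.ι_desc_assoc, Sigma.ι_desc_assoc] at e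
    have e : φ (en.symm k).1.1 (en.symm k).2.1 ≫ f = φ (en.symm k).1.1 (en.symm k).2.1 ≫ g := e
    rw [hk] at e
    have e' := congrArg (fun ψ => ψ.app (genOpen (hL x) (t x)) (q x v)) e
    change f.app _ ((φ x v).app _ (q x v)) = g.app _ ((φ x v).app _ (q x v)) at e'
    rw [hφ, Scheme.Modules.Hom.app_smul, Scheme.Modules.Hom.app_smul] at e'
    exact (ha x v).smul_left_cancel.mp e'
  refine Scheme.Modules.hom_ext _ _ fun U => ?_
  ext s
  refine QCohLib.section_ext _ _ fun y hy => ?_
  obtain ⟨x, hxS, hyx⟩ := Set.mem_iUnion₂.mp (hS (Set.mem_univ y))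
  obtain ⟨b, hbU, hyb⟩ := (haff x).exists_basicOpen_le (⟨y, hy⟩ : U) hyx
  have hbD : X.basicOpen b ≤ genOpen (hL x) (t x) := X.basicOpen_le b
  suffices e : ∀ (d : Γ(F, X.basicOpen b)), f.app _ d = g.app _ d by
    rw [← TopCat.Presheaf.germ_res_apply T.presheaf (homOfLE hbU) y hyb (f.app U s),
      ← TopCat.Presheaf.germ_res_apply T.presheaf (homOfLE hbU) y hyb (g.app U s)]
    exact congrArg _ ((QCohLib.app_map f hbU s).symm.trans ((e _).trans (QCohLib.app_map g hbU s)))
  intro d
  obtain ⟨k, z, hz⟩ := QCohLib.exists_res_eq_pow_smul (haff x) b (X.basicOpen b) hbD rfl d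
  have hu : IsUnit (resR hbD b ^ k : Γ(X, X.basicOpen b)) := (X.toRingedSpace.isUnit_res_basicOpen b).pow k
  refine hu.smul_left_cancel.mp ?_
  rw [← Scheme.Modules.Hom.app_smul, ← Scheme.Modules.Hom.app_smul]
  erw [← hz]
  rw [QCohLib.app_map f hbD z, QCohLib.app_map g hbD z]
  refine congrArg _ ?_
  have hzmem : z ∈ Submodule.span Γ(X, genOpen (hL x) (t x)) (G x : Set Γ(F, genOpen (hL x) (t x))) := by
    rw [hG x]; trivial
  clear hz
  induction hzmem using Submodule.span_induction with
  | mem v hv => exact hc x hxS v hv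
  | zero => rw [map_zero, map_zero]
  | add u v _ _ hu hv => rw [map_add, map_add, hu, hv]
  | smul c u _ hu => rw [Scheme.Modules.Hom.app_smul, Scheme.Modules.Hom.app_smul, hu]

end Groth.Agent.InvPow
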