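import Groth.Agent.InvPow.RelAmple
import Groth.Agent.InvPow.LocalIso
import Groth.Prelude.Def_PicGrp
import Groth.Prelude.Def_Mor2
import Mathlib.AlgebraicGeometry.QuasiAffine

/-!
# Ampleness of inverse images and external products
-/

set_option autoImplicit false
set_option synthInstance.maxHeartbeats 400000
set_option maxHeartbeats 800000
universe u
open CategoryTheory CategoryTheory.Limits AlgebraicGeometry Opposite TopologicalSpace

namespace Groth.Agent.InvPow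

open InvBasic ProjUniv

variable {X X' Y P : Scheme.{u}} {L : X.Modules}

/-- A function on a non-vanishing locus cuts out a locus. -/
theorem exists_section_basicOpen [CompactSpace X] [X.IsSeparated] (hL : PicF.IsInvertible L) {N : ℕ} (hN : 0 < N)
    (t : Γ(CohB1.tensorPow L N, ⊤)) (A : X.Opens) (hA : genOpen (isInvertible_tensorPow hL N) t = A)
    (g : Γ(X, A)) :
    ∃ n, 0 < n ∧ ∃ w : Γ(CohB1.tensorPow L n, ⊤), genOpen (isInvertible_tensorPow hL n) w = X.basicOpen g := by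
  obtain ⟨E, hE⟩ := exists_extend (r := 0) hL t A hA (g : Γ(X, A))
  obtain ⟨w, hwle, hw⟩ := hE (E + 1) (Nat.le_succ E)
  refine ⟨0 + N * (E + 1), by rw [zero_add]; exact Nat.mul_pos hN (Nat.succ_pos E), w,
    Opens.ext (Set.ext fun y => ?_)⟩
  by_cases hy : y ∈ A
  · obtain ⟨V, hyV, ℓ, hℓ⟩ := exists_isBasis hL y
    have hb := isBasis_res hℓ (inf_le_left : V ⊓ A ≤ V)
    obtain ⟨d, hd⟩ := exists_coef (isBasis_pw hb N) (gres (CohB1.tensorPow L N) t (V ⊓ A))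
    have h1 := hw (V ⊓ A) inf_le_right _ hb (resR (inf_le_right : V ⊓ A ≤ A) g) d
      (mul_one (resR (inf_le_right : V ⊓ A ≤ A) g)).symm hd
    have h2 := genOpen_inf_eq_basicOpen (isInvertible_tensorPow hL _) (isBasis_pw hb _) h1
    rw [Scheme.basicOpen_mul, Scheme.basicOpen_res, X.basicOpen_pow d (Nat.succ_pos E)] at h2
    have h3 := genOpen_inf_eq_basicOpen (isInvertible_tensorPow hL _) (isBasis_pw hb N) hd
    rw [hA] at h3
    exact ⟨fun hh => (h2.le ⟨hh, hyV, hy⟩).1.2,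
      fun hh => (h2.ge ⟨⟨⟨hyV, hy⟩, hh⟩, h3.le ⟨hy, hyV, hy⟩⟩).1⟩
  · exact ⟨fun hh => absurd (hwle hh) hy, fun hh => absurd (X.basicOpen_le g hh) hy⟩

/-- Inverse images of ample modules under quasi-compact morphisms with quasi-affine preimages of affine
neighbourhoods. -/
theorem isAmple_pullback_quasiAffine (h : CohB1.IsAmple L) (g : Y ⟶ X) [CompactSpace Y] [Y.IsSeparated]
    [QuasiCompact g] (hg : ∀ y : Y, ∃ U : X.Opens, g y ∈ U ∧ (g ⁻¹ᵁ U : Scheme.{u}).IsQuasiAffine) :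
    CohB1.IsAmple ((Scheme.Modules.pullback g).obj L) := by
  refine isAmple_of_affLoci (isInvertible_pullback g h.1) fun y => ?_
  obtain ⟨U, hyU, hU⟩ := hg y
  obtain ⟨N, hN, s, hx, hle, haff⟩ := exists_locus_le h hyU
  obtain ⟨σ, hσ⟩ := (trPull g h.1).exists_map h.1 (k := N) (one_mul N) s
  generalize hA : genOpen (isInvertible_tensorPow h.1 N) s = D at hx hle haff hσ
  have : CompactSpace (g ⁻¹ᵁ D) := isCompact_iff_compactSpace.mp (g.isCompact_preimage haff.isCompact)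
  have hleA : g ⁻¹ᵁ D ≤ g ⁻¹ᵁ U := fun z hz => hle hz
  have := hU
  have : (g ⁻¹ᵁ D : Scheme.{u}).IsQuasiAffine := Scheme.IsQuasiAffine.of_isImmersion (Y.homOfLE hleA)
  obtain ⟨_, ⟨_, ⟨r, hr, rfl⟩, rfl⟩, hxr, -⟩ := (Scheme.IsQuasiAffine.isBasis_basicOpen
    (g ⁻¹ᵁ D : Scheme.{u})).exists_subset_of_mem_open (Set.mem_univ (⟨y, hx⟩ : (g ⁻¹ᵁ D : Y.Opens))) isOpen_univ
  have him := Scheme.Opens.ι_image_basicOpen (U := g ⁻¹ᵁ D) r
  obtain ⟨n, hn, w, hw⟩ := exists_section_basicOpen (isInvertible_pullback g h.1) hN σ (g ⁻¹ᵁ D) hσ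
    ((g ⁻¹ᵁ D).topIso.hom r)
  have e : Y.basicOpen ((g ⁻¹ᵁ D).topIso.hom r) = (g ⁻¹ᵁ D).ι ''ᵁ (g ⁻¹ᵁ D : Scheme.{u}).basicOpen r := by
    rw [← (g ⁻¹ᵁ D).ι_image_basicOpen_topIso_inv ((g ⁻¹ᵁ D).topIso.hom r), Iso.hom_inv_id_apply]
  exact ⟨n, hn, w, hw.ge (e.ge ⟨⟨y, hx⟩, hxr, rfl⟩), hw ▸ e ▸ hr.image_of_isOpenImmersion _⟩

/-- Restriction of an inverse image to the preimage of an open. -/
noncomputable def restrictPullbackIso (g : X' ⟶ X) (W : X.Opens) (L : X.Modules) :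
    (Scheme.Modules.pullback (g ∣_ W)).obj ((Scheme.Modules.pullback W.ι).obj L) ≅
      (Scheme.Modules.pullback (g ⁻¹ᵁ W).ι).obj ((Scheme.Modules.pullback g).obj L) :=
  (Scheme.Modules.pullbackComp (g ∣_ W) W.ι).app L ≪≫
    (Scheme.Modules.pullbackCongr (morphismRestrict_ι g W)).app L ≪≫
    ((Scheme.Modules.pullbackComp (g ⁻¹ᵁ W).ι g).app L).symm

/-- External tensor products of ample modules. -/
theorem isAmple_tensor_pullback {N : Y.Modules} (hL : CohB1.IsAmple L) (hN : CohB1.IsAmple N) (p : P ⟶ X)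
    (q : P ⟶ Y) [CompactSpace P]
    (haff : ∀ z : P, ∃ (U : X.Opens) (V : Y.Opens), p z ∈ U ∧ q z ∈ V ∧
      ∀ (A : X.Opens) (B : Y.Opens), IsAffineOpen A → IsAffineOpen B → A ≤ U → B ≤ V →
        IsAffineOpen (p ⁻¹ᵁ A ⊓ q ⁻¹ᵁ B)) :
    CohB1.IsAmple (CohB1.tensorMod ((Scheme.Modules.pullback p).obj L) ((Scheme.Modules.pullback q).obj N)) := by
  have hp := isInvertible_pullback p hL.1
  have hq := isInvertible_pullback q hN.1
  refine isAmple_of_affLoci (isInvertible_tensorMod hp hq) fun z => ?_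
  obtain ⟨U, V, hzU, hzV, h⟩ := haff z
  obtain ⟨a, ha, s, hs, hsU, hsaff⟩ := exists_locus_le hL hzU
  obtain ⟨b, hb, t, ht, htV, htaff⟩ := exists_locus_le hN hzV
  obtain ⟨σ, hσ⟩ := (trPull p hL.1).exists_map hL.1 (k := a) (one_mul a) s
  obtain ⟨τ, hτ⟩ := (trPull q hN.1).exists_map hN.1 (k := b) (one_mul b) t
  have e : ∀ M, b * a = M → ∃ τ' : Γ(CohB1.tensorPow ((Scheme.Modules.pullback q).obj N) M, ⊤),
      genOpen (isInvertible_tensorPow hq _) τ' = genOpen (isInvertible_tensorPow hq _) τ := by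
    rintro _ rfl
    exact ⟨spow hq τ a, genOpen_spow hq τ ha⟩
  obtain ⟨τ', hτ'⟩ := e (a * b) (mul_comm b a)
  obtain ⟨ρ, hρ⟩ := exists_tensor hp hq (spow hp σ b) τ'
  rw [hτ', genOpen_spow hp σ hb, hσ, hτ] at hρ
  exact ⟨a * b, Nat.mul_pos ha hb, ρ, hρ.ge ⟨hs, ht⟩, hρ ▸ h _ _ hsaff htaff hsU htV⟩

end Groth.Agent.InvPow
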