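import Groth.Agent.InvPow.RelVeryAmple
import Groth.Agent.InvPow.RelAmple
import Groth.Agent.InvPow.LocalIso

/-!
# Relatively very ample sheaves: restriction
-/

set_option autoImplicit false
set_option synthInstance.maxHeartbeats 400000
set_option maxHeartbeats 800000
universe u
open CategoryTheory CategoryTheory.Limits AlgebraicGeometry

namespace Groth.Agent.InvPow

variable {X X' Y Y' : Scheme.{u}}

theorem isRelVeryAmplePn_of_iso {f : X ⟶ Y} {M M' : X.Modules} (e : M ≅ M') (h : RelAmple.IsRelVeryAmplePn f M) :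
    RelAmple.IsRelVeryAmplePn f M' := by
  obtain ⟨n, i, hi, hs, ⟨τ⟩⟩ := h
  exact ⟨n, i, hi, hs, ⟨e.symm ≪≫ τ⟩⟩

theorem isRelVeryAmplePn_pullback {f : X ⟶ Y} {M : X.Modules} (h : RelAmple.IsRelVeryAmplePn f M)
    (j : X' ⟶ X) [IsImmersion j] (k : Y' ⟶ Y) (q : X' ⟶ Y') (hq : q ≫ k = j ≫ f) :
    RelAmple.IsRelVeryAmplePn q ((Scheme.Modules.pullback j).obj M) := by
  obtain ⟨n, i, hi, hs, ⟨τ⟩⟩ := h
  let c := CohB1.ProjSpace.toSpec n (ULift.{u} ℤ)
  let i' : X' ⟶ CohB1.ProjSpaceOver n Y' :=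
    pullback.lift (j ≫ i ≫ pullback.fst c (specULiftZIsTerminal.from Y)) q (specULiftZIsTerminal.hom_ext _ _)
  let μ : CohB1.ProjSpaceOver n Y' ⟶ CohB1.ProjSpaceOver n Y :=
    pullback.map c (specULiftZIsTerminal.from Y') c (specULiftZIsTerminal.from Y) (𝟙 _) k (𝟙 _)
      (by simp) (specULiftZIsTerminal.hom_ext _ _)
  have hμ : μ ≫ pullback.fst c (specULiftZIsTerminal.from Y) = pullback.fst c (specULiftZIsTerminal.from Y') :=
    (pullback.lift_fst _ _ _).trans (Category.comp_id _)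
  have hfst : i' ≫ pullback.fst c (specULiftZIsTerminal.from Y') = j ≫ i ≫ pullback.fst c (specULiftZIsTerminal.from Y) :=
    pullback.lift_fst _ _ _
  have hcomp : i' ≫ μ = j ≫ i := by
    refine pullback.hom_ext ?_ ?_
    · exact (Category.assoc i' μ _).trans
        ((congrArg (i' ≫ ·) hμ).trans (hfst.trans (Category.assoc j i _).symm))
    · refine (Category.assoc i' μ _).trans ((congrArg (i' ≫ ·) (pullback.lift_snd _ _ _)).trans ?_)
      exact (Category.assoc i' _ k).symm.trans ((congrArg (· ≫ k) (pullback.lift_snd _ _ _)).trans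
        (hq.trans ((congrArg (j ≫ ·) hs.symm).trans (Category.assoc j i _).symm)))
  have : IsImmersion (j ≫ i) := @IsImmersion.comp _ _ _ j i inferInstance hi
  have : IsImmersion (i' ≫ μ) := hcomp.symm ▸ this
  have hi' : IsImmersion i' := IsImmersion.of_comp i' μ
  refine ⟨n, i', hi', pullback.lift_snd _ _ _, ⟨?_⟩⟩
  exact (Scheme.Modules.pullback j).mapIso τ ≪≫
    (Scheme.Modules.pullback j).mapIso ((Scheme.Modules.pullbackComp i _).app _) ≪≫
    (Scheme.Modules.pullbackComp j _).app _ ≪≫ (Scheme.Modules.pullbackCongr hfst.symm).app _ ≪≫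
    ((Scheme.Modules.pullbackComp i' _).app _).symm

theorem isSeparated_of_isRelVeryAmplePn {f : X ⟶ Y} {M : X.Modules} (h : RelAmple.IsRelVeryAmplePn f M) :
    IsSeparated f := by
  obtain ⟨n, i, hi, hs, -⟩ := h
  have : IsSeparated (CohB1.ProjSpace.toSpec n (ULift.{u} ℤ)) := by
    have : IsSeparated (terminal.from (CohB1.ProjSpace n (ULift.{u} ℤ))) :=
      (inferInstance : Scheme.IsSeparated (Proj (CohB1.polyGrading n (ULift.{u} ℤ)))).isSeparated_terminal_from
    have : IsSeparated (CohB1.ProjSpace.toSpec n (ULift.{u} ℤ) ≫ terminal.from _) := by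
      rwa [terminal.comp_from]
    exact IsSeparated.of_comp (CohB1.ProjSpace.toSpec n (ULift.{u} ℤ)) (terminal.from _)
  have h2 : IsSeparated (pullback.snd (CohB1.ProjSpace.toSpec n (ULift.{u} ℤ)) (specULiftZIsTerminal.from Y)) :=
    MorphismProperty.pullback_snd _ _ this
  have := hi
  rw [← hs]
  exact MorphismProperty.comp_mem _ _ _ (inferInstance : IsSeparated i) h2

end Groth.Agent.InvPow
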