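import Groth.Agent.InvPow.Locus
import Groth.Agent.ProjUniv.Exists
import Groth.Agent.ProjTwist.Frac
import Groth.Agent.ProjQuot.Map
import Groth.Agent.ProjLinear.PullTwist
import Groth.Agent.ProjGamma.Extend
import Mathlib.AlgebraicGeometry.Morphisms.Immersion

/-!
# A sheaf with a very ample power is ample
-/

set_option autoImplicit false
set_option synthInstance.maxHeartbeats 400000
set_option maxHeartbeats 1600000
universe u
open CategoryTheory CategoryTheory.Limits AlgebraicGeometry Opposite TopologicalSpace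

namespace Groth.Agent.InvPow

open InvBasic ProjUniv ProjGamma

variable {X : Scheme.{u}} {L : X.Modules} {R : Type u} [CommRing R] {m : ℕ}

local notation "𝒬" => CohB1.polyGrading m R

/-- An invertible sheaf on a quasi-compact scheme with a power pulled back from `O(1)` along an immersion into
projective space is ample. -/
theorem isAmple_of_immersion [CompactSpace X] (hL : PicF.IsInvertible L) {n : ℕ} (hn : 0 < n)
    (r : X ⟶ Proj (CohB1.polyGrading m R)) [IsImmersion r] (τ : P1 r ≅ CohB1.tensorPow L n) :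
    CohB1.IsAmple L := by
  refine ⟨hL, inferInstance, fun x => ?_⟩
  let s : Fin (m + 1) → Γ(CohB1.tensorPow L n, ⊤) := fun i => τ.hom.app ⊤ (pco r i)
  have hinv := isInvertible_tensorPow hL n
  have hs : ∀ i, genOpen hinv (s i) = r ⁻¹ᵁ D m R i := fun i => by
    rw [show s i = τ.hom.app ⊤ (pco r i) from rfl, gen_iff_of_iso (isInvertible_P1 r) hinv τ]
    exact Opens.ext (Set.ext fun y => gen_pco_iff r i y)
  have hrel : ∀ (W : (Proj 𝒬).Opens) (i j : Fin (m + 1))
      (hW : ∀ y : W, (MvPolynomial.X i : MvPolynomial (Fin (m + 1)) R) ∉ y.1.asHomogeneousIdeal),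
      gres (CohB1.tensorPow L n) (s j) (r ⁻¹ᵁ W) =
        r.app W (regFrac W (MvPolynomial.X j) (MvPolynomial.X i) (ProjPoint.X_mem j) (ProjPoint.X_mem i) hW) •
          gres (CohB1.tensorPow L n) (s i) (r ⁻¹ᵁ W) := by
    intro W i j hW
    have e := congrArg (τ.hom.app (r ⁻¹ᵁ W)) (ProjLinear.pullSec_eq_smul r (O1 m R)
      (s := co m R i) (t := co m R j) (U := W)
      (ProjLinear.globalOf_eq_smul (CohB1.polyGrading m R) ⟨MvPolynomial.X j, ProjPoint.X_mem j⟩
        ⟨MvPolynomial.X i, ProjPoint.X_mem i⟩ hW))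
    rw [Scheme.Modules.Hom.app_smul, gres_app, gres_app] at e
    exact e
  let W₀ : (Proj 𝒬).Opens := r.coborderRange
  have hxW : r x ∈ W₀ := subset_coborder ⟨x, rfl⟩
  obtain ⟨i₀, hi₀⟩ := exists_mem_D (n := m) (R := R) (r x)
  obtain ⟨d, h, hh, hxh, hhW⟩ := ProjTwist.exists_homogeneous_nhd 𝒬 W₀ hxW
  let F : MvPolynomial (Fin (m + 1)) R := h * MvPolynomial.X i₀
  let k := d + 1
  have hF : F ∈ 𝒬 k := SetLike.mul_mem_graded hh (ProjPoint.X_mem i₀)
  have hFW : Proj.basicOpen 𝒬 F ≤ W₀ := fun y hy => hhW fun hc => hy (Ideal.mul_mem_right _ _ hc)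
  have hxF : r x ∈ Proj.basicOpen 𝒬 F := fun hc => ((r x).isPrime.mem_or_mem hc).elim hxh hi₀
  have haff : IsAffineOpen (r ⁻¹ᵁ Proj.basicOpen 𝒬 F) := by
    have e : r ⁻¹ᵁ Proj.basicOpen 𝒬 F = r.liftCoborder ⁻¹ᵁ (r.coborderRange.ι ⁻¹ᵁ Proj.basicOpen 𝒬 F) := by
      rw [← Scheme.Hom.comp_preimage, r.liftCoborder_ι]
    rw [e]
    exact IsAffineOpen.preimage ((Proj.isAffineOpen_basicOpen 𝒬 F hF (Nat.succ_pos d)).preimage_of_isOpenImmersion
      r.coborderRange.ι (by rw [Scheme.Opens.opensRange_ι]; exact hFW)) r.liftCoborder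
  have hXk : ∀ i, (MvPolynomial.X i : MvPolynomial (Fin (m + 1)) R) ^ k ∈ 𝒬 k := fun i => by
    simpa using SetLike.pow_mem_graded k (ProjPoint.X_mem (n := m) (R := R) i)
  let c : ∀ i : Fin (m + 1), Γ(Proj 𝒬, D m R i) := fun i =>
    regFrac (D m R i) F (MvPolynomial.X i ^ k) hF (hXk i) fun y => notMem_pow y.2 k
  have hbasic : ∀ i, (Proj 𝒬).basicOpen (c i) = D m R i ⊓ Proj.basicOpen 𝒬 F := fun i => by
    ext y
    constructor
    · intro hy
      have hyD : y ∈ D m R i := (Proj 𝒬).basicOpen_le _ hy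
      exact ⟨hyD, (mem_basicOpen_iff _ hyD (rval_regFrac _ _ _ _ _ _ y hyD)).mp hy⟩
    · rintro ⟨hyD, hyF⟩
      exact (mem_basicOpen_iff _ hyD (rval_regFrac _ _ _ _ _ _ y hyD)).mpr hyF
  let σ : Fin (m + 1) → Γ(CohB1.tensorPow L (n * k), ⊤) := fun i => spow hL (s i) k
  have hinvk := isInvertible_tensorPow hL (n * k)
  have hσ : ∀ i, genOpen hinvk (σ i) = r ⁻¹ᵁ D m R i := fun i => (genOpen_spow hL (s i) (Nat.succ_pos d)).trans (hs i)
  obtain ⟨g, hg⟩ := exists_glue_sections (CohB1.tensorPow L (n * k))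
    (fun i : ULift.{u} (Fin (m + 1)) => r ⁻¹ᵁ D m R i.down)
    (fun y => by
      obtain ⟨i, hi⟩ := exists_mem_D (n := m) (R := R) (r y)
      exact ⟨⟨i⟩, hi⟩)
    (fun i => r.app _ (c i.down) • gres (CohB1.tensorPow L (n * k)) (σ i.down) (r ⁻¹ᵁ D m R i.down)) (by
      rintro ⟨i⟩ ⟨j⟩
      let W : (Proj 𝒬).Opens := D m R i ⊓ D m R j
      have hrp := gres_spow_smul hL (hrel W j i fun y => y.2.2) k
      change res (CohB1.tensorPow L (n * k)) (show r ⁻¹ᵁ W ≤ r ⁻¹ᵁ D m R i from fun y hy => hy.1)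
          (r.app _ (c i) • gres (CohB1.tensorPow L (n * k)) (spow hL (s i) k) (r ⁻¹ᵁ D m R i)) =
        res (CohB1.tensorPow L (n * k)) (show r ⁻¹ᵁ W ≤ r ⁻¹ᵁ D m R j from fun y hy => hy.2)
          (r.app _ (c j) • gres (CohB1.tensorPow L (n * k)) (spow hL (s j) k) (r ⁻¹ᵁ D m R j))
      rw [res_smul, res_smul, res_gres, res_gres, hrp, smul_smul]
      refine congrArg (· • _) ?_
      have n1 : ∀ (l : Fin (m + 1)) (hl : W ≤ D m R l), ProjUniv.resR (show r ⁻¹ᵁ W ≤ r ⁻¹ᵁ D m R l from fun y hy => hl hy) (r.app _ (c l)) =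
          r.app W ((Proj 𝒬).presheaf.map (homOfLE hl).op (c l)) :=
        fun l hl => (ConcreteCategory.congr_hom (r.naturality (homOfLE hl).op) (c l)).symm
      refine (congrArg (· * _) (n1 i inf_le_left)).trans (Eq.trans ?_ (n1 j inf_le_right).symm)
      rw [← map_pow (r.app W).hom, ← map_mul (r.app W).hom]
      refine congrArg (r.app W) (reg_ext fun y hy => ?_)
      rw [rval_mul, rval_pow, rval_res, rval_res, rval_regFrac, rval_regFrac, rval_regFrac, Localization.mk_pow,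
        Localization.mk_mul, Localization.mk_eq_mk_iff, Localization.r_iff_exists]
      exact ⟨1, by simp only [OneMemClass.coe_one, Submonoid.coe_mul, SubmonoidClass.coe_pow]; ring⟩)
  have hgl : genOpen hinvk g = r ⁻¹ᵁ Proj.basicOpen 𝒬 F := by
    ext y
    obtain ⟨i, hi⟩ := exists_mem_D (n := m) (R := R) (r y)
    have hb : IsBasis (CohB1.tensorPow L (n * k)) (gres (CohB1.tensorPow L (n * k)) (σ i) (r ⁻¹ᵁ D m R i)) := by
      rw [← hσ i]
      exact isBasis_genOpen hinvk (σ i)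
    have e := genOpen_inf_eq_basicOpen hinvk hb (hg ⟨i⟩)
    rw [← Scheme.preimage_basicOpen, hbasic] at e
    exact ⟨fun h => (e.le ⟨h, hi⟩).2, fun h => (e.ge ⟨hi, h⟩).1⟩
  obtain ⟨l, hl⟩ : ∃ l, n * k = l + 1 := ⟨n * k - 1, by have : 0 < n * k := Nat.mul_pos hn (Nat.succ_pos d); omega⟩
  have key : ∀ M, M = n * k → ∃ t : Coh.structureModule X ⟶ CohB1.tensorPow L M,
      x ∈ CohB1.genLocus _ t ∧ IsAffineOpen (CohB1.genLocus _ t) := by
    rintro _ rfl
    refine ⟨ProjTwist.globalHom _ g, ?_⟩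
    rw [genLocus_globalHom hinvk, hgl]
    exact ⟨hxF, haff⟩
  obtain ⟨t, ht⟩ := key (l + 1) hl.symm
  exact ⟨l, t, ht⟩

end Groth.Agent.InvPow
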