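import Groth.Agent.InvPow.Extend
import Groth.Agent.InvPow.Locus
import Groth.Agent.InvBasic.QCoh
import Groth.Agent.QCohLib.Sections
import Groth.Agent.ProjSpaceBC.Immersion
import Mathlib.AlgebraicGeometry.Morphisms.FiniteType

/-!
# Large powers of an ample sheaf are very ample over an affine base
-/

set_option autoImplicit false
set_option synthInstance.maxHeartbeats 400000
set_option maxHeartbeats 1600000
universe u
open CategoryTheory CategoryTheory.Limits AlgebraicGeometry Opposite TopologicalSpace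

namespace Groth.Agent.InvPow

open InvBasic ProjUniv

variable {X : Scheme.{u}} {L : X.Modules} {R : Type u} [CommRing R] (q : X ⟶ Spec (CommRingCat.of R))

theorem exists_uniform_sections (hL : CohB1.IsAmple L) :
    ∃ N : ℕ, 0 < N ∧ ∀ x : X, ∃ t : Γ(CohB1.tensorPow L N, ⊤),
      x ∈ genOpen (isInvertible_tensorPow hL.1 N) t ∧
        IsAffineOpen (genOpen (isInvertible_tensorPow hL.1 N) t) := by
  have hinv := hL.1
  have hcpt := hL.2.1
  have h := hL.2.2
  choose m s hxs haff using h
  choose σ hσ using fun x => exists_globalHom_eq (s x)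
  obtain ⟨F, hF⟩ := isCompact_univ.elim_finite_subcover
    (fun x => (CohB1.genLocus _ (s x) : Set X)) (fun x => (CohB1.genLocus _ (s x)).2)
    (fun x _ => Set.mem_iUnion.mpr ⟨x, hxs x⟩)
  refine ⟨∏ x ∈ F, (m x + 1), Finset.prod_pos fun x _ => Nat.succ_pos _, fun y => ?_⟩
  obtain ⟨x, hx, hyx⟩ := Set.mem_iUnion₂.mp (hF (Set.mem_univ y))
  obtain ⟨k, hk⟩ := Finset.dvd_prod_of_mem (fun x => m x + 1) hx
  have hk0 : 0 < k := Nat.pos_of_ne_zero fun h0 => by
    rw [h0, mul_zero] at hk
    exact (Finset.prod_pos (fun (x : X) (_ : x ∈ F) => Nat.succ_pos (m x))).ne' hk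
  rw [hk]
  refine ⟨spow hinv (σ x) k, ?_⟩
  rw [genOpen_spow hinv (σ x) hk0, ← genLocus_globalHom, hσ]
  exact ⟨hyx, haff x⟩

theorem finiteType_sigma [LocallyOfFiniteType q] {U : X.Opens} (hU : IsAffineOpen U) : (sigma q U).FiniteType := by
  have h : (q.appLE ⊤ U le_top).hom.FiniteType := q.finiteType_appLE (isAffineOpen_top _) hU _
  have e : sigma q U = (q.appLE ⊤ U le_top).hom.comp (Scheme.ΓSpecIso (CommRingCat.of R)).inv.hom := rfl
  rw [e]
  exact h.comp (RingHom.FiniteType.of_surjective _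
    (ConcreteCategory.bijective_of_isIso (Scheme.ΓSpecIso (CommRingCat.of R)).inv).2)

/-- Sections of all large powers in a fixed residue class giving an affine chart at `x`, inside a given open, with
generated ring. -/
theorem exists_chart_le [CompactSpace X] [X.IsSeparated] [LocallyOfFiniteType q] (hL : PicF.IsInvertible L) {N : ℕ}
    (r : ℕ) (t : Γ(CohB1.tensorPow L N, ⊤)) (x : X) (hx : x ∈ genOpen (isInvertible_tensorPow hL N) t)
    (haff : IsAffineOpen (genOpen (isInvertible_tensorPow hL N) t)) (G : X.Opens) (hxG : x ∈ G) :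
    ∃ D : X.Opens, x ∈ D ∧ D ≤ G ∧ IsAffineOpen D ∧ ∃ E, ∀ e, E ≤ e →
      ∃ (κ : Type u) (_ : Finite κ) (w : κ → ProjUP.Γm (CohB1.tensorPow L (r + N * e))) (j : κ),
        genOpen (isInvertible_tensorPow hL _) (w j) = D ∧
        Subring.closure (Set.range (sigma q D) ∪ {c | ∃ i, gres (CohB1.tensorPow L (r + N * e)) (w i) D =
          c • gres (CohB1.tensorPow L (r + N * e)) (w j) D}) = ⊤ := by
  classical
  generalize hU : genOpen (isInvertible_tensorPow hL N) t = U at hx haff
  obtain ⟨V, hxV, ℓ₀, hℓ₀⟩ := exists_isBasis hL x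
  obtain ⟨h, hhle, hxh⟩ := haff.exists_basicOpen_le (⟨x, ⟨⟨hxV, hxG⟩, hx⟩⟩ : ↥(V ⊓ G ⊓ U)) hx
  let D := X.basicOpen h
  have hDU : D ≤ U := X.basicOpen_le h
  let ℓ := res L ((hhle.trans inf_le_left).trans inf_le_left : D ≤ V) ℓ₀
  have hℓ : IsBasis L ℓ := isBasis_res hℓ₀ _
  have hinvr := isInvertible_tensorPow hL r
  have : (CohB1.tensorPow L r).IsQuasicoherent := isQuasicoherent_of_isInvertible hinvr
  obtain ⟨M, v0, hv0⟩ := QCohLib.exists_res_eq_pow_smul (M := CohB1.tensorPow L r) haff h D hDU rfl (pw L ℓ r)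
  have hfin := finiteType_sigma q haff
  letI := (sigma q U).toAlgebra
  obtain ⟨G, hG⟩ := hfin
  let v : Option (Option G) → Γ(CohB1.tensorPow L r, U) := fun
    | none => h • v0
    | some none => v0
    | some (some a) => (a : Γ(X, U)) • (h • v0)
  choose E hE using fun i => exists_extend hL t U hU (v i)
  refine ⟨D, hxh, (hhle.trans inf_le_left).trans inf_le_right, haff.basicOpen h, Finset.univ.sup E, fun e he => ?_⟩
  choose w hwU hw using fun i => hE i e ((Finset.le_sup (Finset.mem_univ i)).trans he)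
  obtain ⟨d, hd⟩ := exists_coef (isBasis_pw hℓ N) (gres (CohB1.tensorPow L N) t D)
  have hdu : IsUnit d := by
    refine X.toRingedSpace.isUnit_of_isUnit_germ D d fun y hy => ?_
    refine (X.mem_basicOpen d y hy).mp ?_
    rw [← genOpen_inf_eq_basicOpen (isInvertible_tensorPow hL N) (isBasis_pw hℓ N) hd, hU]
    exact ⟨hDU hy, hy⟩
  let hD := resR hDU h
  have hhu : IsUnit hD := X.toRingedSpace.isUnit_res_basicOpen h
  have hv0' : res (CohB1.tensorPow L r) hDU v0 = hD ^ M • pw L ℓ r := hv0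
  let cf : Option (Option G) → Γ(X, D) := fun
    | none => 1
    | some none => ↑hhu.unit⁻¹
    | some (some a) => resR hDU (a : Γ(X, U))
  have hwD : ∀ i, gres (CohB1.tensorPow L (r + N * e)) (w i) D =
      (cf i * (hD ^ (M + 1) * d ^ e)) • pw L ℓ (r + N * e) := by
    intro i
    refine (hw i D hDU ℓ hℓ (cf i * hD ^ (M + 1)) d ?_ hd).trans (by rw [mul_assoc])
    match i with
    | none =>
      show res (CohB1.tensorPow L r) hDU (h • v0) = _
      rw [res_smul, hv0', smul_smul]
      congr 1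
      simp only [cf, one_mul]
      rw [pow_succ']
    | some none =>
      show res (CohB1.tensorPow L r) hDU v0 = _
      rw [hv0']
      congr 1
      simp only [cf]
      rw [pow_succ', ← mul_assoc, IsUnit.val_inv_mul, one_mul]
    | some (some a) =>
      show res (CohB1.tensorPow L r) hDU ((a : Γ(X, U)) • (h • v0)) = _
      rw [res_smul, res_smul, hv0', smul_smul, smul_smul]
      congr 1
      simp only [cf]
      rw [pow_succ']
      ring
  have hbasis : IsBasis (CohB1.tensorPow L (r + N * e)) (gres (CohB1.tensorPow L (r + N * e)) (w none) D) := by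
    intro W hW
    have hu : IsUnit (resR hW (cf none * (hD ^ (M + 1) * d ^ e))) := by
      refine IsUnit.map (X.presheaf.map (homOfLE hW).op).hom ?_
      simp only [cf, one_mul]
      exact (hhu.pow _).mul (hdu.pow _)
    have e1 : (fun c : Γ(X, W) => c • ((CohB1.tensorPow L (r + N * e)).presheaf.map (homOfLE hW).op
        (gres (CohB1.tensorPow L (r + N * e)) (w none) D) : Γ(CohB1.tensorPow L (r + N * e), W))) =
        (fun c => c • res (CohB1.tensorPow L (r + N * e)) hW (pw L ℓ (r + N * e))) ∘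
          fun c : Γ(X, W) => c * resR hW (cf none * (hD ^ (M + 1) * d ^ e)) := by
      funext c
      show c • res (CohB1.tensorPow L (r + N * e)) hW (gres (CohB1.tensorPow L (r + N * e)) (w none) D) = _
      rw [hwD, res_smul, smul_smul]
      rfl
    rw [e1]
    exact (isBasis_pw hℓ _ W hW).comp hu.unit.mulRight.bijective
  have hop : genOpen (isInvertible_tensorPow hL _) (w none) = D := by
    refine le_antisymm (fun y hy => ?_) fun y hy => gen_of_isBasis hbasis hy
    have hyU := hwU none hy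
    obtain ⟨V', hyV', ℓ', hℓ'⟩ := exists_isBasis hL y
    have hb := isBasis_res hℓ' (inf_le_left : V' ⊓ U ≤ V')
    obtain ⟨c0, hc0⟩ := exists_coef (isBasis_pw hb r) (res (CohB1.tensorPow L r) (inf_le_right : V' ⊓ U ≤ U) v0)
    obtain ⟨d0, hd0⟩ := exists_coef (isBasis_pw hb N) (gres (CohB1.tensorPow L N) t (V' ⊓ U))
    have h1 := hw none (V' ⊓ U) inf_le_right _ hb (resR (inf_le_right : V' ⊓ U ≤ U) h * c0) d0 (by
      show res (CohB1.tensorPow L r) _ (h • v0) = _
      rw [res_smul, hc0, smul_smul]) hd0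
    have h2 := (genOpen_inf_eq_basicOpen (isInvertible_tensorPow hL _) (isBasis_pw hb _) h1).le ⟨hy, hyV', hyU⟩
    rw [Scheme.basicOpen_mul, Scheme.basicOpen_mul, Scheme.basicOpen_res] at h2
    exact h2.1.1.2
  refine ⟨Option (Option G), inferInstance, w, none, hop, ?_⟩
  set S := Subring.closure (Set.range (sigma q D) ∪ {c | ∃ i, gres (CohB1.tensorPow L (r + N * e)) (w i) D =
    c • gres (CohB1.tensorPow L (r + N * e)) (w none) D})
  have hcf : ∀ i, cf i ∈ S := fun i => Subring.subset_closure (Or.inr ⟨i, by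
    rw [hwD i, hwD none, smul_smul]
    simp only [cf, one_mul]⟩)
  have hres : ∀ a : Γ(X, U), resR hDU a ∈ S := by
    intro a
    have ha : a ∈ Algebra.adjoin R (G : Set Γ(X, U)) := hG ▸ trivial
    induction ha using Algebra.adjoin_induction with
    | mem b hb => exact hcf (some (some ⟨b, hb⟩))
    | algebraMap c => exact Subring.subset_closure (Or.inl ⟨c, (RingHom.congr_fun (resR_sigma q hDU) c).symm⟩)
    | add b c _ _ hb hc =>
      rw [show resR hDU (b + c) = resR hDU b + resR hDU c from map_add (X.presheaf.map (homOfLE hDU).op).hom b c]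
      exact add_mem hb hc
    | mul b c _ _ hb hc =>
      rw [resR_mul]
      exact mul_mem hb hc
  rw [eq_top_iff]
  intro c _
  letI := haff.isLocalization_basicOpen h
  obtain ⟨⟨a, ⟨_, k, rfl⟩⟩, ha⟩ := IsLocalization.surj (Submonoid.powers h) (c : Γ(X, X.basicOpen h))
  change c * resR hDU (h ^ k) = resR hDU a at ha
  have e2 : c = resR hDU a * (↑hhu.unit⁻¹ : Γ(X, D)) ^ k := by
    rw [← ha, resR_pow, mul_assoc, ← mul_pow]
    change c = c * (hD * ↑hhu.unit⁻¹) ^ k
    rw [IsUnit.mul_val_inv, one_pow, mul_one]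
  rw [e2]
  exact mul_mem (hres a) (pow_mem (hcf (some none)) k)

/-- Sections of all large powers in a fixed residue class giving an affine chart at `x` with generated ring. -/
theorem exists_chart [CompactSpace X] [X.IsSeparated] [LocallyOfFiniteType q] (hL : PicF.IsInvertible L) {N : ℕ}
    (r : ℕ) (t : Γ(CohB1.tensorPow L N, ⊤)) (x : X) (hx : x ∈ genOpen (isInvertible_tensorPow hL N) t)
    (haff : IsAffineOpen (genOpen (isInvertible_tensorPow hL N) t)) :
    ∃ D : X.Opens, x ∈ D ∧ IsAffineOpen D ∧ ∃ E, ∀ e, E ≤ e →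
      ∃ (κ : Type u) (_ : Finite κ) (w : κ → ProjUP.Γm (CohB1.tensorPow L (r + N * e))) (j : κ),
        genOpen (isInvertible_tensorPow hL _) (w j) = D ∧
        Subring.closure (Set.range (sigma q D) ∪ {c | ∃ i, gres (CohB1.tensorPow L (r + N * e)) (w i) D =
          c • gres (CohB1.tensorPow L (r + N * e)) (w j) D}) = ⊤ := by
  obtain ⟨D, hxD, -, hD⟩ := exists_chart_le q hL r t x hx haff ⊤ trivial
  exact ⟨D, hxD, hD⟩

/-- An ample sheaf has very ample large powers. -/
theorem exists_bound_immersion [IsSeparated q] [LocallyOfFiniteType q] (hL : CohB1.IsAmple L) :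
    ∃ n₀ : ℕ, ∀ n, n₀ ≤ n → ∃ (M : ℕ) (i : X ⟶ CohB1.ProjSpaceOver M (Spec (CommRingCat.of R))), IsImmersion i ∧
      i ≫ pullback.snd (CohB1.ProjSpace.toSpec M (ULift.{u} ℤ))
        (specULiftZIsTerminal.from (Spec (CommRingCat.of R))) = q ∧
      Nonempty (CohB1.tensorPow L n ≅
        (Scheme.Modules.pullback i).obj (Twist.twistOver M (Spec (CommRingCat.of R)) 1)) := by
  classical
  obtain ⟨N, hN, ht⟩ := exists_uniform_sections hL
  have hinv := hL.1
  have hcpt := hL.2.1
  have : X.IsSeparated := ⟨by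
    rw [← terminal.comp_from q]
    infer_instance⟩
  choose t hxt htaff using ht
  choose D hxD hDaff E hE using fun (r : Fin N) x => exists_chart q hinv r.1 (t x) x (hxt x) (htaff x)
  choose F hF using fun r => isCompact_univ.elim_finite_subcover (fun x => (D r x : Set X))
    (fun x => (D r x).2) (fun x _ => Set.mem_iUnion.mpr ⟨x, hxD r x⟩)
  let E₀ := Finset.univ.sup fun r => (F r).sup (E r)
  refine ⟨N * (E₀ + 1), fun n hn => ?_⟩
  obtain ⟨r, e, he, rfl⟩ : ∃ (r : Fin N) (e : ℕ), E₀ ≤ e ∧ n = r.1 + N * e := by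
    refine ⟨⟨n % N, Nat.mod_lt _ hN⟩, n / N, ?_, (Nat.mod_add_div n N).symm⟩
    rw [Nat.le_div_iff_mul_le hN]
    calc E₀ * N ≤ N * (E₀ + 1) := by rw [mul_comm]; exact Nat.mul_le_mul_left _ (Nat.le_succ _)
      _ ≤ n := hn
  have hEle : ∀ x : ↥(F r), E r x.1 ≤ e := fun x => ((Finset.le_sup x.2).trans
    (Finset.le_sup (f := fun r => (F r).sup (E r)) (Finset.mem_univ r))).trans he
  choose κ hκ w j hop hgen using fun x : ↥(F r) => hE r x.1 e (hEle x)
  have hop' : ∀ x : ↥(F r), genOpen (isInvertible_tensorPow hinv _) (w x (j x)) = D r x.1 := hop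
  obtain ⟨M, i, hi, -, hiq, hiso⟩ := ProjSpaceBC.exists_immersion q (isInvertible_tensorPow hinv (r.1 + N * e))
    (fun p : Σ x : ↥(F r), κ x => w p.1 p.2) (Set.range fun x => (⟨x, j x⟩ : Σ x : ↥(F r), κ x))
    (fun y => by
      obtain ⟨x, hx, hyx⟩ := Set.mem_iUnion₂.mp (hF r (Set.mem_univ y))
      exact ⟨_, ⟨⟨x, hx⟩, rfl⟩, (hop' ⟨x, hx⟩).ge hyx⟩)
    (by rintro _ ⟨x, rfl⟩; rw [hop' x]; exact hDaff r x.1)
    (by
      rintro _ ⟨x, rfl⟩
      rw [hop' x, eq_top_iff, ← hgen x]
      refine Subring.closure_mono (Set.union_subset_union_right _ ?_)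
      rintro c ⟨k, hk⟩
      exact ⟨⟨x, k⟩, hk⟩)
  exact ⟨M, i, hi, hiq, hiso⟩

end Groth.Agent.InvPow
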