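import Groth.Agent.InvPow.VeryAmpleBase
import Groth.Agent.InvPow.Compose
import Groth.Agent.InvPow.RelVeryAmpleLocal
import Groth.Agent.S2330
import Mathlib.AlgebraicGeometry.ProjectiveSpectrum.Proper

/-!
# Projectivity criteria
-/

set_option autoImplicit false
set_option synthInstance.maxHeartbeats 400000
set_option maxHeartbeats 800000
universe u
open CategoryTheory CategoryTheory.Limits AlgebraicGeometry Opposite TopologicalSpace

namespace Groth.Agent.InvPow

open InvBasic ProjUniv

variable {X S : Scheme.{u}} {L : X.Modules}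

theorem isInvertible_twistOver (n : ℕ) (S : Scheme.{u}) : PicF.IsInvertible (Twist.twistOver n S 1) :=
  ProjUniv.isInvertible_pullback _ isInvertible_O1

/-- The structure map of projective space is proper. -/
theorem isProper_toSpec (n : ℕ) (R : Type u) [CommRing R] : IsProper (CohB1.ProjSpace.toSpec n R) := by
  have h₀ : (algebraMap (CohB1.polyGrading n R 0) (MvPolynomial (Fin (n + 1)) R)).comp
      (algebraMap R (CohB1.polyGrading n R 0)) = algebraMap R (MvPolynomial (Fin (n + 1)) R) := rfl
  have : Algebra.FiniteType (CohB1.polyGrading n R 0) (MvPolynomial (Fin (n + 1)) R) :=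
    RingHom.finiteType_algebraMap.mp (RingHom.FiniteType.of_comp_finiteType
      (f := algebraMap R (CohB1.polyGrading n R 0))
      (by rw [h₀]; exact RingHom.finiteType_algebraMap.mpr inferInstance))
  have hsurj : Function.Surjective (algebraMap R (CohB1.polyGrading n R 0)) := fun x =>
    ⟨MvPolynomial.coeff 0 x.1, Subtype.ext
      ((MvPolynomial.totalDegree_eq_zero_iff_eq_C.mp ((MvPolynomial.totalDegree_zero_iff_isHomogeneous _).mpr x.2)).symm)⟩
  have : IsClosedImmersion (Spec.map (CommRingCat.ofHom (algebraMap R (CohB1.polyGrading n R 0)))) :=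
    IsClosedImmersion.spec_of_surjective _ hsurj
  unfold CohB1.ProjSpace.toSpec
  exact MorphismProperty.comp_mem @IsProper _ _
    (inferInstanceAs (IsProper (Proj.toSpecZero (CohB1.polyGrading n R)))) inferInstance

/-- The projection of projective space over a base is proper. -/
theorem isProper_snd (n : ℕ) (S : Scheme.{u}) :
    IsProper (pullback.snd (CohB1.ProjSpace.toSpec n (ULift.{u} ℤ)) (specULiftZIsTerminal.from S)) :=
  (inferInstance : MorphismProperty.IsStableUnderBaseChange @IsProper.{u}).of_isPullback (IsPullback.of_hasPullback _ _) (isProper_toSpec n _)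

/-- Very ampleness relative to some projective space gives relative ampleness. -/
theorem isRelAmple_of_isRelVeryAmplePn (f : X ⟶ S) [LocallyOfFiniteType f] [QuasiCompact f]
    (hL : PicF.IsInvertible L) (h : RelAmple.IsRelVeryAmplePn f L) : RelAmple.IsRelAmple f L := by
  refine isRelAmple_of_local f fun y => ?_
  obtain ⟨U, hU, hyU, -⟩ := exists_isAffineOpen_mem_and_subset (x := y) (U := ⊤) (Opens.mem_top y)
  refine ⟨U, hyU, ?_⟩
  have : IsAffine (U : Scheme.{u}) := hU
  have hva := isRelVeryAmplePn_pullback h (f ⁻¹ᵁ U).ι U.ι (f ∣_ U) (morphismRestrict_ι f U)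
  have := isSeparated_of_isRelVeryAmplePn hva
  have : LocallyOfFiniteType (f ∣_ U) := inferInstance
  have hi := ProjUniv.isInvertible_pullback (f ⁻¹ᵁ U).ι hL
  obtain ⟨e⟩ := nonempty_pow_one_iso hi
  exact (Groth.Agent.S2330.result (f ∣_ U) _ hi).1.mpr ⟨1, one_pos, isRelVeryAmplePn_of_iso e.symm hva⟩

/-- A scheme quasi-compactly immersed in some projective space over a base with an ample module has one. -/
theorem exists_isAmple_of_immersion (hS : ∃ N : S.Modules, CohB1.IsAmple N) (f : X ⟶ S) {n : ℕ}
    (i : X ⟶ CohB1.ProjSpaceOver n S) [IsImmersion i] [QuasiCompact i]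
    (hi : i ≫ pullback.snd (CohB1.ProjSpace.toSpec n (ULift.{u} ℤ)) (specULiftZIsTerminal.from S) = f) :
    LocallyOfFiniteType f ∧ QuasiCompact f ∧ (∃ L : X.Modules, CohB1.IsAmple L) ∧
      ∃ L : X.Modules, RelAmple.IsRelAmple f L := by
  have := isProper_snd n S
  have hft : LocallyOfFiniteType f := hi ▸ MorphismProperty.comp_mem @LocallyOfFiniteType i _
    (inferInstance : LocallyOfFiniteType i) ((inferInstance : LocallyOfFiniteType (pullback.snd
      (CohB1.ProjSpace.toSpec n (ULift.{u} ℤ)) (specULiftZIsTerminal.from S))))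
  have hqc : QuasiCompact f := hi ▸ MorphismProperty.comp_mem @QuasiCompact i _
    (inferInstance : QuasiCompact i) ((inferInstance : QuasiCompact (pullback.snd
      (CohB1.ProjSpace.toSpec n (ULift.{u} ℤ)) (specULiftZIsTerminal.from S))))
  have hrel := isRelAmple_of_isRelVeryAmplePn f
    (ProjUniv.isInvertible_pullback i (isInvertible_twistOver n S)) ⟨n, i, ‹_›, hi, ⟨Iso.refl _⟩⟩
  obtain ⟨N, hN⟩ := hS
  obtain ⟨k, -, hk⟩ := exists_isAmple_tensor_pullback f hN hrel
  exact ⟨hft, hqc, ⟨_, hk k le_rfl⟩, _, hrel⟩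

end Groth.Agent.InvPow
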