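import Groth.Agent.InvPow.RelAmple
import Mathlib.AlgebraicGeometry.QuasiAffine
import Mathlib.AlgebraicGeometry.Morphisms.ClosedImmersion
import Mathlib.AlgebraicGeometry.Morphisms.UniversallyClosed

/-!
# Non-vanishing loci on a universally closed scheme over an affine base are affine
-/

set_option autoImplicit false
set_option synthInstance.maxHeartbeats 400000
set_option maxHeartbeats 1600000
universe u
open CategoryTheory CategoryTheory.Limits AlgebraicGeometry Opposite TopologicalSpace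

namespace Groth.Agent.InvPow

open InvBasic ProjUniv

variable {X B : Scheme.{u}} {L : X.Modules}

theorem isAffineOpen_genOpen_of_universallyClosed (h : CohB1.IsAmple L) (f : X ⟶ B) [IsAffine B]
    [UniversallyClosed f] {N : ℕ} (hN : 0 < N) (σ : Γ(CohB1.tensorPow L N, ⊤)) (D : X.Opens)
    (hσ : genOpen (isInvertible_tensorPow h.1 N) σ = D) : IsAffineOpen D := by
  have := h.2.1
  have := isSeparated_of_isAmple h
  have hL := h.1
  have hN' := isInvertible_tensorPow hL N
  have hcD : IsCompact (D : Set X) := by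
    choose A hA hxA _ using fun x : X => exists_isAffineOpen_mem_and_subset (x := x) (U := ⊤) (Opens.mem_top x)
    obtain ⟨S, hS⟩ := isCompact_univ.elim_finite_subcover (fun x => (A x : Set X)) (fun x => (A x).2)
      (fun x _ => Set.mem_iUnion.mpr ⟨x, hxA x⟩)
    have e : (D : Set X) = ⋃ x ∈ S, ((D ⊓ A x : X.Opens) : Set X) := by
      ext y
      refine ⟨fun hy => ?_, fun hy => ?_⟩
      · obtain ⟨x, hx, hyx⟩ := Set.mem_iUnion₂.mp (hS (Set.mem_univ y))
        exact Set.mem_iUnion₂.mpr ⟨x, hx, hy, hyx⟩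
      · obtain ⟨x, -, hyx⟩ := Set.mem_iUnion₂.mp hy
        exact hyx.1
    rw [e]
    refine S.isCompact_biUnion fun x _ => ?_
    rw [← hσ]
    exact (isAffineOpen_genOpen_inf hN' σ (hA x)).isCompact
  have : CompactSpace (D : Scheme.{u}) := isCompact_iff_compactSpace.mp hcD
  -- quotients by powers of `σ`
  have hcoef : ∀ {m : ℕ} (t : Γ(CohB1.tensorPow L m, ⊤)), ∃ b : Γ(X, D),
      ∀ (W : X.Opens) (hW : W ≤ D) (ℓ : Γ(L, W)), IsBasis L ℓ → ∀ c d : Γ(X, W),
        gres (CohB1.tensorPow L m) t W = c • pw L ℓ m → gres (CohB1.tensorPow L N) σ W = d • pw L ℓ N →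
        c ^ N = resR hW b * d ^ m := by
    intro m t
    have hbs : IsBasis (CohB1.tensorPow L (N * m)) (gres (CohB1.tensorPow L (N * m)) (spow hL σ m) D) := by
      rcases m.eq_zero_or_pos with rfl | hm
      · refine isBasis_of_cover fun y hy => ?_
        obtain ⟨U, hyU, ℓ, hℓ⟩ := exists_isBasis hL y
        have hb := isBasis_res hℓ (inf_le_right : D ⊓ U ≤ U)
        obtain ⟨d, hd⟩ := exists_coef (isBasis_pw hb N) (gres (CohB1.tensorPow L N) σ (D ⊓ U))
        refine ⟨D ⊓ U, inf_le_left, ⟨hy, hyU⟩, ?_⟩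
        rw [res_gres, spow_coef hL σ hb hd 0, pow_zero, one_smul]
        exact isBasis_pw hb _
      · have := isBasis_genOpen (isInvertible_tensorPow hL (N * m)) (spow hL σ m)
        rwa [genOpen_spow hL σ hm, hσ] at this
    have e : ∀ M, m * N = M → ∃ t' : Γ(CohB1.tensorPow L M, ⊤), ∀ (W : X.Opens) (ℓ : Γ(L, W)), IsBasis L ℓ →
        ∀ c : Γ(X, W), gres (CohB1.tensorPow L m) t W = c • pw L ℓ m →
          gres (CohB1.tensorPow L M) t' W = c ^ N • pw L ℓ M := by
      rintro _ rfl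
      exact ⟨spow hL t N, fun W ℓ hℓ c hc => spow_coef hL t hℓ hc N⟩
    obtain ⟨t', ht'⟩ := e (N * m) (mul_comm m N)
    obtain ⟨b, hb⟩ := exists_coef hbs (gres (CohB1.tensorPow L (N * m)) t' D)
    refine ⟨b, fun W hW ℓ hℓ c d hc hd => ?_⟩
    have e1 := congrArg (res _ hW) hb
    rw [res_gres, res_smul, res_gres, ht' W ℓ hℓ c hc, spow_coef hL σ hℓ hd m, smul_smul] at e1
    exact coef_unique (isBasis_pw hℓ _) e1
  -- the locus is quasi-affine
  have hqa : (D : Scheme.{u}).IsQuasiAffine := by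
    refine Scheme.IsQuasiAffine.of_forall_exists_mem_basicOpen _ fun x => ?_
    obtain ⟨m, hm, t, hxt, htD, htaff⟩ := exists_locus_le h x.2
    obtain ⟨b, hb⟩ := hcoef t
    have key : X.basicOpen b = genOpen (isInvertible_tensorPow hL m) t := by
      refine Opens.ext (Set.ext fun y => ?_)
      by_cases hy : y ∈ D
      · obtain ⟨U, hyU, ℓ, hℓ⟩ := exists_isBasis hL y
        have hℓ' := isBasis_res hℓ (inf_le_right : D ⊓ U ≤ U)
        obtain ⟨c, hc⟩ := exists_coef (isBasis_pw hℓ' m) (gres (CohB1.tensorPow L m) t (D ⊓ U))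
        obtain ⟨d, hd⟩ := exists_coef (isBasis_pw hℓ' N) (gres (CohB1.tensorPow L N) σ (D ⊓ U))
        have ht := genOpen_inf_eq_basicOpen (isInvertible_tensorPow hL m) (isBasis_pw hℓ' m) hc
        have hs := genOpen_inf_eq_basicOpen hN' (isBasis_pw hℓ' N) hd
        have e := congrArg X.basicOpen (hb _ inf_le_left _ hℓ' c d hc hd)
        rw [X.basicOpen_pow c hN, Scheme.basicOpen_mul, Scheme.basicOpen_res, X.basicOpen_pow d hm, ← hs, ← ht,
          hσ] at e
        exact ⟨fun hh => (e.ge ⟨⟨⟨hy, hyU⟩, hh⟩, hy, hy, hyU⟩).1, fun hh => (e.le ⟨hh, hy, hyU⟩).1.2⟩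
      · exact ⟨fun hh => absurd (X.basicOpen_le b hh) hy, fun hh => absurd (htD hh) hy⟩
    refine ⟨D.topIso.inv b, ?_, ?_⟩
    · rw [← D.ι.isAffineOpen_iff_of_isOpenImmersion, D.ι_image_basicOpen_topIso_inv, key]
      exact htaff
    · have := D.ι_image_basicOpen_topIso_inv b
      obtain ⟨x', hx', he⟩ := (this.trans key).ge hxt
      exact (Subtype.ext he : x' = x) ▸ hx'
  have := hqa
  -- the graph
  let g : Spec Γ((D : Scheme.{u}), ⊤) ⟶ B := Spec.map (D.ι ≫ f).appTop ≫ B.isoSpec.inv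
  let j := (D : Scheme.{u}).toSpecΓ
  have hjg : D.ι ≫ f = j ≫ g := by
    rw [← Category.assoc, ← Scheme.toSpecΓ_naturality, Category.assoc, Scheme.toSpecΓ_isoSpec_inv, Category.comp_id]
  let G : (D : Scheme.{u}) ⟶ pullback f g := pullback.lift D.ι j hjg
  let p := pullback.fst f g
  let q := pullback.snd f g
  have hGp : G ≫ p = D.ι := pullback.lift_fst _ _ _
  have hGq : G ≫ q = j := pullback.lift_snd _ _ _
  -- closure of the graph stays over `D`
  have hclos : closure (Set.range G) ⊆ (p ⁻¹ᵁ D : Set _) := by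
    intro z hz
    by_contra hzD
    obtain ⟨m, hm, t, hzt, -, -⟩ := exists_locus_le h (U := ⊤) (show p z ∈ (⊤ : X.Opens) from trivial)
    obtain ⟨b, hb⟩ := hcoef t
    obtain ⟨U, hzU, ℓ, hℓ⟩ := exists_isBasis hL (p z)
    obtain ⟨c, hc⟩ := exists_coef (isBasis_pw hℓ m) (gres (CohB1.tensorPow L m) t U)
    obtain ⟨d, hd⟩ := exists_coef (isBasis_pw hℓ N) (gres (CohB1.tensorPow L N) σ U)
    have ht := genOpen_inf_eq_basicOpen (isInvertible_tensorPow hL m) (isBasis_pw hℓ m) hc
    have hs := genOpen_inf_eq_basicOpen hN' (isBasis_pw hℓ N) hd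
    let b' : Γ(Spec Γ((D : Scheme.{u}), ⊤), ⊤) := (Scheme.ΓSpecIso _).inv (D.topIso.inv b)
    let Φ : Γ(pullback f g, p ⁻¹ᵁ U) :=
      (p.app U c : Γ(pullback f g, p ⁻¹ᵁ U)) ^ N -
        resR (le_top : p ⁻¹ᵁ U ≤ ⊤) (q.appTop b') * (p.app U d : Γ(pullback f g, p ⁻¹ᵁ U)) ^ m
    have hzΦ : z ∈ (pullback f g).basicOpen Φ := by
      rw [(pullback f g).mem_basicOpen Φ z hzU]
      have hcu : IsUnit ((pullback f g).presheaf.germ (p ⁻¹ᵁ U) z hzU (p.app U c)) := by
        rw [← (pullback f g).mem_basicOpen _ z hzU, ← Scheme.preimage_basicOpen]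
        exact ht.le ⟨hzt, hzU⟩
      have hdn : ¬ IsUnit ((pullback f g).presheaf.germ (p ⁻¹ᵁ U) z hzU (p.app U d)) := by
        rw [← (pullback f g).mem_basicOpen _ z hzU, ← Scheme.preimage_basicOpen]
        exact fun hh => hzD (hσ.le (hs.ge hh).1)
      rw [map_sub, map_pow, map_mul, map_pow]
      by_contra hnu
      have h1 := (IsLocalRing.mem_maximalIdeal _).mpr (show _ ∈ nonunits _ from hnu)
      have h2 : ∀ a : (pullback f g).presheaf.stalk z, a * ((pullback f g).presheaf.germ (p ⁻¹ᵁ U) z hzU (p.app U d)) ^ m ∈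
          IsLocalRing.maximalIdeal ((pullback f g).presheaf.stalk z) := fun a =>
        Ideal.mul_mem_left _ _ (Ideal.pow_mem_of_mem _ ((IsLocalRing.mem_maximalIdeal _).mpr hdn) m hm)
      have h3 := Ideal.add_mem _ h1 (h2 ((pullback f g).presheaf.germ (p ⁻¹ᵁ U) z hzU
        (resR (le_top : p ⁻¹ᵁ U ≤ ⊤) (q.appTop b'))))
      rw [sub_add_cancel] at h3
      exact (IsLocalRing.mem_maximalIdeal _).mp h3 (hcu.pow N)
    obtain ⟨_, hzΦ', y, rfl⟩ := mem_closure_iff.mp hz _ ((pullback f g).basicOpen Φ).2 hzΦ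
    have hyU : (D.ι y : X) ∈ U := by
      rw [← hGp, Scheme.Hom.comp_apply]
      exact (pullback f g).basicOpen_le Φ hzΦ'
    let E := D ⊓ U
    have hE : D.ι ''ᵁ (D.ι ⁻¹ᵁ U) ≤ E := fun x hx => ⟨D.ι_image_le _ hx, D.ι.image_preimage_le U hx⟩
    have hkey : G.app (p ⁻¹ᵁ U) Φ = 0 := by
      have hc' : ∀ a : Γ(X, U), G.app (p ⁻¹ᵁ U) (p.app U a) =
          (show Γ((D : Scheme.{u}), G ⁻¹ᵁ (p ⁻¹ᵁ U)) from resR (X := X) (show D.ι ''ᵁ (G ⁻¹ᵁ (p ⁻¹ᵁ U)) ≤ U from by
            rw [← Scheme.Hom.comp_preimage, hGp]; exact hE.trans inf_le_right) a) := by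
        intro a
        have e := Scheme.Hom.congr_app hGp U
        rw [Scheme.Hom.comp_app] at e
        have e' := ConcreteCategory.congr_hom e a
        refine e'.trans ?_
        rw [Scheme.Opens.ι_app, Scheme.Opens.toScheme_presheaf_map]
        refine (ConcreteCategory.congr_hom (X.presheaf.map_comp _ _).symm a).trans ?_
        rfl
      have hb'' : G.app (p ⁻¹ᵁ U) (resR (le_top : p ⁻¹ᵁ U ≤ ⊤) (q.appTop b')) =
          (show Γ((D : Scheme.{u}), G ⁻¹ᵁ (p ⁻¹ᵁ U)) from resR (X := X) (show D.ι ''ᵁ (G ⁻¹ᵁ (p ⁻¹ᵁ U)) ≤ D from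
            D.ι_image_le _) b) := by
        have e1 : G.appTop (q.appTop b') = D.topIso.inv b := by
          show ((q.appTop ≫ G.appTop) b') = _
          rw [← Scheme.Hom.comp_appTop, hGq]
          have e2 := ConcreteCategory.congr_hom (Scheme.toSpecΓ_appTop (D : Scheme.{u})) b'
          refine e2.trans ?_
          exact Iso.inv_hom_id_apply _ _
        refine (ConcreteCategory.congr_hom (G.naturality (homOfLE (le_top : p ⁻¹ᵁ U ≤ ⊤)).op) (q.appTop b')).trans ?_
        show ((D : Scheme.{u}).presheaf.map _) (G.appTop (q.appTop b')) = _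
        rw [e1]
        rw [Scheme.Opens.toScheme_presheaf_map, Scheme.Opens.topIso_inv]
        refine (ConcreteCategory.congr_hom (X.presheaf.map_comp _ _).symm b).trans ?_
        rfl
      show G.app (p ⁻¹ᵁ U) (_ - _ * _) = 0
      rw [map_sub, map_mul, map_pow, map_pow, hc', hc', hb'']
      have hW : D.ι ''ᵁ (G ⁻¹ᵁ (p ⁻¹ᵁ U)) ≤ U := by
        rw [← Scheme.Hom.comp_preimage, hGp]; exact hE.trans inf_le_right
      have e := hb _ (D.ι_image_le _) (res L hW ℓ) (isBasis_res hℓ hW) (resR hW c) (resR hW d)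
        (by rw [← res_pw, ← res_smul, ← hc, res_gres])
        (by rw [← res_pw, ← res_smul, ← hd, res_gres])
      rw [sub_eq_zero]
      exact e
    have : y ∈ (D : Scheme.{u}).basicOpen (G.app (p ⁻¹ᵁ U) Φ) := by
      rw [← Scheme.preimage_basicOpen]
      exact hzΦ'
    rw [hkey, Scheme.basicOpen_zero] at this
    exact this
  -- the graph is closed
  have hclosed : IsClosed (Set.range G) := by
    let μ : pullback (D.ι ≫ f) g ⟶ pullback f g :=
      pullback.map (D.ι ≫ f) g f g D.ι (𝟙 _) (𝟙 _) (by simp) (by simp)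
    let G' : (D : Scheme.{u}) ⟶ pullback (D.ι ≫ f) g := pullback.lift (𝟙 _) j (by rw [Category.id_comp]; exact hjg)
    have hG : G' ≫ μ = G := by
      refine pullback.hom_ext ?_ ?_
      · rw [Category.assoc, show μ ≫ pullback.fst f g = pullback.fst (D.ι ≫ f) g ≫ D.ι from pullback.lift_fst _ _ _,
          ← Category.assoc, show G' ≫ pullback.fst (D.ι ≫ f) g = 𝟙 _ from pullback.lift_fst _ _ _, Category.id_comp]
        exact hGp.symm
      · rw [Category.assoc, show μ ≫ pullback.snd f g = pullback.snd (D.ι ≫ f) g ≫ 𝟙 _ from pullback.lift_snd _ _ _,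
          Category.comp_id, show G' ≫ pullback.snd (D.ι ≫ f) g = j from pullback.lift_snd _ _ _]
        exact hGq.symm
    have : IsClosedImmersion (G' ≫ pullback.fst (D.ι ≫ f) g) := by
      rw [pullback.lift_fst]
      infer_instance
    have hG' : IsClosedImmersion G' := IsClosedImmersion.of_comp G' (pullback.fst (D.ι ≫ f) g)
    have hrange : Set.range μ = (p ⁻¹ᵁ D : Set _) := by
      refine (Scheme.Pullback.range_map (f := D.ι ≫ f) (g := g) f g D.ι (𝟙 _) (𝟙 _) _ _).trans ?_
      rw [D.range_ι, show Set.range (𝟙 (Spec Γ((D : Scheme.{u}), ⊤)) : _ ⟶ _) = Set.univ from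
        Set.eq_univ_of_forall fun a => ⟨a, rfl⟩, Set.preimage_univ, Set.inter_univ]
      rfl
    refine isClosed_of_closure_subset fun z hz => ?_
    obtain ⟨z', rfl⟩ := hrange.ge (hclos hz)
    have hz' : z' ∈ closure (Set.range G') := by
      rw [μ.isOpenEmbedding.isInducing.closure_eq_preimage_closure_image]
      show μ z' ∈ closure _
      rwa [← Set.range_comp, show ⇑μ ∘ ⇑G' = ⇑G from funext fun a => by
        rw [← hG]; rfl]
    rw [G'.isClosedEmbedding.isClosed_range.closure_eq] at hz'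
    obtain ⟨a, ha⟩ := hz'
    exact ⟨a, by rw [← hG, Scheme.Hom.comp_apply, ha]⟩
  have hjclosed : IsClosed (Set.range j) := by
    have : UniversallyClosed q := MorphismProperty.pullback_snd f g inferInstance
    have h2 := q.isClosedMap _ hclosed
    rwa [← Set.range_comp, show ⇑q ∘ ⇑G = ⇑j from funext fun a => by rw [← hGq]; rfl] at h2
  have hsurj : Surjective j := ⟨fun a => by
    have := (Scheme.Hom.denseRange j) a
    rwa [hjclosed.closure_eq] at this⟩
  have : IsIso j := by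
    rw [isIso_iff_isOpenImmersion_and_surjective]
    exact ⟨inferInstance, hsurj⟩
  exact IsAffine.of_isIso j

end Groth.Agent.InvPow
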