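import Groth.Agent.InvPow.Avoidance
import Groth.Agent.InvPow.GloballyGenerated
import Groth.Agent.QCohLib.Criterion
import Mathlib.AlgebraicGeometry.QuasiAffine

/-!
# Modules on quasi-affine schemes
-/

set_option autoImplicit false
set_option synthInstance.maxHeartbeats 400000
set_option maxHeartbeats 800000
universe u
open CategoryTheory AlgebraicGeometry Opposite TopologicalSpace

namespace Groth.Agent.InvPow

open InvBasic ProjUniv

variable {X : Scheme.{u}} {L : X.Modules}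

/-- Every quasi-coherent module on a quasi-affine scheme is spanned by global sections. -/
theorem locSpan_of_quasiAffine [X.IsQuasiAffine] (F : X.Modules) [F.IsQuasicoherent] :
    ProjTwist.LocSpan F (fun g : Γ(F, ⊤) => g) := fun U t x hx => by
  obtain ⟨_, ⟨_, ⟨r, -, rfl⟩, rfl⟩, hxr, hrU⟩ := (Scheme.IsQuasiAffine.isBasis_basicOpen
    X).exists_subset_of_mem_open (show x ∈ (U : Set X) from hx) U.2
  refine ⟨X.basicOpen r, hrU, hxr, ?_⟩
  obtain ⟨n, z, hz⟩ := QCohLib.exists_res_eq_pow_smul_of_isCompact (M := F) (U := (⊤ : X.Opens)) isCompact_univ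
    isQuasiSeparated_univ r (X.basicOpen r) le_top rfl (res F hrU t)
  have hu : IsUnit (resR (le_top : X.basicOpen r ≤ ⊤) r ^ n) := (X.toRingedSpace.isUnit_res_basicOpen r).pow n
  refine (Submodule.smul_mem_iff_of_isUnit _ hu).mp ?_
  exact hz ▸ Submodule.subset_span ⟨z, rfl⟩

theorem exists_gen_of_quasiAffine [X.IsQuasiAffine] (hL : PicF.IsInvertible L) (x : X) :
    ∃ s : Γ(L, ⊤), x ∈ genOpen hL s :=
  have := isQuasicoherent_of_isInvertible hL
  exists_gen hL (ProjTwist.generatedBy_of_locSpan _ _ (locSpan_of_quasiAffine L)) x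

theorem genOpen_smul (hL : PicF.IsInvertible L) (r : Γ(X, ⊤)) (g : Γ(L, ⊤)) :
    genOpen hL (r • g) = X.basicOpen r ⊓ genOpen hL g := by
  refine Opens.ext (Set.ext fun x => ?_)
  obtain ⟨V, hxV, β, hβ⟩ := exists_isBasis hL x
  obtain ⟨c, hc⟩ := exists_coef hβ (gres L g V)
  have h1 := genOpen_inf_eq_basicOpen hL hβ hc
  have h2 := genOpen_inf_eq_basicOpen hL hβ (s := r • g) (c := resR le_top r * c) (by
    show res L _ (r • g) = _
    rw [res_smul, ← smul_smul, ← hc])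
  rw [Scheme.basicOpen_mul, Scheme.basicOpen_res] at h2
  exact ⟨fun h => ⟨(h2.le ⟨h, hxV⟩).1.2, (h1.ge (h2.le ⟨h, hxV⟩).2).1⟩,
    fun h => (h2.ge ⟨⟨hxV, h.1⟩, h1.le ⟨h.2, hxV⟩⟩).1⟩

theorem affineLoci_basis_of_quasiAffine [X.IsQuasiAffine] (hL : PicF.IsInvertible L) (x : X) (V : X.Opens)
    (hxV : x ∈ V) : ∃ s : Γ(L, ⊤), x ∈ genOpen hL s ∧ genOpen hL s ≤ V ∧ IsAffineOpen (genOpen hL s) := by
  obtain ⟨g, hg⟩ := exists_gen_of_quasiAffine hL x
  obtain ⟨_, ⟨_, ⟨r, hr, rfl⟩, rfl⟩, hxr, hrV⟩ := (Scheme.IsQuasiAffine.isBasis_basicOpen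
    X).exists_subset_of_mem_open (show x ∈ ((V ⊓ genOpen hL g : X.Opens) : Set X) from ⟨hxV, hg⟩) (V ⊓ _).2
  have e : genOpen hL (r • g) = X.basicOpen r := by
    rw [genOpen_smul]
    exact inf_eq_left.mpr fun y hy => (hrV hy).2
  exact ⟨r • g, e.ge hxr, e.le.trans fun y hy => (hrV hy).1, e ▸ hr⟩

theorem isAmple_of_quasiAffine [X.IsQuasiAffine] (hL : PicF.IsInvertible L) : CohB1.IsAmple L :=
  isAmple_of_affLoci hL fun x => by
    obtain ⟨s, hs, -, haff⟩ := affineLoci_basis_of_quasiAffine hL x ⊤ trivial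
    obtain ⟨σ, hσ⟩ := exists_gen_pow_one hL s
    exact ⟨1, Nat.one_pos, σ, hσ.ge hs, hσ ▸ haff⟩

/-- Finitely many points lie in one affine locus of a section, if the affine loci form a basis. -/
theorem exists_locus_finite_of_basis {M : X.Modules} (hM : PicF.IsInvertible M) (hbas : ∀ (x : X) (V : X.Opens), x ∈ V →
    ∃ s : Γ(M, ⊤), x ∈ genOpen hM s ∧ genOpen hM s ≤ V ∧ IsAffineOpen (genOpen hM s)) (Z : Set X) (hZ : Z.Finite) (U : X.Opens) (hZU : Z ⊆ (U : Set X)) :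
    ∃ s : Γ(M, ⊤), Z ⊆ (genOpen hM s : Set X) ∧ genOpen hM s ≤ U ∧ IsAffineOpen (genOpen hM s) := by
  classical
  let Z₀ := {z ∈ Z | ∀ z' ∈ Z, z ⤳ z' → z' ⤳ z}
  have hZ₀ : Z₀.Finite := hZ.subset fun z hz => hz.1
  have := hZ₀.fintype
  have hbig : ∀ z ∈ Z, ∃ z₀ ∈ Z₀, z ⤳ z₀ := by
    intro z hz
    let S := {z' ∈ Z | z ⤳ z'}
    letI : Preorder X := specializationPreorder X
    obtain ⟨z₀, h₀⟩ := (hZ.subset (fun z' (h' : z' ∈ S) => h'.1)).exists_minimal ⟨z, hz, specializes_rfl⟩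
    exact ⟨z₀, ⟨h₀.1.1, fun z' hz' hs => h₀.2 ⟨hz', h₀.1.2.trans hs⟩ hs⟩, h₀.1.2⟩
  have hsel : ∀ z : Z₀, ∃ s : Γ(M, ⊤),
      z.1 ∈ genOpen hM s ∧ genOpen hM s ≤ U ∧
      IsAffineOpen (genOpen hM s) ∧
      ∀ z' : Z₀, z' ≠ z → z'.1 ∉ genOpen hM s := by
    intro z
    let C : Set X := ⋃ z' ∈ {w : Z₀ | w ≠ z}, closure {(z' : X)}
    have hC : IsClosed C := Set.Finite.isClosed_biUnion (Set.toFinite _) fun _ _ => isClosed_closure
    have hzC : z.1 ∉ C := by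
      intro hc
      obtain ⟨z', hne, hc⟩ := Set.mem_iUnion₂.mp hc
      have hs : (z' : X) ⤳ z.1 := specializes_iff_mem_closure.mpr hc
      exact hne (Subtype.ext (hs.antisymm (z'.2.2 _ z.2.1 hs)).eq)
    obtain ⟨s, hs, hle, haff⟩ := hbas z.1 (U ⊓ ⟨Cᶜ, hC.isOpen_compl⟩) ⟨hZU z.2.1, hzC⟩
    refine ⟨s, hs, fun x hx => (hle hx).1, haff, fun z' hne hz' => (hle hz').2 ?_⟩
    exact Set.mem_iUnion₂.mpr ⟨z', hne, subset_closure rfl⟩
  choose t hs hsU hsaff hsne using hsel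
  let σ : Γ(M, ⊤) := ∑ z, t z
  let D := genOpen hM σ
  have hcoef : ∀ {V : X.Opens} {β : Γ(M, V)} {c : Z₀ → Γ(X, V)},
      (∀ z, gres M (t z) V = c z • β) →
      gres M σ V = (∑ z, c z) • β := fun {V β c} hc => by
    show res _ _ (∑ z, t z) = _
    refine (map_sum (M.presheaf.map (homOfLE (le_top : V ≤ ⊤)).op).hom t Finset.univ).trans ?_
    rw [Finset.sum_smul]
    exact Finset.sum_congr rfl fun z _ => hc z
  have hZ₀D : ∀ z : Z₀, z.1 ∈ D := by
    intro z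
    obtain ⟨V, hzV, β, hβ⟩ := exists_isBasis hM z.1
    choose c hc using fun z' => exists_coef hβ (gres M (t z') V)
    have hb := fun z' => genOpen_inf_eq_basicOpen hM hβ (hc z')
    refine ((genOpen_inf_eq_basicOpen hM hβ (hcoef hc)).ge ?_).1
    rw [X.mem_basicOpen _ _ hzV, map_sum, ← IsLocalRing.residue_ne_zero_iff_isUnit, map_sum,
      Finset.sum_eq_single z]
    · rw [IsLocalRing.residue_ne_zero_iff_isUnit, ← X.mem_basicOpen _ _ hzV]
      exact (hb z).le ⟨(hs z), hzV⟩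
    · intro z' _ hne
      rw [← not_not (a := IsLocalRing.residue _ _ = 0)]
      rw [← ne_eq, IsLocalRing.residue_ne_zero_iff_isUnit, ← X.mem_basicOpen _ _ hzV]
      exact fun hh => hsne z' z hne.symm (((hb z').ge hh).1)
    · simp
  have hDle : D ≤ U := by
    intro x hx
    obtain ⟨V, hxV, β, hβ⟩ := exists_isBasis hM x
    choose c hc using fun z' => exists_coef hβ (gres M (t z') V)
    by_contra hxU
    have hx' := (genOpen_inf_eq_basicOpen hM hβ (hcoef hc)).le ⟨hx, hxV⟩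
    rw [X.mem_basicOpen _ _ hxV, map_sum] at hx'
    refine (IsLocalRing.mem_maximalIdeal _).mp (Ideal.sum_mem _ fun z _ => ?_) hx'
    rw [IsLocalRing.mem_maximalIdeal, mem_nonunits_iff, ← X.mem_basicOpen _ _ hxV]
    intro hh
    exact hxU (hsU z ((genOpen_inf_eq_basicOpen hM hβ (hc z)).ge hh).1)
  refine ⟨σ, fun z hz => ?_, hDle, ?_⟩
  · obtain ⟨z₀, hz₀, hs₀⟩ := hbig z hz
    exact hs₀.mem_open D.2 (hZ₀D ⟨z₀, hz₀⟩)
  · have hb := isBasis_genOpen hM σ
    choose a ha using fun z => exists_coef hb (gres M (t z) D)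
    have h1 : ∑ z, a z = (1 : Γ(X, D)) :=
      coef_unique hb ((hcoef ha).symm.trans (one_smul _ _).symm)
    refine isAffineOpen_of_isAffineOpen_basicOpen D (Set.range a) ?_ ?_
    · rw [Ideal.eq_top_iff_one, ← h1]
      exact Ideal.sum_mem _ fun z _ => Ideal.subset_span ⟨z, rfl⟩
    · rintro _ ⟨z, rfl⟩
      rw [← genOpen_inf_eq_basicOpen hM hb (ha z), inf_comm]
      exact isAffineOpen_genOpen_inf _ σ (hsaff z)

end Groth.Agent.InvPow
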