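import Groth.Agent.InvPow.Ample
import Mathlib.AlgebraicGeometry.ResidueField

/-!
# One affine locus around finitely many points
-/

set_option autoImplicit false
set_option synthInstance.maxHeartbeats 400000
set_option maxHeartbeats 800000
universe u
open CategoryTheory AlgebraicGeometry Opposite TopologicalSpace

namespace Groth.Agent.InvPow

open InvBasic ProjUniv

variable {X : Scheme.{u}} {L : X.Modules}

theorem exists_common_power_fintype (hL : PicF.IsInvertible L) {ι : Type u} [Fintype ι] (n : ι → ℕ) (hn : ∀ i, 0 < n i)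
    (s : ∀ i, Γ(CohB1.tensorPow L (n i), ⊤)) :
    ∃ (N : ℕ) (t : ι → Γ(CohB1.tensorPow L N, ⊤)), 0 < N ∧
      ∀ i, genOpen (isInvertible_tensorPow hL N) (t i) = genOpen (isInvertible_tensorPow hL (n i)) (s i) := by
  classical
  have e : ∀ i N (k : ℕ), 0 < k → n i * k = N → ∃ t : Γ(CohB1.tensorPow L N, ⊤),
      genOpen (isInvertible_tensorPow hL N) t = genOpen (isInvertible_tensorPow hL (n i)) (s i) := by
    rintro i _ k hk rfl
    exact ⟨spow hL (s i) k, genOpen_spow hL (s i) hk⟩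
  choose t ht using fun i => e i (∏ j, n j) (∏ j ∈ Finset.univ.erase i, n j) (Finset.prod_pos fun j _ => hn j)
    (Finset.mul_prod_erase Finset.univ n (Finset.mem_univ i))
  exact ⟨_, t, Finset.prod_pos fun j _ => hn j, ht⟩

/-- Finitely many points of an open lie in one affine non-vanishing locus inside it. -/
theorem exists_locus_finite (h : CohB1.IsAmple L) (Z : Set X) (hZ : Z.Finite) (U : X.Opens) (hZU : Z ⊆ (U : Set X)) :
    ∃ n, 0 < n ∧ ∃ s : Γ(CohB1.tensorPow L n, ⊤), Z ⊆ (genOpen (isInvertible_tensorPow h.1 n) s : Set X) ∧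
      genOpen (isInvertible_tensorPow h.1 n) s ≤ U ∧ IsAffineOpen (genOpen (isInvertible_tensorPow h.1 n) s) := by
  classical
  let Z₀ := {z ∈ Z | ∀ z' ∈ Z, z ⤳ z' → z' ⤳ z}
  have hZ₀ : Z₀.Finite := hZ.subset fun z hz => hz.1
  have := hZ₀.fintype
  have hbig : ∀ z ∈ Z, ∃ z₀ ∈ Z₀, z ⤳ z₀ := by
    intro z hz
    let S := {z' ∈ Z | z ⤳ z'}
    letI : Preorder X := specializationPreorder X
    obtain ⟨z₀, h₀⟩ := (hZ.subset (fun z' (h' : z' ∈ S) => h'.1)).exists_minimal ⟨z, hz, specializes_rfl⟩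
    exact ⟨z₀, ⟨h₀.1.1, fun z' hz' hs => h₀.2 ⟨hz', h₀.1.2.trans hs⟩ hs⟩, h₀.1.2⟩
  have hsel : ∀ z : Z₀, ∃ n, 0 < n ∧ ∃ s : Γ(CohB1.tensorPow L n, ⊤),
      z.1 ∈ genOpen (isInvertible_tensorPow h.1 n) s ∧ genOpen (isInvertible_tensorPow h.1 n) s ≤ U ∧
      IsAffineOpen (genOpen (isInvertible_tensorPow h.1 n) s) ∧
      ∀ z' : Z₀, z' ≠ z → z'.1 ∉ genOpen (isInvertible_tensorPow h.1 n) s := by
    intro z
    let C : Set X := ⋃ z' ∈ {w : Z₀ | w ≠ z}, closure {(z' : X)}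
    have hC : IsClosed C := Set.Finite.isClosed_biUnion (Set.toFinite _) fun _ _ => isClosed_closure
    have hzC : z.1 ∉ C := by
      intro hc
      obtain ⟨z', hne, hc⟩ := Set.mem_iUnion₂.mp hc
      have hs : (z' : X) ⤳ z.1 := specializes_iff_mem_closure.mpr hc
      exact hne (Subtype.ext (hs.antisymm (z'.2.2 _ z.2.1 hs)).eq)
    obtain ⟨n, hn, s, hs, hle, haff⟩ := exists_locus_le h (U := U ⊓ ⟨Cᶜ, hC.isOpen_compl⟩) ⟨hZU z.2.1, hzC⟩
    refine ⟨n, hn, s, hs, fun x hx => (hle hx).1, haff, fun z' hne hz' => (hle hz').2 ?_⟩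
    exact Set.mem_iUnion₂.mpr ⟨z', hne, subset_closure rfl⟩
  choose n hn s hs hsU hsaff hsne using hsel
  obtain ⟨N, t, hN, ht⟩ := exists_common_power_fintype h.1 n hn s
  let σ : Γ(CohB1.tensorPow L N, ⊤) := ∑ z, t z
  let D := genOpen (isInvertible_tensorPow h.1 N) σ
  have hcoef : ∀ {V : X.Opens} {β : Γ(CohB1.tensorPow L N, V)} {c : Z₀ → Γ(X, V)},
      (∀ z, gres (CohB1.tensorPow L N) (t z) V = c z • β) →
      gres (CohB1.tensorPow L N) σ V = (∑ z, c z) • β := fun {V β c} hc => by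
    show res _ _ (∑ z, t z) = _
    refine (map_sum ((CohB1.tensorPow L N).presheaf.map (homOfLE (le_top : V ≤ ⊤)).op).hom t Finset.univ).trans ?_
    rw [Finset.sum_smul]
    exact Finset.sum_congr rfl fun z _ => hc z
  have hZ₀D : ∀ z : Z₀, z.1 ∈ D := by
    intro z
    obtain ⟨V, hzV, β, hβ⟩ := exists_isBasis (isInvertible_tensorPow h.1 N) z.1
    choose c hc using fun z' => exists_coef hβ (gres (CohB1.tensorPow L N) (t z') V)
    have hb := fun z' => genOpen_inf_eq_basicOpen (isInvertible_tensorPow h.1 N) hβ (hc z')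
    refine ((genOpen_inf_eq_basicOpen (isInvertible_tensorPow h.1 N) hβ (hcoef hc)).ge ?_).1
    rw [X.mem_basicOpen _ _ hzV, map_sum, ← IsLocalRing.residue_ne_zero_iff_isUnit, map_sum,
      Finset.sum_eq_single z]
    · rw [IsLocalRing.residue_ne_zero_iff_isUnit, ← X.mem_basicOpen _ _ hzV]
      exact (hb z).le ⟨(ht z).ge (hs z), hzV⟩
    · intro z' _ hne
      rw [← not_not (a := IsLocalRing.residue _ _ = 0)]
      rw [← ne_eq, IsLocalRing.residue_ne_zero_iff_isUnit, ← X.mem_basicOpen _ _ hzV]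
      exact fun hh => hsne z' z hne.symm ((ht z').le ((hb z').ge hh).1)
    · simp
  have hDle : D ≤ U := by
    intro x hx
    obtain ⟨V, hxV, β, hβ⟩ := exists_isBasis (isInvertible_tensorPow h.1 N) x
    choose c hc using fun z' => exists_coef hβ (gres (CohB1.tensorPow L N) (t z') V)
    by_contra hxU
    have hx' := (genOpen_inf_eq_basicOpen (isInvertible_tensorPow h.1 N) hβ (hcoef hc)).le ⟨hx, hxV⟩
    rw [X.mem_basicOpen _ _ hxV, map_sum] at hx'
    refine (IsLocalRing.mem_maximalIdeal _).mp (Ideal.sum_mem _ fun z _ => ?_) hx'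
    rw [IsLocalRing.mem_maximalIdeal, mem_nonunits_iff, ← X.mem_basicOpen _ _ hxV]
    intro hh
    exact hxU (hsU z ((ht z).le ((genOpen_inf_eq_basicOpen (isInvertible_tensorPow h.1 N) hβ (hc z)).ge hh).1))
  refine ⟨N, hN, σ, fun z hz => ?_, hDle, ?_⟩
  · obtain ⟨z₀, hz₀, hs₀⟩ := hbig z hz
    exact hs₀.mem_open D.2 (hZ₀D ⟨z₀, hz₀⟩)
  · have hb := isBasis_genOpen (isInvertible_tensorPow h.1 N) σ
    choose a ha using fun z => exists_coef hb (gres (CohB1.tensorPow L N) (t z) D)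
    have h1 : ∑ z, a z = (1 : Γ(X, D)) :=
      coef_unique hb ((hcoef ha).symm.trans (one_smul _ _).symm)
    refine isAffineOpen_of_isAffineOpen_basicOpen D (Set.range a) ?_ ?_
    · rw [Ideal.eq_top_iff_one, ← h1]
      exact Ideal.sum_mem _ fun z _ => Ideal.subset_span ⟨z, rfl⟩
    · rintro _ ⟨z, rfl⟩
      rw [← genOpen_inf_eq_basicOpen (isInvertible_tensorPow h.1 N) hb (ha z), ht z, inf_comm]
      exact isAffineOpen_genOpen_inf _ σ (hsaff z)

end Groth.Agent.InvPow
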