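import Groth.Agent.ProjCoh.TensorSections
import Groth.Agent.InvBasic.OfBasis
import Groth.Agent.ProjUniv.Chart

/-!
# Sections of tensor powers of an invertible module through coefficients
-/

set_option autoImplicit false
set_option synthInstance.maxHeartbeats 400000
universe u
open CategoryTheory AlgebraicGeometry Opposite TopologicalSpace

namespace Groth.Agent.InvPow

open InvBasic ProjUniv

variable {X : Scheme.{u}} {L : X.Modules}

variable (L) in
/-- The `n`-th power of a section. -/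
noncomputable def pw {U : X.Opens} (ℓ : Γ(L, U)) : ∀ n : ℕ, Γ(CohB1.tensorPow L n, U)
  | 0 => (1 : Γ(X, U))
  | n + 1 => SecTwist.tmul (CohB1.tensorPow L n) L U (pw ℓ n) ℓ

theorem res_pw {U V : X.Opens} (h : V ≤ U) (ℓ : Γ(L, U)) :
    ∀ n, res (CohB1.tensorPow L n) h (pw L ℓ n) = pw L (res L h ℓ) n
  | 0 => map_one (X.presheaf.map (homOfLE h).op).hom
  | n + 1 => by
    refine (SecTwist.map_tmul (CohB1.tensorPow L n) L (homOfLE h) (pw L ℓ n) ℓ).trans ?_
    exact congrArg (fun m => SecTwist.tmul (CohB1.tensorPow L n) L V m (res L h ℓ)) (res_pw h ℓ n)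

theorem pw_smul {U : X.Opens} (c : Γ(X, U)) (ℓ : Γ(L, U)) :
    ∀ n, pw L (c • ℓ) n = c ^ n • pw L ℓ n
  | 0 => (one_smul Γ(X, U) _).symm.trans (congrArg (· • pw L ℓ 0) (pow_zero c).symm)
  | n + 1 => by
    show SecTwist.tmul (CohB1.tensorPow L n) L U (pw L (c • ℓ) n) (c • ℓ) = _
    rw [ProjCoh.tmul_smul_right, pw_smul c ℓ n, smul_smul, ProjCoh.tmul_smul_left, ← pow_succ']
    rfl

theorem isBasis_pw {U : X.Opens} {ℓ : Γ(L, U)} (hℓ : IsBasis L ℓ) :
    ∀ n, IsBasis (CohB1.tensorPow L n) (pw L ℓ n)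
  | 0 => fun W hW => by
    show Function.Bijective fun r : Γ(X, W) => r * X.presheaf.map (homOfLE hW).op (1 : Γ(X, U))
    simp only [map_one, mul_one]
    exact Function.bijective_id
  | n + 1 => fun W hW => by
    have h1 := isBasis_pw hℓ n W hW
    have h2 := ProjCoh.tmul_gen_bijective (CohB1.tensorPow L n) (L := L) (g := ℓ) hℓ hW
    have e : (fun r : Γ(X, W) => r • ((CohB1.tensorPow L (n + 1)).presheaf.map (homOfLE hW).op
        (pw L ℓ (n + 1)) : Γ(CohB1.tensorPow L (n + 1), W))) =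
        (fun m : Γ(CohB1.tensorPow L n, W) => SecTwist.tmul (CohB1.tensorPow L n) L W m
          (L.presheaf.map (homOfLE hW).op ℓ)) ∘ fun r : Γ(X, W) => r • res (CohB1.tensorPow L n) hW (pw L ℓ n) := by
      funext r
      show r • res (CohB1.tensorPow L (n + 1)) hW (pw L ℓ (n + 1)) = _
      rw [res_pw hW ℓ (n + 1)]
      simp only [Function.comp_apply]
      rw [res_pw hW ℓ n]
      exact (ProjCoh.tmul_smul_left (CohB1.tensorPow L n) L W r (pw L (res L hW ℓ) n) (res L hW ℓ)).symm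
    rw [e]
    exact h2.comp h1

theorem isInvertible_tensorPow (hL : PicF.IsInvertible L) (n : ℕ) : PicF.IsInvertible (CohB1.tensorPow L n) :=
  isInvertible_of_isBasis fun x => by
    obtain ⟨U, hx, ℓ, hℓ⟩ := exists_isBasis hL x
    exact ⟨U, hx, _, isBasis_pw hℓ n⟩

/-- Multiplication by a basis on its own open. -/
theorem bijective_smul_self {M : X.Modules} {U : X.Opens} {β : Γ(M, U)} (hβ : IsBasis M β) :
    Function.Bijective fun c : Γ(X, U) => c • β := by
  have h := hβ U le_rfl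
  simp only [QCohLib.map_self] at h
  exact h

theorem exists_coef {M : X.Modules} {U : X.Opens} {β : Γ(M, U)} (hβ : IsBasis M β) (q : Γ(M, U)) :
    ∃ c : Γ(X, U), q = c • β :=
  ⟨_, ((bijective_smul_self hβ).2 q).choose_spec.symm⟩

theorem coef_unique {M : X.Modules} {U : X.Opens} {β : Γ(M, U)} (hβ : IsBasis M β) {c c' : Γ(X, U)}
    (h : c • β = c' • β) : c = c' :=
  (bijective_smul_self hβ).1 h

theorem isBasis_res {M : X.Modules} {U V : X.Opens} {β : Γ(M, U)} (hβ : IsBasis M β) (h : V ≤ U) :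
    IsBasis M (res M h β) := hβ.restrict h

/-- Change of basis on one open, in all powers at once. -/
theorem exists_change {U : X.Opens} {ℓ ℓ' : Γ(L, U)} (hℓ : IsBasis L ℓ) :
    ∃ u : Γ(X, U), ∀ n (c c' : Γ(X, U)),
      c • pw L ℓ n = c' • pw L ℓ' n ↔ c = c' * u ^ n := by
  obtain ⟨u, rfl⟩ := exists_coef hℓ ℓ'
  refine ⟨u, fun n c c' => ?_⟩
  rw [pw_smul, smul_smul]
  exact ⟨fun h => coef_unique (isBasis_pw hℓ n) h, fun h => by rw [h]⟩

theorem resR_mul {W W' : X.Opens} (h : W' ≤ W) (c d : Γ(X, W)) : resR h (c * d) = resR h c * resR h d :=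
  map_mul (X.presheaf.map (homOfLE h).op).hom c d

theorem resR_pow {W W' : X.Opens} (h : W' ≤ W) (c : Γ(X, W)) (k : ℕ) : resR h (c ^ k) = resR h c ^ k :=
  map_pow (X.presheaf.map (homOfLE h).op).hom c k

/-- Glue sections of a module over a cover. -/
theorem exists_glue_sections (M : X.Modules) {ι : Type u} (V : ι → X.Opens) (hV : ∀ x, ∃ i, x ∈ V i)
    (q : ∀ i, Γ(M, V i))
    (h : ∀ i j, res M (inf_le_left : V i ⊓ V j ≤ V i) (q i) = res M (inf_le_right : V i ⊓ V j ≤ V j) (q j)) :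
    ∃ g : Γ(M, ⊤), ∀ i, gres M g (V i) = q i := by
  obtain ⟨g, hg, -⟩ := TopCat.Sheaf.existsUnique_gluing' ⟨M.presheaf, M.isSheaf⟩ V ⊤
    (fun i => homOfLE le_top) (fun x _ => Opens.mem_iSup.mpr (hV x)) q h
  exact ⟨g, fun i => hg i⟩

theorem sections_ext (M : X.Modules) {ι : Type u} {W : X.Opens} (V : ι → X.Opens) (hV : ∀ x, ∃ i, x ∈ V i)
    {a b : Γ(M, W)}
    (h : ∀ i, res M (inf_le_left : W ⊓ V i ≤ W) a = res M (inf_le_left : W ⊓ V i ≤ W) b) : a = b :=
  TopCat.Sheaf.eq_of_locally_eq' ⟨M.presheaf, M.isSheaf⟩ (fun i => W ⊓ V i) W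
    (fun i => homOfLE inf_le_left) (fun x hx => by
      obtain ⟨i, hi⟩ := hV x
      exact Opens.mem_iSup.mpr ⟨i, hx, hi⟩) a b h

/-- A global section whose coefficient is prescribed on a trivialising cover. -/
theorem exists_glue_coef {ι : Type u} (V : ι → X.Opens) (hV : ∀ x, ∃ i, x ∈ V i) (ℓ : ∀ i, Γ(L, V i)) (n : ℕ)
    (c : ∀ i, Γ(X, V i))
    (h : ∀ i j, resR (inf_le_left : V i ⊓ V j ≤ V i) (c i) • pw L (res L (inf_le_left : V i ⊓ V j ≤ V i) (ℓ i)) n =
      resR (inf_le_right : V i ⊓ V j ≤ V j) (c j) • pw L (res L (inf_le_right : V i ⊓ V j ≤ V j) (ℓ j)) n) :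
    ∃ g : Γ(CohB1.tensorPow L n, ⊤), ∀ i, gres (CohB1.tensorPow L n) g (V i) = c i • pw L (ℓ i) n :=
  exists_glue_sections _ V hV _ fun i j => by
    rw [res_smul, res_smul, res_pw, res_pw]
    exact h i j

theorem res_gres (M : X.Modules) (s : Γ(M, ⊤)) {W W' : X.Opens} (h : W' ≤ W) :
    res M h (gres M s W) = gres M s W' := res_res M le_top h s

/-- The defining property of a product of sections of tensor powers. -/
def IsMul {a b : ℕ} (s : Γ(CohB1.tensorPow L a, ⊤)) (t : Γ(CohB1.tensorPow L b, ⊤))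
    (m : Γ(CohB1.tensorPow L (a + b), ⊤)) : Prop :=
  ∀ (W : X.Opens) (ℓ : Γ(L, W)), IsBasis L ℓ → ∀ c d : Γ(X, W),
    gres (CohB1.tensorPow L a) s W = c • pw L ℓ a → gres (CohB1.tensorPow L b) t W = d • pw L ℓ b →
    gres (CohB1.tensorPow L (a + b)) m W = (c * d) • pw L ℓ (a + b)

theorem exists_mul (hL : PicF.IsInvertible L) {a b : ℕ} (s : Γ(CohB1.tensorPow L a, ⊤))
    (t : Γ(CohB1.tensorPow L b, ⊤)) : ∃ m, IsMul s t m := by
  choose V hxV ℓ hℓ using exists_isBasis hL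
  choose c hc using fun x => exists_coef (isBasis_pw (hℓ x) a) (gres (CohB1.tensorPow L a) s (V x))
  choose d hd using fun x => exists_coef (isBasis_pw (hℓ x) b) (gres (CohB1.tensorPow L b) t (V x))
  have hcov : ∀ x, ∃ i, x ∈ V i := fun x => ⟨x, hxV x⟩
  have key : ∀ (W : X.Opens) (l : Γ(L, W)), IsBasis L l → ∀ (c' d' : Γ(X, W)),
      gres (CohB1.tensorPow L a) s W = c' • pw L l a → gres (CohB1.tensorPow L b) t W = d' • pw L l b →
      ∀ x (hx : W ≤ V x),
        resR hx (c x * d x) • pw L (res L hx (ℓ x)) (a + b) = (c' * d') • pw L l (a + b) := by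
    intro W l hl c' d' hc' hd' x hx
    obtain ⟨u, hu⟩ := exists_change (ℓ' := l) (isBasis_res (hℓ x) hx)
    have ec := congrArg (res _ hx) (hc x)
    have ed := congrArg (res _ hx) (hd x)
    rw [res_gres, res_smul, res_pw, hc'] at ec
    rw [res_gres, res_smul, res_pw, hd'] at ed
    have e1 := (hu a _ _).mp ec.symm
    have e2 := (hu b _ _).mp ed.symm
    refine (hu (a + b) _ _).mpr ?_
    rw [resR_mul]
    rw [e1, e2]
    ring
  obtain ⟨m, hm⟩ := exists_glue_coef V hcov ℓ (a + b) (fun x => c x * d x) fun x y => by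
    have ec := congrArg (res _ (inf_le_right : V x ⊓ V y ≤ V y)) (hc y)
    have ed := congrArg (res _ (inf_le_right : V x ⊓ V y ≤ V y)) (hd y)
    rw [res_gres, res_smul, res_pw] at ec ed
    refine (key _ _ (isBasis_res (hℓ y) inf_le_right) _ _ ec ed x inf_le_left).trans ?_
    rw [resR_mul]
  refine ⟨m, fun W l hl c' d' hc' hd' => sections_ext _ V hcov fun x => ?_⟩
  rw [res_gres, ← res_gres _ m (inf_le_right : W ⊓ V x ≤ V x), hm, res_smul, res_pw, res_smul, res_pw]
  have ec := congrArg (res _ (inf_le_left : W ⊓ V x ≤ W)) hc'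
  have ed := congrArg (res _ (inf_le_left : W ⊓ V x ≤ W)) hd'
  rw [res_gres, res_smul, res_pw] at ec ed
  refine (key _ _ (isBasis_res hl inf_le_left) _ _ ec ed x inf_le_right).trans ?_
  exact congrArg (· • pw L (res L (inf_le_left : W ⊓ V x ≤ W) l) (a + b)) (resR_mul _ c' d').symm

/-- The product of sections. -/
noncomputable def mul (hL : PicF.IsInvertible L) {a b : ℕ} (s : Γ(CohB1.tensorPow L a, ⊤))
    (t : Γ(CohB1.tensorPow L b, ⊤)) : Γ(CohB1.tensorPow L (a + b), ⊤) :=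
  (exists_mul hL s t).choose

theorem isMul_mul (hL : PicF.IsInvertible L) {a b : ℕ} (s : Γ(CohB1.tensorPow L a, ⊤))
    (t : Γ(CohB1.tensorPow L b, ⊤)) : IsMul s t (mul hL s t) :=
  (exists_mul hL s t).choose_spec

/-- Powers of a section of a tensor power. -/
noncomputable def spow (hL : PicF.IsInvertible L) {N : ℕ} (s : Γ(CohB1.tensorPow L N, ⊤)) :
    ∀ k : ℕ, Γ(CohB1.tensorPow L (N * k), ⊤)
  | 0 => (1 : Γ(X, ⊤))
  | k + 1 => mul hL (spow hL s k) s

theorem spow_coef (hL : PicF.IsInvertible L) {N : ℕ} (s : Γ(CohB1.tensorPow L N, ⊤)) {W : X.Opens}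
    {ℓ : Γ(L, W)} (hℓ : IsBasis L ℓ) {c : Γ(X, W)} (hc : gres (CohB1.tensorPow L N) s W = c • pw L ℓ N) :
    ∀ k, gres (CohB1.tensorPow L (N * k)) (spow hL s k) W = c ^ k • pw L ℓ (N * k)
  | 0 => by
    rw [pow_zero, one_smul]
    exact map_one (X.presheaf.map (homOfLE (le_top : W ≤ ⊤)).op).hom
  | k + 1 => by
    rw [pow_succ]
    exact isMul_mul hL (spow hL s k) s W ℓ hℓ _ _ (spow_coef hL s hℓ hc k) hc

/-- Where a section generates, in a trivialisation: the basic open of its coefficient. -/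
theorem genOpen_inf_eq_basicOpen {M : X.Modules} (hM : PicF.IsInvertible M) {V : X.Opens} {β : Γ(M, V)}
    (hβ : IsBasis M β) {s : Γ(M, ⊤)} {c : Γ(X, V)} (hc : gres M s V = c • β) :
    genOpen hM s ⊓ V = X.basicOpen c := by
  refine le_antisymm (fun y hy => (X.mem_basicOpen c y hy.2).mpr ?_) (fun y hy => ?_)
  · obtain ⟨d, hd⟩ := (hy.1 : Gen M s y) (M.presheaf.germ V y hy.2 β)
    refine isUnit_iff_exists_inv.mpr ⟨d, (hβ.stalk_bijective hy.2).1 ?_⟩
    have e1 : M.presheaf.germ V y hy.2 (gres M s V) = M.presheaf.germ ⊤ y trivial s :=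
      TopCat.Presheaf.germ_res_apply _ _ _ _ _
    rw [hc, InvBasic.germ_smul] at e1
    dsimp only
    rw [mul_comm, mul_smul, e1, hd, one_smul]
  · have hyV : y ∈ V := X.basicOpen_le c hy
    refine ⟨?_, hyV⟩
    obtain ⟨u, hu⟩ := (X.mem_basicOpen c y hyV).mp hy
    intro z
    obtain ⟨b, hb⟩ := (hβ.stalk_bijective hyV).2 z
    refine ⟨b * ↑u⁻¹, ?_⟩
    have e1 : M.presheaf.germ V y hyV (gres M s V) = M.presheaf.germ ⊤ y trivial s :=
      TopCat.Presheaf.germ_res_apply _ _ _ _ _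
    rw [hc, InvBasic.germ_smul, ← hu] at e1
    rw [← e1, smul_smul, Units.inv_mul_cancel_right]
    exact hb

theorem genOpen_spow (hL : PicF.IsInvertible L) {N : ℕ} (s : Γ(CohB1.tensorPow L N, ⊤)) {k : ℕ} (hk : 0 < k) :
    genOpen (isInvertible_tensorPow hL (N * k)) (spow hL s k) = genOpen (isInvertible_tensorPow hL N) s := by
  ext x
  obtain ⟨U, hx, ℓ, hℓ⟩ := exists_isBasis hL x
  obtain ⟨c, hc⟩ := exists_coef (isBasis_pw hℓ N) (gres (CohB1.tensorPow L N) s U)
  have h1 := genOpen_inf_eq_basicOpen (isInvertible_tensorPow hL N) (isBasis_pw hℓ N) hc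
  have h2 := genOpen_inf_eq_basicOpen (isInvertible_tensorPow hL _) (isBasis_pw hℓ _) (spow_coef hL s hℓ hc k)
  rw [X.basicOpen_pow c hk] at h2
  have e := h2.trans h1.symm
  exact ⟨fun h => (e.le ⟨h, hx⟩).1, fun h => (e.ge ⟨h, hx⟩).1⟩

/-- Relations between sections pass to powers. -/
theorem gres_spow_smul (hL : PicF.IsInvertible L) {N : ℕ} {s t : Γ(CohB1.tensorPow L N, ⊤)} {W : X.Opens}
    {v : Γ(X, W)} (h : gres (CohB1.tensorPow L N) s W = v • gres (CohB1.tensorPow L N) t W) (k : ℕ) :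
    gres (CohB1.tensorPow L (N * k)) (spow hL s k) W = v ^ k • gres (CohB1.tensorPow L (N * k)) (spow hL t k) W := by
  choose V hxV ℓ hℓ using exists_isBasis hL
  refine sections_ext _ V (fun x => ⟨x, hxV x⟩) fun x => ?_
  have hb := isBasis_res (hℓ x) (inf_le_right : W ⊓ V x ≤ V x)
  obtain ⟨c, hc⟩ := exists_coef (isBasis_pw hb N) (gres (CohB1.tensorPow L N) t (W ⊓ V x))
  have hs := congrArg (res _ (inf_le_left : W ⊓ V x ≤ W)) h
  rw [res_gres, res_smul, res_gres, hc, smul_smul] at hs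
  rw [res_gres, res_smul, res_gres, spow_coef hL s hb hs k, spow_coef hL t hb hc k, smul_smul, mul_pow, resR_pow]

theorem gen_iff_of_iso {M M' : X.Modules} (hM : PicF.IsInvertible M) (hM' : PicF.IsInvertible M') (τ : M ≅ M')
    (s : Γ(M, ⊤)) : genOpen hM' (τ.hom.app ⊤ s) = genOpen hM s := by
  ext x
  refine ⟨fun h => ?_, fun h => gen_map τ.hom h⟩
  have := gen_map τ.inv h
  rwa [show τ.inv.app ⊤ (τ.hom.app ⊤ s) = s from
    ConcreteCategory.congr_hom (congrArg (fun f => Scheme.Modules.Hom.app f ⊤) τ.hom_inv_id) s] at this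

end Groth.Agent.InvPow
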