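import Groth.Agent.InvPow.GloballyGenerated
import Groth.Agent.InvPow.PullBasisLocal
import Groth.Agent.InvPow.Locus
import Mathlib.AlgebraicGeometry.ResidueField
import Mathlib.AlgebraicGeometry.Properties
import Mathlib.Algebra.Category.ModuleCat.Sheaf.Free

/-!
# Globally generated invertible modules have sections without common zero
-/

set_option autoImplicit false
set_option synthInstance.maxHeartbeats 400000
set_option maxHeartbeats 800000
universe u
open CategoryTheory CategoryTheory.Limits AlgebraicGeometry Opposite TopologicalSpace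

namespace Groth.Agent.InvPow

open InvBasic ProjUniv

variable {X : Scheme.{u}} {M : X.Modules}

theorem exists_gen_of_isGloballyGenerated (hM : PicF.IsInvertible M) (h : Curv2.IsGloballyGenerated M) (x : X) :
    ∃ s : Γ(M, ⊤), x ∈ genOpen hM s := by
  obtain ⟨J, p, hp⟩ := h
  obtain ⟨V, hxV, ℓ, hℓ⟩ := exists_isBasis hM x
  by_contra hne
  let i := X.fromSpecResidueField x
  have hi : ∀ y, i y = x := fun y => Scheme.fromSpecResidueField_apply x y
  let P := (Scheme.Modules.pullback i).obj M
  let g := (Scheme.Modules.pullbackPushforwardAdjunction i).unit.app M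
  have hz : ∀ (σ : Γ(M, ⊤)) (W : X.Opens), pullLoc i M (gres M σ W) = 0 := fun σ W => by
    refine sections_ext P (fun _ : PUnit.{u + 1} => i ⁻¹ᵁ V)
      (fun y => ⟨⟨⟩, show i y ∈ V by rw [hi y]; exact hxV⟩) fun _ => ?_
    rw [show res P inf_le_left (0 : Γ(P, i ⁻¹ᵁ W)) = 0 from map_zero _]
    obtain ⟨c, hc⟩ := exists_coef (isBasis_res hℓ (inf_le_right : W ⊓ V ≤ V)) (gres M σ (W ⊓ V))
    have hc0 : i.app (W ⊓ V) c = 0 := by
      rw [← basicOpen_eq_bot_iff, ← Scheme.preimage_basicOpen]
      refine Opens.ext (Set.eq_empty_iff_forall_notMem.mpr fun y hy => hne ⟨σ, ?_⟩)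
      exact ((genOpen_inf_eq_basicOpen hM (isBasis_res hℓ (inf_le_right : W ⊓ V ≤ V)) hc).ge (hi y ▸ hy)).1
    have e := congrArg (pullLoc i M) hc
    rw [pullLoc_smul, hc0, zero_smul] at e
    refine Eq.trans ?_ e
    exact (res_pullLoc i M (inf_le_left : W ⊓ V ≤ W) (gres M σ W)).trans
      (congrArg (pullLoc i M) (res_gres M σ (inf_le_left : W ⊓ V ≤ W)))
  have hg0 : p ≫ g = 0 := by
    refine Cofan.IsColimit.hom_ext (SheafOfModules.isColimitFreeCofan J) _ _ fun j => ?_
    show SheafOfModules.ιFree j ≫ p ≫ g = SheafOfModules.ιFree j ≫ 0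
    rw [comp_zero, ← Category.assoc]
    obtain ⟨σ, hσ⟩ := exists_globalHom_eq (show Coh.structureModule X ⟶ M from SheafOfModules.ιFree j ≫ p)
    rw [← show ProjTwist.globalHom M σ = SheafOfModules.ιFree j ≫ p from hσ]
    refine Scheme.Modules.hom_ext _ _ fun W => ?_
    ext r
    show g.app W ((ProjTwist.globalHom M σ).app W (show Γ(X, W) from r)) = 0
    rw [ProjTwist.globalHom_app]
    refine (Scheme.Modules.Hom.app_smul g _ _).trans ?_
    rw [show g.app W (gres M σ W) = 0 from hz σ W]
    exact smul_zero _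
  have hgz : g = 0 := (cancel_epi p).mp (hg0.trans comp_zero.symm)
  have hb := isBasis_pullLoc i hM hℓ
  have e : pullLoc i M ℓ = 0 := ConcreteCategory.congr_hom (congrArg (fun q => Scheme.Modules.Hom.app q V) hgz) ℓ
  have : Nonempty (i ⁻¹ᵁ V : (Spec (X.residueField x)).Opens) := by
    obtain ⟨y⟩ := (inferInstance : Nonempty (Spec (X.residueField x)))
    exact ⟨⟨y, show i y ∈ V by rw [hi y]; exact hxV⟩⟩
  have hne' := (hb _ le_rfl).1 (a₁ := (1 : Γ(Spec (X.residueField x), i ⁻¹ᵁ V))) (a₂ := 0) (by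
    simp only [QCohLib.map_self, e, smul_zero])
  exact one_ne_zero hne'

end Groth.Agent.InvPow
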