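import Groth.Agent.InvPow.RelAmple
import Mathlib.AlgebraicGeometry.Limits

/-!
# Ampleness on disjoint unions
-/

set_option autoImplicit false
set_option synthInstance.maxHeartbeats 400000
set_option maxHeartbeats 800000
universe u
open CategoryTheory CategoryTheory.Limits AlgebraicGeometry Opposite TopologicalSpace

namespace Groth.Agent.InvPow

open InvBasic ProjUniv

variable {X Z : Scheme.{u}} {L : X.Modules}

theorem ampOn_of_openImm {j : Z ⟶ X} [IsOpenImmersion j] (h : CohB1.IsAmple ((Scheme.Modules.pullback j).obj L))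
    (W : X.Opens) [CompactSpace W] (hW : W ≤ j.opensRange) : AmpOn L W := by
  let k := IsOpenImmersion.lift j W.ι (by rw [W.range_ι]; exact hW)
  have hk : k ≫ j = W.ι := IsOpenImmersion.lift_fac _ _ _
  have : IsOpenImmersion (k ≫ j) := hk ▸ inferInstance
  have : IsOpenImmersion k := IsOpenImmersion.of_comp k j
  exact isAmple_of_iso ((Scheme.Modules.pullbackComp k j).app L ≪≫ (Scheme.Modules.pullbackCongr hk).app L)
    (isAmple_pullback_openImm h k)

/-- Loci on one part of a disjoint cover are loci on the whole. -/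
theorem exists_locus_of_disjoint (hL : PicF.IsInvertible L) (W W' : X.Opens) (hd : W ⊓ W' = ⊥) (hc : W ⊔ W' = ⊤)
    (h : AmpOn L W) {x : X} (hx : x ∈ W) :
    ∃ n, 0 < n ∧ ∃ s : Γ(CohB1.tensorPow L n, ⊤), x ∈ genOpen (isInvertible_tensorPow hL n) s ∧
      IsAffineOpen (genOpen (isInvertible_tensorPow hL n) s) := by
  obtain ⟨n, hn, σ, hxσ, haff⟩ := affLoci_of_isAmple h ⟨x, hx⟩
  obtain ⟨v, hv⟩ := exists_onOpen hL W σ
  let q : ∀ b : ULift.{u} Bool, Γ(CohB1.tensorPow L n, if b.down then W else W') := fun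
    | ⟨true⟩ => v
    | ⟨false⟩ => 0
  have hcov : ∀ y : X, ∃ b : ULift.{u} Bool, y ∈ (if b.down then W else W' : X.Opens) := fun y => by
    rcases (hc.ge (trivial : y ∈ (⊤ : X.Opens))) with hy | hy
    · exact ⟨⟨true⟩, hy⟩
    · exact ⟨⟨false⟩, hy⟩
  have hsub : ∀ (O : X.Opens), O ≤ ⊥ → Subsingleton Γ(CohB1.tensorPow L n, O) := fun O hO =>
    ⟨fun a b => TopCat.Sheaf.eq_of_locally_eq' ⟨(CohB1.tensorPow L n).presheaf, (CohB1.tensorPow L n).isSheaf⟩
      (fun e : PEmpty.{u + 1} => e.elim) O (fun e => e.elim) (hO.trans bot_le) a b fun e => e.elim⟩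
  obtain ⟨w, hw⟩ := exists_glue_sections (CohB1.tensorPow L n) (fun b : ULift.{u} Bool => if b.down then W else W')
    hcov q fun i j => by
      match i, j with
      | ⟨true⟩, ⟨true⟩ => rfl
      | ⟨false⟩, ⟨false⟩ => rfl
      | ⟨true⟩, ⟨false⟩ => exact @Subsingleton.elim _ (hsub _ hd.le) _ _
      | ⟨false⟩, ⟨true⟩ => exact @Subsingleton.elim _ (hsub _ ((inf_comm _ _).trans hd).le) _ _
  have hw1 : gres (CohB1.tensorPow L n) w W = v := hw ⟨true⟩
  have hw0 : gres (CohB1.tensorPow L n) w W' = 0 := hw ⟨false⟩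
  have key : genOpen (isInvertible_tensorPow hL n) w =
      W.ι ''ᵁ genOpen (isInvertible_tensorPow (isInvertible_pullback W.ι hL) n) σ := by
    refine Opens.ext (Set.ext fun y => ?_)
    by_cases hy : y ∈ W
    · obtain ⟨V, hVW, ℓ, c, hyV, hℓ, hcv, hbo⟩ := hv y hy
      have e := congrArg (res (CohB1.tensorPow L n) hVW) hw1
      rw [res_gres, hcv] at e
      have h2 := genOpen_inf_eq_basicOpen (isInvertible_tensorPow hL n) (isBasis_pw hℓ n) e
      constructor
      · intro hh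
        exact ⟨⟨y, hy⟩, (hbo.ge (show (⟨y, hy⟩ : W) ∈ W.ι ⁻¹ᵁ X.basicOpen c from h2.le ⟨hh, hyV⟩)).1, rfl⟩
      · rintro ⟨z, hz, rfl⟩
        exact (h2.ge (hbo.le ⟨hz, hyV⟩)).1
    · have hy' : y ∈ W' := (hc.ge (trivial : y ∈ (⊤ : X.Opens))).resolve_left hy
      refine ⟨fun hh => ?_, ?_⟩
      · obtain ⟨V, hyV, ℓ, hℓ⟩ := exists_isBasis hL y
        have e := congrArg (res (CohB1.tensorPow L n) (inf_le_left : W' ⊓ V ≤ W')) hw0
        rw [res_gres, show res (CohB1.tensorPow L n) (inf_le_left : W' ⊓ V ≤ W') 0 = 0 from map_zero _,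
          ← zero_smul Γ(X, W' ⊓ V) (pw L (res L (inf_le_right : W' ⊓ V ≤ V) ℓ) n)] at e
        have h2 := (genOpen_inf_eq_basicOpen (isInvertible_tensorPow hL n)
          (isBasis_pw (isBasis_res hℓ (inf_le_right : W' ⊓ V ≤ V)) n) e).le ⟨hh, hy', hyV⟩
        rw [Scheme.basicOpen_zero] at h2
        exact h2.elim
      · rintro ⟨z, -, rfl⟩
        exact absurd z.2 hy
  exact ⟨n, hn, w, key.ge ⟨⟨x, hx⟩, hxσ, rfl⟩, key ▸ haff.image_of_isOpenImmersion W.ι⟩

theorem isAmple_of_disjoint [CompactSpace X] (W W' : X.Opens) (hd : W ⊓ W' = ⊥) (hc : W ⊔ W' = ⊤)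
    (h : AmpOn L W) (h' : AmpOn L W') : CohB1.IsAmple L := by
  have hcov : ∀ x : X, x ∈ W ∨ x ∈ W' := fun x => hc.ge (trivial : x ∈ (⊤ : X.Opens))
  have hL : PicF.IsInvertible L := isInvertible_of_cover (fun b : Bool => if b then W else W')
    (fun x => (hcov x).elim (fun hx => ⟨true, hx⟩) (fun hx => ⟨false, hx⟩))
    (fun b => by cases b <;> [exact h'.1; exact h.1])
  refine isAmple_of_affLoci hL fun x => ?_
  rcases hcov x with hx | hx
  · exact exists_locus_of_disjoint hL W W' hd hc h hx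
  · exact exists_locus_of_disjoint hL W' W ((inf_comm _ _).trans hd) ((sup_comm _ _).trans hc) h' hx

theorem isRelAmple_coprod {X X' Y : Scheme.{u}} (f : X ⟶ Y) (f' : X' ⟶ Y) [QuasiCompact f] [QuasiCompact f']
    (M : (X ⨿ X').Modules) :
    RelAmple.IsRelAmple (coprod.desc f f') M ↔
      RelAmple.IsRelAmple f ((Scheme.Modules.pullback (coprod.inl : X ⟶ X ⨿ X')).obj M) ∧
        RelAmple.IsRelAmple f' ((Scheme.Modules.pullback (coprod.inr : X' ⟶ X ⨿ X')).obj M) := by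
  let I : X ⟶ X ⨿ X' := coprod.inl
  let J : X' ⟶ X ⨿ X' := coprod.inr
  let F := coprod.desc f f'
  have hI : I ≫ F = f := coprod.inl_desc _ _
  have hJ : J ≫ F = f' := coprod.inr_desc _ _
  have hcompl := isCompl_opensRange_inl_inr X X'
  have hqc : QuasiCompact F := by
    refine quasiCompact_iff_forall_isAffineOpen.mpr fun V hV => ?_
    have h1 : (F ⁻¹ᵁ V : Set _) = I '' (f ⁻¹ᵁ V : Set X) ∪ J '' (f' ⁻¹ᵁ V : Set X') := by
      ext z
      constructor
      · intro hz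
        obtain ⟨x, rfl⟩ | ⟨x, rfl⟩ : z ∈ Set.range I ∪ Set.range J := by
          rw [show Set.range I ∪ Set.range J = Set.univ from (isCompl_range_inl_inr X X').sup_eq_top]
          trivial
        · exact Or.inl ⟨x, show f x ∈ V by rw [← hI]; exact hz, rfl⟩
        · exact Or.inr ⟨x, show f' x ∈ V by rw [← hJ]; exact hz, rfl⟩
      · rintro (⟨x, hx, rfl⟩ | ⟨x, hx, rfl⟩)
        · show F (I x) ∈ V
          rw [← Scheme.Hom.comp_apply, hI]
          exact hx
        · show F (J x) ∈ V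
          rw [← Scheme.Hom.comp_apply, hJ]
          exact hx
    rw [h1]
    exact ((f.isCompact_preimage hV.isCompact).image I.continuous).union
      ((f'.isCompact_preimage hV.isCompact).image J.continuous)
  have key : ∀ {Z : Scheme.{u}} (K : Z ⟶ X ⨿ X') [IsOpenImmersion K] (g : Z ⟶ Y) (_ : K ≫ F = g) [QuasiCompact g],
      (∀ V : Y.affineOpens, AmpOn M (F ⁻¹ᵁ V.1)) →
      RelAmple.IsRelAmple g ((Scheme.Modules.pullback K).obj M) := by
    intro Z K _ g hg _ h
    refine (isRelAmple_iff g).mpr ⟨inferInstance, fun V => ?_⟩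
    have : CompactSpace (g ⁻¹ᵁ V.1) := isCompact_iff_compactSpace.mp (g.isCompact_preimage V.2.isCompact)
    refine isAmple_of_iso ((Scheme.Modules.pullbackComp (g ⁻¹ᵁ V.1).ι K).app M).symm
      (isAmple_pullback_of_le (h V) _ ?_)
    rintro _ ⟨z, rfl⟩
    show F (K z.1) ∈ V.1
    rw [← Scheme.Hom.comp_apply, hg]
    exact z.2
  constructor
  · intro h
    exact ⟨key I f hI ((isRelAmple_iff F).mp h).2, key J f' hJ ((isRelAmple_iff F).mp h).2⟩
  · rintro ⟨h, h'⟩
    refine (isRelAmple_iff F).mpr ⟨hqc, fun V => ?_⟩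
    let W := F ⁻¹ᵁ V.1
    let W₁ : (W : Scheme.{u}).Opens := W.ι ⁻¹ᵁ I.opensRange
    let W₂ : (W : Scheme.{u}).Opens := W.ι ⁻¹ᵁ J.opensRange
    have : CompactSpace W := isCompact_iff_compactSpace.mp (F.isCompact_preimage V.2.isCompact)
    have hd : W₁ ⊓ W₂ = ⊥ := by
      refine Opens.ext (Set.eq_empty_iff_forall_notMem.mpr fun z hz => ?_)
      exact hcompl.disjoint.le_bot (show W.ι z ∈ I.opensRange ⊓ J.opensRange from hz)
    have hc : W₁ ⊔ W₂ = ⊤ := top_le_iff.mp fun z _ => (show W.ι z ∈ I.opensRange ⊔ J.opensRange by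
      rw [hcompl.sup_eq_top]; trivial)
    have key2 : ∀ {Z : Scheme.{u}} (K : Z ⟶ X ⨿ X') [IsOpenImmersion K] (g : Z ⟶ Y) (_ : K ≫ F = g) [QuasiCompact g],
        RelAmple.IsRelAmple g ((Scheme.Modules.pullback K).obj M) →
        AmpOn ((Scheme.Modules.pullback W.ι).obj M) (W.ι ⁻¹ᵁ K.opensRange) := by
      intro Z K _ g hg _ hh
      have hA := isAmple_of_iso ((Scheme.Modules.pullbackComp (g ⁻¹ᵁ V.1).ι K).app M) (((isRelAmple_iff g).mp hh).2 V)
      let O := W.ι ⁻¹ᵁ K.opensRange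
      have e : (O.ι ≫ W.ι).opensRange ≤ ((g ⁻¹ᵁ V.1).ι ≫ K).opensRange := by
        rintro _ ⟨z, rfl⟩
        obtain ⟨x, hx⟩ := z.2
        refine ⟨⟨x, show g x ∈ V.1 by rw [← hg, Scheme.Hom.comp_apply, hx]; exact z.1.2⟩, hx⟩
      let k := IsOpenImmersion.lift ((g ⁻¹ᵁ V.1).ι ≫ K) (O.ι ≫ W.ι) e
      have hk : k ≫ (g ⁻¹ᵁ V.1).ι ≫ K = O.ι ≫ W.ι := IsOpenImmersion.lift_fac _ _ _
      have : IsOpenImmersion (k ≫ (g ⁻¹ᵁ V.1).ι ≫ K) := hk ▸ inferInstance
      have : IsOpenImmersion k := IsOpenImmersion.of_comp k ((g ⁻¹ᵁ V.1).ι ≫ K)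
      have : CompactSpace O := by
        refine isCompact_iff_compactSpace.mp (W.ι.isOpenEmbedding.isInducing.isCompact_iff.mpr ?_)
        have hK : (W.ι '' (O : Set W)) = K '' (g ⁻¹ᵁ V.1 : Set Z) := by
          ext y
          constructor
          · rintro ⟨z, ⟨x, hx⟩, rfl⟩
            exact ⟨x, show g x ∈ V.1 by rw [← hg, Scheme.Hom.comp_apply, hx]; exact z.2, hx⟩
          · rintro ⟨x, hx, rfl⟩
            refine ⟨⟨K x, show F (K x) ∈ V.1 by rw [← Scheme.Hom.comp_apply, hg]; exact hx⟩, ⟨x, rfl⟩, rfl⟩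
        rw [hK]
        exact (g.isCompact_preimage V.2.isCompact).image K.continuous
      exact isAmple_of_iso ((Scheme.Modules.pullbackComp k _).app M ≪≫ (Scheme.Modules.pullbackCongr hk).app M ≪≫
        ((Scheme.Modules.pullbackComp O.ι W.ι).app M).symm) (isAmple_pullback_openImm hA k)
    exact isAmple_of_disjoint W₁ W₂ hd hc (key2 I f hI h) (key2 J f' hJ h')

end Groth.Agent.InvPow
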