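import Groth.Agent.InvPow.Disjoint
import Mathlib.CategoryTheory.Limits.Preserves.Shapes.Biproducts

/-!
# A module on a disjoint union with prescribed restrictions
-/

set_option autoImplicit false
set_option synthInstance.maxHeartbeats 400000
set_option maxHeartbeats 800000
universe u
open CategoryTheory CategoryTheory.Limits AlgebraicGeometry Opposite TopologicalSpace

namespace Groth.Agent.InvPow

theorem restrictFunctor_map_add {X Z : Scheme.{u}} (f : Z ⟶ X) [IsOpenImmersion f] {A B : X.Modules} (φ ψ : A ⟶ B) :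
    (Scheme.Modules.restrictFunctor f).map (φ + ψ) =
      (Scheme.Modules.restrictFunctor f).map φ + (Scheme.Modules.restrictFunctor f).map ψ :=
  Scheme.Modules.hom_ext _ _ fun _ => rfl

/-- On a disjoint union every pair of modules comes from one module. -/
theorem exists_coprod_module {X X' : Scheme.{u}} (L : X.Modules) (L' : X'.Modules) :
    ∃ M : (X ⨿ X').Modules,
      Nonempty ((Scheme.Modules.pullback (coprod.inl : X ⟶ X ⨿ X')).obj M ≅ L) ∧
        Nonempty ((Scheme.Modules.pullback (coprod.inr : X' ⟶ X ⨿ X')).obj M ≅ L') := by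
  let I : X ⟶ X ⨿ X' := coprod.inl
  let J : X' ⟶ X ⨿ X' := coprod.inr
  have : HasFiniteBiproducts (X ⨿ X').Modules := HasFiniteBiproducts.of_hasFiniteProducts
  let A := (Scheme.Modules.pushforward I).obj L
  let B := (Scheme.Modules.pushforward J).obj L'
  have hcompl := isCompl_opensRange_inl_inr X X'
  have hzero : ∀ {Z : Scheme.{u}} (W : Z.Modules) (U : Z.Opens), U ≤ ⊥ → Subsingleton Γ(W, U) := fun W U hU =>
    ⟨fun a b => TopCat.Sheaf.eq_of_locally_eq' ⟨W.presheaf, W.isSheaf⟩
      (fun e : PEmpty.{u + 1} => e.elim) U (fun e => e.elim) (hU.trans bot_le) a b fun e => e.elim⟩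
  have side : ∀ {Z Z' : Scheme.{u}} (K : Z ⟶ X ⨿ X') [IsOpenImmersion K] (K' : Z' ⟶ X ⨿ X') [IsOpenImmersion K']
      (_ : Disjoint K.opensRange K'.opensRange) (W : Z.Modules) (W' : Z'.Modules) (F : (X ⨿ X').Modules)
      (p : F ⟶ (Scheme.Modules.pushforward K).obj W) (s : (Scheme.Modules.pushforward K).obj W ⟶ F)
      (r : F ⟶ (Scheme.Modules.pushforward K').obj W') (t : (Scheme.Modules.pushforward K').obj W' ⟶ F)
      (_ : s ≫ p = 𝟙 _) (_ : p ≫ s + r ≫ t = 𝟙 _),
      Nonempty ((Scheme.Modules.pullback K).obj F ≅ W) := by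
    intro Z Z' K _ K' _ hdisj W W' F p s r t hsp htot
    let R := Scheme.Modules.restrictFunctor K
    have hr : R.map (r ≫ t) = 0 := by
      refine Scheme.Modules.hom_ext _ _ fun U => ?_
      ext a
      have : Subsingleton Γ((Scheme.Modules.pushforward K').obj W', K ''ᵁ U) := by
        refine hzero W' (K' ⁻¹ᵁ (K ''ᵁ U)) fun z hz => ?_
        obtain ⟨y, -, hy⟩ := hz
        exact (hdisj.le_bot (show K' z ∈ K.opensRange ⊓ K'.opensRange from ⟨⟨y, hy⟩, ⟨z, rfl⟩⟩)).elim
      show t.app (K ''ᵁ U) (r.app (K ''ᵁ U) a) = 0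
      rw [Subsingleton.elim (r.app (K ''ᵁ U) a) 0, map_zero]
    let i : R.obj F ≅ R.obj ((Scheme.Modules.pushforward K).obj W) :=
      ⟨R.map p, R.map s, by
        rw [← R.map_comp, ← R.map_id, ← htot, restrictFunctor_map_add, hr, add_zero], by
        rw [← R.map_comp, hsp, R.map_id]⟩
    exact ⟨((Scheme.Modules.restrictFunctorIsoPullback K).app F).symm ≪≫ i ≪≫
      (asIso (Scheme.Modules.restrictAdjunction K).counit).app W⟩
  exact ⟨A ⊞ B,
    side I J hcompl.disjoint L L' (A ⊞ B) biprod.fst biprod.inl biprod.snd biprod.inr (biprod.inl_fst)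
      biprod.total,
    side J I hcompl.disjoint.symm L' L (A ⊞ B) biprod.snd biprod.inr biprod.fst biprod.inl (biprod.inr_snd)
      ((add_comm _ _).trans biprod.total)⟩

end Groth.Agent.InvPow
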