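import Groth.Agent.InvPow.Locus
import Groth.Agent.SubSheafExt.Generators
import Groth.Agent.ConormalSection.Ideal
import Groth.Prelude.Def_Curv2
import Mathlib.AlgebraicGeometry.QuasiAffine

/-!
# Global functions from globally generated ideals
-/

set_option autoImplicit false
set_option synthInstance.maxHeartbeats 400000
set_option maxHeartbeats 800000
universe u
open CategoryTheory CategoryTheory.Limits AlgebraicGeometry Opposite TopologicalSpace

namespace Groth.Agent.InvPow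

variable {X : Scheme.{u}}

theorem basicOpen_res_top (U : X.Opens) (r : Γ(X, ⊤)) :
    X.basicOpen (X.presheaf.map (homOfLE (le_top : U ≤ ⊤)).op r) = U ⊓ X.basicOpen r :=
  Scheme.basicOpen_res X r _

/-- A globally generated module mapping nontrivially at `x` to the structure sheaf has a global section
whose value does not vanish at `x`. -/
theorem exists_basicOpen_of_isGloballyGenerated {J : X.Modules} (q : J ⟶ Coh.structureModule X)
    (h : Curv2.IsGloballyGenerated J) {x : X} {U : X.Opens} (hx : x ∈ U) (s : Γ(J, U))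
    (hs : (q.app U s : Γ(X, U)) = (1 : Γ(X, U))) :
    ∃ σ : Γ(J, ⊤), x ∈ X.basicOpen (q.app ⊤ σ : Γ(X, ⊤)) := by
  obtain ⟨κ, p, hp⟩ := h
  let P : X.Modules := SheafOfModules.free κ
  by_contra hne
  let i := X.fromSpecResidueField x
  have hi : ∀ y, i y = x := fun y => Scheme.fromSpecResidueField_apply x y
  let g := q ≫ ClSub.unitToPush i
  have hg : ∀ (W : X.Opens) (σ : Γ(J, W)),
      g.app W σ = (i.app W (q.app W σ : Γ(X, W)) : Γ(Spec (X.residueField x), i ⁻¹ᵁ W)) := fun W σ => rfl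
  have hz : ∀ (σ : Γ(J, ⊤)) (W : X.Opens), g.app W (J.presheaf.map (homOfLE (le_top : W ≤ ⊤)).op σ) = 0 := by
    intro σ W
    rw [hg, QCohLib.app_map q (le_top : W ≤ ⊤) σ]
    show i.app W (X.presheaf.map (homOfLE (le_top : W ≤ ⊤)).op (q.app ⊤ σ : Γ(X, ⊤))) = (0 : Γ(Spec (X.residueField x), i ⁻¹ᵁ W))
    rw [← basicOpen_eq_bot_iff, ← Scheme.preimage_basicOpen]
    refine (congrArg (i ⁻¹ᵁ ·) (basicOpen_res_top W (q.app ⊤ σ : Γ(X, ⊤)))).trans ?_
    exact Opens.ext (Set.eq_empty_iff_forall_notMem.mpr fun y hy => hne ⟨σ, hi y ▸ hy.2⟩)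
  have hg0 : p ≫ g = 0 := by
    refine Cofan.IsColimit.hom_ext (SheafOfModules.isColimitFreeCofan κ) _ _ fun j => ?_
    show SheafOfModules.ιFree j ≫ p ≫ g = SheafOfModules.ιFree j ≫ 0
    rw [comp_zero, ← Category.assoc]
    obtain ⟨σ, hσ⟩ := exists_globalHom_eq (show Coh.structureModule X ⟶ J from SheafOfModules.ιFree j ≫ p)
    rw [← show ProjTwist.globalHom J σ = SheafOfModules.ιFree j ≫ p from hσ]
    refine Scheme.Modules.hom_ext _ _ fun W => ?_
    ext r
    show g.app W ((ProjTwist.globalHom J σ).app W (show Γ(X, W) from r)) = 0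
    rw [ProjTwist.globalHom_app]
    refine (Scheme.Modules.Hom.app_smul g _ _).trans ?_
    rw [hz σ W]
    exact smul_zero _
  have hgz : g = 0 := (cancel_epi p).mp (hg0.trans comp_zero.symm)
  have e : (i.app U (q.app U s : Γ(X, U)) : Γ(Spec (X.residueField x), i ⁻¹ᵁ U)) = 0 :=
    (hg U s).symm.trans (ConcreteCategory.congr_hom (congrArg (fun q => Scheme.Modules.Hom.app q U) hgz) s)
  rw [hs, map_one] at e
  have : Nonempty (i ⁻¹ᵁ U : (Spec (X.residueField x)).Opens) := by
    obtain ⟨y⟩ := (inferInstance : Nonempty (Spec (X.residueField x)))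
    exact ⟨⟨y, show i y ∈ U by rw [hi y]; exact hx⟩⟩
  exact one_ne_zero e

/-- A finite type ideal inside the ideal of the complement of an affine open, equal to `1` on it. -/
theorem exists_ideal_ft [CompactSpace X] [QuasiSeparatedSpace X] {U : X.Opens} (hU : IsAffineOpen U) :
    ∃ (J : X.Modules) (q : J ⟶ Coh.structureModule X), Mono q ∧ Coh.IsQCoh J ∧ CohB1.IsFT J ∧
      (∃ s : Γ(J, U), (q.app U s : Γ(X, U)) = (1 : Γ(X, U))) ∧
      ∀ σ : Γ(J, ⊤), X.basicOpen (q.app ⊤ σ : Γ(X, ⊤)) ≤ U := by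
  let Z : Closeds X := U.compl
  let K := Scheme.IdealSheafData.vanishingIdeal Z
  have := ConormalSection.isQuasicoherent_idealMod K
  have h1 : (1 : Γ(X, U)) ∈ K.ideal ⟨U, hU⟩ := by
    have : K.ideal ⟨U, hU⟩ = ⊤ := by
      rw [Scheme.IdealSheafData.vanishingIdeal_ideal]
      have he : hU.fromSpec ⁻¹' (Z : Set X) = ∅ := Set.eq_empty_iff_forall_notMem.mpr fun y hy =>
        hy (show hU.fromSpec y ∈ (U : Set X) from hU.range_fromSpec ▸ Set.mem_range_self y)
      exact (congrArg PrimeSpectrum.vanishingIdeal he).trans PrimeSpectrum.vanishingIdeal_empty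
    rw [this]; trivial
  obtain ⟨s, hs⟩ := ConormalSection.exists_idealSect_eq K ⟨U, hU⟩ 1 h1
  obtain ⟨M, hM, hsM⟩ := SubSheafExt.exists_gen_of_section_qcqs (F := ClSub.idealMod K) hU s
  have : Mono (ClSub.idealModι K) := equalizer.ι_mono
  refine ⟨SubSheafExt.toModule _ M, SubSheafExt.toModuleι _ M ≫ ClSub.idealModι K, inferInstance,
    SubSheafExt.isQuasicoherent_toModule hM, SubSheafExt.isFiniteType_toModule hM, ⟨⟨s, hsM⟩, hs⟩, fun σ y hy => ?_⟩
  by_contra hyU
  obtain ⟨A, hA, hyA, -⟩ := exists_isAffineOpen_mem_and_subset (x := y) (U := ⊤) (Opens.mem_top y)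
  have hmem := ConormalSection.idealSect_mem K ⟨A, hA⟩
    ((ClSub.idealMod K).presheaf.map (homOfLE (le_top : A ≤ ⊤)).op ((SubSheafExt.toModuleι _ M).app ⊤ σ))
  have hsupp : y ∈ K.support := by
    rw [← SetLike.mem_coe, Scheme.IdealSheafData.coe_support_vanishingIdeal]
    exact hyU
  rw [Scheme.IdealSheafData.mem_support_iff_of_mem (U := ⟨A, hA⟩) hyA, Scheme.mem_zeroLocus_iff] at hsupp
  refine hsupp _ hmem ?_
  show y ∈ X.basicOpen ((ClSub.idealModι K).app A _ : Γ(X, A))
  rw [QCohLib.app_map (ClSub.idealModι K) (le_top : A ≤ ⊤)]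
  exact (Scheme.basicOpen_res X _ _).ge ⟨hyA, hy⟩

/-- A quasi-compact separated scheme whose finite type ideals are globally generated is quasi-affine. -/
theorem isQuasiAffine_of_ideals [CompactSpace X] [X.IsSeparated]
    (h : ∀ (J : X.Modules) (i : J ⟶ Coh.structureModule X), Mono i → Coh.IsQCoh J → CohB1.IsFT J →
      Curv2.IsGloballyGenerated J) : X.IsQuasiAffine := by
  refine Scheme.IsQuasiAffine.of_forall_exists_mem_basicOpen X fun x => ?_
  obtain ⟨U, hU, hxU, -⟩ := exists_isAffineOpen_mem_and_subset (x := x) (U := ⊤) (Opens.mem_top x)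
  obtain ⟨J, q, hq, hJq, hJf, ⟨s, hs⟩, hle⟩ := exists_ideal_ft (X := X) hU
  obtain ⟨σ, hσ⟩ := exists_basicOpen_of_isGloballyGenerated q (h J q hq hJq hJf) hxU s hs
  refine ⟨q.app ⊤ σ, ?_, hσ⟩
  exact ((basicOpen_res_top U (q.app ⊤ σ : Γ(X, ⊤))).trans (inf_eq_right.mpr (hle σ))) ▸
    hU.basicOpen (X.presheaf.map (homOfLE (le_top : U ≤ ⊤)).op (q.app ⊤ σ : Γ(X, ⊤)))

end Groth.Agent.InvPow
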