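import Groth.Agent.InvPow.RelAmple
import Groth.Agent.InvPow.GloballyGenerated
import Groth.Agent.InvPow.PullBasisLocal
import Groth.Agent.ProjLinear.PullTwist
import Groth.Agent.ProjTwist.Frac
import Groth.Agent.ProjTwist.Ample
import Groth.Agent.ProjGamma.Extend

/-!
# A quasi-compact open of `Proj` carries an ample twist
-/

set_option autoImplicit false
set_option synthInstance.maxHeartbeats 400000
set_option maxHeartbeats 1600000
universe u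
open CategoryTheory CategoryTheory.Limits AlgebraicGeometry Opposite TopologicalSpace

namespace Groth.Agent.InvPow

open InvBasic ProjUniv ProjGamma

variable {R A : Type u} [CommRing R] [CommRing A] [Algebra R A] {𝒜 : ℕ → Submodule R A} [GradedAlgebra 𝒜]

theorem exists_pos_basicOpen_le (W : (Proj 𝒜).Opens) {x : ProjectiveSpectrum 𝒜} (hx : x ∈ W) :
    ∃ (e : ℕ) (h : A), 0 < e ∧ h ∈ 𝒜 e ∧ h ∉ x.asHomogeneousIdeal ∧ Proj.basicOpen 𝒜 h ≤ W := by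
  obtain ⟨e, h, he, hxh, hle⟩ := ProjTwist.exists_homogeneous_nhd 𝒜 W hx
  obtain ⟨d, hd, b, hb, hbx⟩ : ∃ d, 0 < d ∧ ∃ b ∈ 𝒜 d, b ∉ x.asHomogeneousIdeal := by
    by_contra hc
    push Not at hc
    exact x.not_irrelevant_le ((HomogeneousIdeal.irrelevant_le 𝒜).mpr fun n hn b hb => hc n hn b hb)
  refine ⟨e + d, h * b, by omega, SetLike.mul_mem_graded he hb, fun hc => ?_, fun y hy => hle ?_⟩
  · exact (x.isPrime.mem_or_mem hc).elim hxh hbx
  · exact fun hh => hy (Ideal.mul_mem_right _ _ hh)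

theorem exists_isAmple_restrict_twist (W : (Proj 𝒜).Opens) (hW : IsCompact (W : Set (Proj 𝒜))) :
    ∃ d : ℕ, 0 < d ∧ CohB1.IsAmple ((Twist.twist 𝒜 (d : ℤ)).restrict W.ι) := by
  classical
  have : CompactSpace (W : Scheme.{u}) := isCompact_iff_compactSpace.mp hW
  choose e h he hhe hhx hhW using fun x : W => exists_pos_basicOpen_le W (x := x.1) x.2
  obtain ⟨S, hS⟩ := hW.elim_finite_subcover (fun x : W => (Proj.basicOpen 𝒜 (h x) : Set (Proj 𝒜)))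
    (fun x => (Proj.basicOpen 𝒜 (h x)).2) (fun y hy => Set.mem_iUnion.mpr ⟨⟨y, hy⟩, hhx ⟨y, hy⟩⟩)
  let d := ∏ x ∈ S, e x
  let k : W → ℕ := fun x => ∏ y ∈ S.erase x, e y
  have hd : 0 < d := Finset.prod_pos fun x _ => he x
  have hdeg : ∀ x ∈ S, k x * e x = d := fun x hx => Finset.prod_erase_mul S e hx
  let g : ∀ x : S, 𝒜 d := fun x => ⟨h x ^ k x, hdeg x x.2 ▸ SetLike.pow_mem_graded _ (hhe x)⟩
  have hg : ∀ (x : S) (y : ProjectiveSpectrum 𝒜), (g x).1 ∉ y.asHomogeneousIdeal ↔ h x ∉ y.asHomogeneousIdeal :=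
    fun x y => ⟨fun hh hc => hh (Ideal.pow_mem_of_mem _ hc _ (Finset.prod_pos fun z _ => he z)),
      fun hh hc => hh (y.isPrime.mem_of_pow_mem _ hc)⟩
  let L := Twist.twist 𝒜 (d : ℤ)
  let B : S → (Proj 𝒜).Opens := fun x => Proj.basicOpen 𝒜 (h x)
  have hB : ∀ (x : S) (y : B x), (g x).1 ∉ y.1.asHomogeneousIdeal := fun x y => (hg x y.1).mpr y.2
  have hbas : ∀ x : S, IsBasis L (gres L (Twist.globalOf 𝒜 (g x)) (B x)) := fun x V hV => by
    have hb := ProjTwist.bijective_smul_fracSect (W := V) (g x) (⟨1, SetLike.GradedOne.one_mem⟩ : 𝒜 0)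
      (fun y => hB x ⟨y.1, hV y.2⟩) (fun y => ProjTwist.notMem_one 𝒜 y.1) (m := (d : ℤ)) (by simp)
    simp only [QCohLib.map_map]
    exact hb
  have hL : PicF.IsInvertible (L.restrict W.ι) := by
    refine isInvertible_of_isBasis fun z => ?_
    obtain ⟨x, hxS, hzx⟩ := Set.mem_iUnion₂.mp (hS z.2)
    have hle : W.ι ''ᵁ (W.ι ⁻¹ᵁ B ⟨x, hxS⟩) ≤ B ⟨x, hxS⟩ := W.ι.image_preimage_le _
    refine ⟨W.ι ⁻¹ᵁ B ⟨x, hxS⟩, hzx, res L hle (gres L (Twist.globalOf 𝒜 (g ⟨x, hxS⟩)) _), fun V' hV' => ?_⟩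
    have hle' : W.ι ''ᵁ V' ≤ W.ι ''ᵁ (W.ι ⁻¹ᵁ B ⟨x, hxS⟩) := W.ι.image_mono hV'
    have hb := isBasis_res (hbas ⟨x, hxS⟩) hle _ hle'
    have e : (fun r : Γ((W : Scheme.{u}), V') =>
        r • ((L.restrict W.ι).presheaf.map (homOfLE hV').op (res L hle (gres L (Twist.globalOf 𝒜 (g ⟨x, hxS⟩)) _)) :
          Γ(L.restrict W.ι, V'))) =
        fun r : Γ((W : Scheme.{u}), V') => (show Γ(L.restrict W.ι, V') from
          (show Γ(Proj 𝒜, W.ι ''ᵁ V') from r) •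
            (L.presheaf.map (homOfLE hle').op (res L hle (gres L (Twist.globalOf 𝒜 (g ⟨x, hxS⟩)) _)) :
              Γ(L, W.ι ''ᵁ V'))) :=
      funext fun r => InvBasic.restrict_smul_eq L W V' r _
    rw [e]
    exact hb
  refine ⟨d, hd, isAmple_of_affLoci hL fun z => ?_⟩
  obtain ⟨x, hxS, hzx⟩ := Set.mem_iUnion₂.mp (hS z.2)
  let σ : Γ(L.restrict W.ι, ⊤) := gres L (Twist.globalOf 𝒜 (g ⟨x, hxS⟩)) (W.ι ''ᵁ ⊤)
  have key : genOpen hL σ = W.ι ⁻¹ᵁ Proj.basicOpen 𝒜 (h x) := by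
    refine Opens.ext (Set.ext fun y => ?_)
    obtain ⟨x', hx'S, hyx'⟩ := Set.mem_iUnion₂.mp (hS y.2)
    let V' := W.ι ⁻¹ᵁ B ⟨x', hx'S⟩
    have hle : W.ι ''ᵁ V' ≤ B ⟨x', hx'S⟩ := W.ι.image_preimage_le _
    let β : Γ(L.restrict W.ι, V') := res L hle (gres L (Twist.globalOf 𝒜 (g ⟨x', hx'S⟩)) _)
    have hβ : IsBasis (L.restrict W.ι) β := fun V'' hV'' => by
      have hle' : W.ι ''ᵁ V'' ≤ W.ι ''ᵁ V' := W.ι.image_mono hV''
      have hb := isBasis_res (hbas ⟨x', hx'S⟩) hle _ hle'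
      have e : (fun r : Γ((W : Scheme.{u}), V'') =>
          r • ((L.restrict W.ι).presheaf.map (homOfLE hV'').op β : Γ(L.restrict W.ι, V''))) =
          fun r : Γ((W : Scheme.{u}), V'') => (show Γ(L.restrict W.ι, V'') from
            (show Γ(Proj 𝒜, W.ι ''ᵁ V'') from r) •
              (L.presheaf.map (homOfLE hle').op (res L hle (gres L (Twist.globalOf 𝒜 (g ⟨x', hx'S⟩)) _)) :
                Γ(L, W.ι ''ᵁ V''))) :=
        funext fun r => InvBasic.restrict_smul_eq L W V'' r _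
      rw [e]
      exact hb
    let c : Γ(Proj 𝒜, W.ι ''ᵁ V') := regFrac (W.ι ''ᵁ V') (g ⟨x, hxS⟩).1 (g ⟨x', hx'S⟩).1 (g ⟨x, hxS⟩).2
      (g ⟨x', hx'S⟩).2 fun w => hB ⟨x', hx'S⟩ ⟨w.1, hle w.2⟩
    have hc : gres (L.restrict W.ι) σ V' = (show Γ((W : Scheme.{u}), V') from c) • β := by
      refine Eq.trans ?_ (InvBasic.restrict_smul_eq L W V' c β).symm
      show res L (W.ι.image_mono le_top) (gres L _ (W.ι ''ᵁ ⊤)) = c • res L hle (gres L _ _)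
      rw [res_gres, res_gres]
      exact ProjLinear.globalOf_eq_smul 𝒜 (g ⟨x, hxS⟩) (g ⟨x', hx'S⟩) _
    have hbo := genOpen_inf_eq_basicOpen hL hβ hc
    have hmem : y ∈ ((W : Scheme.{u}).basicOpen (show Γ((W : Scheme.{u}), V') from c)) ↔
        y.1 ∈ (Proj 𝒜).basicOpen c := Scheme.Opens.mem_basicOpen_toScheme
    have hyV : y.1 ∈ W.ι ''ᵁ V' := ⟨y, hyx', rfl⟩
    have hval := mem_basicOpen_iff c hyV (rval_regFrac _ _ _ _ _ _ y.1 hyV)
    exact ⟨fun hh => (hg ⟨x, hxS⟩ y.1).mp (hval.mp (hmem.mp (hbo.le ⟨hh, hyx'⟩))),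
      fun hh => (hbo.ge (hmem.mpr (hval.mpr ((hg ⟨x, hxS⟩ y.1).mpr hh)))).1⟩
  obtain ⟨τ, hτ⟩ := exists_gen_pow_one hL σ
  refine ⟨1, Nat.one_pos, τ, hτ.ge (key.ge hzx), ?_⟩
  rw [hτ, key]
  exact (Proj.isAffineOpen_basicOpen 𝒜 (h x) (hhe x) (he x)).preimage_of_isOpenImmersion W.ι
    (by rw [Scheme.Opens.opensRange_ι]; exact hhW x)

end Groth.Agent.InvPow
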