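import Groth.Agent.InvPow.RelAmple
import Groth.Agent.InvPow.LocalIso
import Groth.Agent.InvPow.PullBasisLocal
import Groth.Agent.QCohLib.Criterion
import Mathlib.AlgebraicGeometry.ResidueField
import Mathlib.AlgebraicGeometry.Properties

/-!
# Sections from an epimorphic counit
-/

set_option autoImplicit false
set_option synthInstance.maxHeartbeats 400000
set_option maxHeartbeats 800000
universe u
open CategoryTheory CategoryTheory.Limits AlgebraicGeometry Opposite TopologicalSpace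

namespace Groth.Agent.InvPow

open InvBasic ProjUniv

variable {X Y : Scheme.{u}} {M : X.Modules}

theorem exists_gen_of_counit_epi (f : X ⟶ Y) (hM : PicF.IsInvertible M)
    (hepi : Epi ((Scheme.Modules.pullbackPushforwardAdjunction f).counit.app M)) (x : X) :
    ∃ (U : Y.Opens) (v : Γ(M, f ⁻¹ᵁ U)) (W : X.Opens) (hW : W ≤ f ⁻¹ᵁ U) (ℓ : Γ(M, W)) (c : Γ(X, W)),
      IsBasis M ℓ ∧ res M hW v = c • ℓ ∧ x ∈ X.basicOpen c := by
  obtain ⟨V, hxV, ℓ, hℓ⟩ := exists_isBasis hM x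
  by_contra hne
  let i := X.fromSpecResidueField x
  have hi : ∀ y, i y = x := fun y => Scheme.fromSpecResidueField_apply x y
  let g := (Scheme.Modules.pullbackPushforwardAdjunction i).unit.app M
  have h0 : (Scheme.Modules.pullbackPushforwardAdjunction f).counit.app M ≫ g = 0 := by
    apply ((Scheme.Modules.pullbackPushforwardAdjunction f).homEquiv _ _).injective
    rw [Adjunction.homEquiv_unit, Adjunction.homEquiv_unit, Functor.map_comp,
      Adjunction.right_triangle_components_assoc]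
    refine Scheme.Modules.hom_ext _ _ fun U => ?_
    ext v
    have hz : ∀ v : Γ(M, f ⁻¹ᵁ U), pullLoc i M v = 0 := fun v => by
      refine sections_ext ((Scheme.Modules.pullback i).obj M) (fun _ : PUnit.{u + 1} => i ⁻¹ᵁ V)
        (fun y => ⟨⟨⟩, show i y ∈ V by rw [hi y]; exact hxV⟩) fun _ => ?_
      rw [show res ((Scheme.Modules.pullback i).obj M) inf_le_left (0 : Γ((Scheme.Modules.pullback i).obj M, i ⁻¹ᵁ (f ⁻¹ᵁ U))) = 0
        from map_zero _]
      have hb := isBasis_res hℓ (inf_le_right : f ⁻¹ᵁ U ⊓ V ≤ V)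
      obtain ⟨c, hc⟩ := exists_coef hb (res M (inf_le_left : f ⁻¹ᵁ U ⊓ V ≤ f ⁻¹ᵁ U) v)
      have hc0 : i.app (f ⁻¹ᵁ U ⊓ V) c = 0 := by
        rw [← basicOpen_eq_bot_iff, ← Scheme.preimage_basicOpen]
        refine Opens.ext (Set.eq_empty_iff_forall_notMem.mpr fun y hy => ?_)
        exact hne ⟨U, v, _, inf_le_left, _, c, hb, hc, hi y ▸ hy⟩
      have e := congrArg (pullLoc i M) hc
      rw [pullLoc_smul, hc0, zero_smul, ← res_pullLoc] at e
      exact e
    exact hz v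
  have hg : g = 0 := (cancel_epi ((Scheme.Modules.pullbackPushforwardAdjunction f).counit.app M)).mp (h0.trans comp_zero.symm)
  have hb := isBasis_pullLoc i hM hℓ
  have e : pullLoc i M ℓ = 0 := ConcreteCategory.congr_hom (congrArg (fun q => Scheme.Modules.Hom.app q V) hg) ℓ
  have : Nonempty (i ⁻¹ᵁ V : (Spec (X.residueField x)).Opens) := by
    obtain ⟨y⟩ := (inferInstance : Nonempty (Spec (X.residueField x)))
    exact ⟨⟨y, show i y ∈ V by rw [hi y]; exact hxV⟩⟩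
  have hne' := (hb _ le_rfl).1 (a₁ := (1 : Γ(Spec (X.residueField x), i ⁻¹ᵁ V))) (a₂ := 0) (by
    simp only [QCohLib.map_self, e, smul_zero])
  exact one_ne_zero hne'

/-- Over an affine open of the base the module has sections without common zero. -/
theorem exists_gen_over_affine (f : X ⟶ Y) (hM : PicF.IsInvertible M)
    (hepi : Epi ((Scheme.Modules.pullbackPushforwardAdjunction f).counit.app M)) {V : Y.Opens} (hV : IsAffineOpen V)
    [CompactSpace (f ⁻¹ᵁ V)] [QuasiSeparatedSpace (f ⁻¹ᵁ V)] (x : (f ⁻¹ᵁ V : Scheme.{u})) :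
    ∃ σ : Γ((Scheme.Modules.pullback (f ⁻¹ᵁ V).ι).obj M, ⊤),
      x ∈ genOpen (ProjUniv.isInvertible_pullback (f ⁻¹ᵁ V).ι hM) σ := by
  let W := f ⁻¹ᵁ V
  let x₀ : X := x.1
  obtain ⟨U, v, A, hA, ℓ, c, hℓ, hc, hxc⟩ := exists_gen_of_counit_epi f hM hepi x₀
  have hxU : f x₀ ∈ U := hA (X.basicOpen_le c hxc)
  obtain ⟨h, hhU, hxh⟩ := hV.exists_basicOpen_le (⟨f x₀, hxU, x.2⟩ : ↥(U ⊓ V)) x.2
  have := isQuasicoherent_of_isInvertible hM
  have hle : f ⁻¹ᵁ Y.basicOpen h ≤ f ⁻¹ᵁ U := fun y hy => (hhU hy).1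
  have hDW : f ⁻¹ᵁ Y.basicOpen h ≤ W := fun y hy => Y.basicOpen_le h hy
  obtain ⟨n, w, hw⟩ := QCohLib.exists_res_eq_pow_smul_of_isCompact (M := M) (U := W)
    (isCompact_iff_compactSpace.mpr ‹_›) ((isQuasiSeparated_iff_quasiSeparatedSpace _ W.2).mpr ‹_›) (f.app V h)
    (f ⁻¹ᵁ Y.basicOpen h) hDW (Scheme.preimage_basicOpen f h) (res M hle v)
  let P := (Scheme.Modules.pullback W.ι).obj M
  let σ : Γ(P, ⊤) := res P (show ⊤ ≤ W.ι ⁻¹ᵁ W by rw [W.ι_preimage_self]) (pullLoc W.ι M w)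
  refine ⟨σ, ?_⟩
  let B := A ⊓ f ⁻¹ᵁ Y.basicOpen h
  have hBb := isBasis_pullLoc W.ι hM (isBasis_res hℓ (inf_le_left : B ≤ A))
  let hd : Γ(X, B) := resR ((inf_le_right : B ≤ _).trans hDW) (f.app V h) ^ n * resR inf_le_left c
  have e : gres P σ (W.ι ⁻¹ᵁ B) = (W.ι.app B hd : Γ((W : Scheme.{u}), W.ι ⁻¹ᵁ B)) •
      pullLoc W.ι M (res M (inf_le_left : B ≤ A) ℓ) := by
    have e2 : res M ((inf_le_right : B ≤ _).trans hDW) w = hd • res M (inf_le_left : B ≤ A) ℓ := by
      have e3 := congrArg (res M (inf_le_right : B ≤ f ⁻¹ᵁ Y.basicOpen h)) hw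
      have e4 := congrArg (res M (inf_le_left : B ≤ A)) hc
      rw [res_smul, res_res] at e4
      rw [res_res] at e3
      rw [e3, res_smul, res_res, e4, smul_smul, resR_pow]
      refine congrArg (fun q => (q ^ n * _) • _) ?_
      exact resR_resR _ _ _
    show res P _ (res P _ (pullLoc W.ι M w)) = _
    rw [res_res, ← pullLoc_smul, ← e2, ← res_pullLoc]
  have hmem := genOpen_inf_eq_basicOpen (ProjUniv.isInvertible_pullback W.ι hM) hBb e
  refine (hmem.ge ?_).1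
  rw [← Scheme.preimage_basicOpen]
  have hxB : x₀ ∈ B := ⟨X.basicOpen_le c hxc, hxh⟩
  show x₀ ∈ X.basicOpen hd
  rw [Scheme.basicOpen_mul, Scheme.basicOpen_res (f := c)]
  rcases n.eq_zero_or_pos with rfl | hn
  · rw [pow_zero, Scheme.basicOpen_of_isUnit _ isUnit_one]
    exact ⟨hxB, hxB, hxc⟩
  · rw [X.basicOpen_pow _ hn, Scheme.basicOpen_res, ← Scheme.preimage_basicOpen]
    exact ⟨⟨hxB, hxh⟩, hxB, hxc⟩

end Groth.Agent.InvPow
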