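import Groth.Agent.InvPow.VeryAmpleTwist
import Groth.Prelude.Def_LCI2

/-!
# Very ampleness over an affine base
-/

set_option autoImplicit false
set_option synthInstance.maxHeartbeats 400000
set_option maxHeartbeats 1600000
universe u
open CategoryTheory CategoryTheory.Limits AlgebraicGeometry

namespace Groth.Agent.InvPow

/-- Change of base along an isomorphism. -/
theorem exists_transfer {X S S' : Scheme.{u}} (g : S ⟶ S') [IsIso g] (f : X ⟶ S) (f' : X ⟶ S') (hf : f ≫ g = f')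
    (L : X.Modules) {n : ℕ} (i : X ⟶ CohB1.ProjSpaceOver n S) (hi : IsImmersion i)
    (hs : i ≫ pullback.snd (CohB1.ProjSpace.toSpec n (ULift.{u} ℤ)) (specULiftZIsTerminal.from S) = f)
    (e : L ≅ (Scheme.Modules.pullback i).obj (Twist.twistOver n S 1)) :
    ∃ i' : X ⟶ CohB1.ProjSpaceOver n S', IsImmersion i' ∧
      i' ≫ pullback.snd (CohB1.ProjSpace.toSpec n (ULift.{u} ℤ)) (specULiftZIsTerminal.from S') = f' ∧
      Nonempty (L ≅ (Scheme.Modules.pullback i').obj (Twist.twistOver n S' 1)) := by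
  let M : CohB1.ProjSpaceOver n S ⟶ CohB1.ProjSpaceOver n S' :=
    pullback.map (CohB1.ProjSpace.toSpec n (ULift.{u} ℤ)) (specULiftZIsTerminal.from S)
      (CohB1.ProjSpace.toSpec n (ULift.{u} ℤ)) (specULiftZIsTerminal.from S') (𝟙 _) g (𝟙 _)
      (by simp) (specULiftZIsTerminal.hom_ext _ _)
  have : IsIso M := inferInstanceAs (IsIso (pullback.map _ _ _ _ _ _ _ _ _))
  have hM : M ≫ pullback.fst (CohB1.ProjSpace.toSpec n (ULift.{u} ℤ)) (specULiftZIsTerminal.from S') =
      pullback.fst (CohB1.ProjSpace.toSpec n (ULift.{u} ℤ)) (specULiftZIsTerminal.from S) :=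
    (pullback.lift_fst _ _ _).trans (Category.comp_id _)
  refine ⟨i ≫ M, @IsImmersion.comp _ _ _ i M hi inferInstance, ?_, ⟨?_⟩⟩
  · rw [Category.assoc, show M ≫ pullback.snd _ _ = pullback.snd _ _ ≫ g from pullback.lift_snd _ _ _]
    exact (Category.assoc _ _ _).symm.trans ((congrArg (· ≫ g) hs).trans hf)
  · exact e ≪≫ (Scheme.Modules.pullback i).mapIso
      (((Scheme.Modules.pullbackCongr hM).app _).symm ≪≫
        ((Scheme.Modules.pullbackComp M _).app _).symm) ≪≫ (Scheme.Modules.pullbackComp i M).app _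

/-- Large powers of an ample sheaf times an invertible sheaf are very ample over an affine base. -/
theorem isRelVeryAmplePn_twist {X Y : Scheme.{u}} [IsAffine Y] (q : X ⟶ Y) [IsSeparated q]
    [LocallyOfFiniteType q] {L L' : X.Modules} (hL : CohB1.IsAmple L) (hL' : PicF.IsInvertible L') :
    ∃ n₀ : ℕ, ∀ n, n₀ ≤ n → RelAmple.IsRelVeryAmplePn q (CohB1.tensorMod (CohB1.tensorPow L n) L') := by
  let e : Y ⟶ Spec Γ(Y, ⊤) := Y.isoSpec.hom
  let q' : X ⟶ Spec (CommRingCat.of Γ(Y, ⊤)) := q ≫ e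
  have : IsSeparated q' := inferInstanceAs (IsSeparated (q ≫ e))
  have : LocallyOfFiniteType q' := inferInstanceAs (LocallyOfFiniteType (q ≫ e))
  obtain ⟨n₀, h⟩ := exists_bound_immersion_twist q' hL hL'
  refine ⟨n₀, fun n hn => ?_⟩
  obtain ⟨M, i, hi, hiq, ⟨τ⟩⟩ := h n hn
  exact ⟨M, exists_transfer (inv e) q' q (by simp [q']) _ i hi hiq τ⟩

end Groth.Agent.InvPow
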