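import Groth.Agent.InvPow.ExtendModule
import Groth.Agent.InvPow.Locus
import Groth.Agent.QCohLib.Criterion
import Groth.Prelude.Def_SecTwist

/-!
# Sections over a non-vanishing locus, in the `SecTwist` vocabulary
-/

set_option autoImplicit false
set_option synthInstance.maxHeartbeats 400000
set_option maxHeartbeats 800000
universe u
open CategoryTheory AlgebraicGeometry Opposite TopologicalSpace

namespace Groth.Agent.InvPow

open InvBasic ProjUniv

variable {X : Scheme.{u}} {L : X.Modules} (s : Coh.structureModule X ⟶ L) (F : X.Modules)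

/-- The section named by a morphism from the structure sheaf. -/
noncomputable def sec (U : X.Opens) : Γ(L, U) := SecTwist.val s U

theorem res_sec {U V : X.Opens} (h : V ≤ U) : res L h (sec s U) = sec s V := SecTwist.map_val s (homOfLE h)

theorem pow_eq_pw (n : ℕ) (U : X.Opens) : SecTwist.pow s n U = pw L (sec s U) n := by
  induction n with
  | zero => rfl
  | succ n ih => exact congrArg (fun q => SecTwist.tmul (CohB1.tensorPow L n) L U q (SecTwist.val s U)) ih

theorem twist_eq_tw (n : ℕ) (U : X.Opens) (m : Γ(F, U)) : SecTwist.twist s n F U m = tw F m (sec s U) n :=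
  congrArg (SecTwist.tmul F (CohB1.tensorPow L n) U m) (pow_eq_pw s n U)

theorem genLocus_eq_sec (hL : PicF.IsInvertible L) : CohB1.genLocus L s = genOpen hL (sec s ⊤) := by
  obtain ⟨σ, rfl⟩ := exists_globalHom_eq s
  rw [genLocus_globalHom hL]
  congr 1
  exact ((ProjTwist.globalHom_app L σ ⊤ (1 : Γ(X, ⊤))).trans
    ((one_smul _ _).trans (QCohLib.map_self L _ σ))).symm

/-- A global section killed on `X_s` is killed by a power of `s`. -/
theorem exists_twist_eq_zero [CompactSpace X] [F.IsQuasicoherent] (hL : PicF.IsInvertible L) (t : Γ(F, ⊤))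
    (ht : gres F t (genOpen hL (sec s ⊤)) = 0) :
    ∃ n : ℕ, 0 < n ∧ tw F t (sec s ⊤) n = 0 := by
  obtain ⟨ι, _, V, β, hVaff, hβ, hcov⟩ := exists_finite_affine_trivialisation hL
  cases nonempty_fintype ι
  choose f hf using fun i => exists_coef (hβ i) (gres L (sec s ⊤) (V i))
  have hsec : ∀ i {W : X.Opens} (h : W ≤ V i) (h' : W ≤ ⊤), res L h' (sec s ⊤) = resR h (f i) • res L h (β i) :=
    fun i W h h' => ((res_gres L (sec s ⊤) h).symm.trans (congrArg (res L h) (hf i))).trans (res_smul L h _ _)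
  have hk : ∀ i, ∃ k, f i ^ k • gres F t (V i) = 0 := fun i => by
    have hD := genOpen_inf_eq_basicOpen hL (hβ i) (hf i)
    refine QCohLib.exists_pow_smul_eq_zero (hVaff i) (f i) (genOpen hL (sec s ⊤) ⊓ V i) inf_le_right hD _ ?_
    show res F _ (gres F t (V i)) = 0
    rw [res_gres, ← res_gres _ t (inf_le_left : genOpen hL (sec s ⊤) ⊓ V i ≤ _), ht]
    exact map_zero _
  choose k hk using hk
  refine ⟨Finset.univ.sup k + 1, Nat.succ_pos _, sections_ext _ V hcov fun i => ?_⟩
  obtain ⟨q, hq⟩ : ∃ q, Finset.univ.sup k + 1 = q + k i := ⟨Finset.univ.sup k + 1 - k i, by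
    have : k i ≤ Finset.univ.sup k := Finset.le_sup (Finset.mem_univ i)
    omega⟩
  rw [show res (CohB1.tensorMod F (CohB1.tensorPow L (Finset.univ.sup k + 1))) inf_le_left 0 = 0 from map_zero _,
    res_tw, hsec i (inf_le_right : (⊤ : X.Opens) ⊓ V i ≤ V i),
    tw_smul, ← res_res F (le_top : V i ≤ ⊤) (inf_le_right : (⊤ : X.Opens) ⊓ V i ≤ V i) t, ← resR_pow, ← res_smul,
    hq, pow_add, mul_smul, hk i, smul_zero,
    show res F (inf_le_right : (⊤ : X.Opens) ⊓ V i ≤ V i) 0 = 0 from map_zero _]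
  exact ProjCoh.tmul_zero_left F _ _ _

/-- A section over `X_s` times a power of `s` extends. -/
theorem exists_twist_extend [CompactSpace X] [QuasiSeparatedSpace X] [F.IsQuasicoherent] (hL : PicF.IsInvertible L)
    (D : X.Opens) (hD : genOpen hL (sec s ⊤) = D) (v : Γ(F, D)) :
    ∃ n : ℕ, 0 < n ∧ ∃ w : Γ(CohB1.tensorMod F (CohB1.tensorPow L n), ⊤),
      gres (CohB1.tensorMod F (CohB1.tensorPow L n)) w D = tw F v (sec s D) n := by
  obtain ⟨ι, _, V, β, hVaff, hβ, hcov⟩ := exists_finite_affine_trivialisation hL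
  cases nonempty_fintype ι
  choose f hf using fun i => exists_coef (hβ i) (gres L (sec s ⊤) (V i))
  have hsec : ∀ i {W : X.Opens} (h : W ≤ V i) (h' : W ≤ ⊤), res L h' (sec s ⊤) = resR h (f i) • res L h (β i) :=
    fun i W h h' => ((res_gres L (sec s ⊤) h).symm.trans (congrArg (res L h) (hf i))).trans (res_smul L h _ _)
  have hDV : ∀ i, D ⊓ V i = X.basicOpen (f i) := fun i => hD ▸ genOpen_inf_eq_basicOpen hL (hβ i) (hf i)
  choose m x hx using fun i => QCohLib.exists_res_eq_pow_smul (M := F) (hVaff i) (f i) (D ⊓ V i) inf_le_right (hDV i)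
    (res F (inf_le_left : D ⊓ V i ≤ D) v)
  let M := Finset.univ.sup m
  obtain ⟨y, hy⟩ : ∃ y : ∀ i, Γ(F, V i), ∀ i, res F (inf_le_right : D ⊓ V i ≤ V i) (y i) =
      resR (inf_le_right : D ⊓ V i ≤ V i) (f i) ^ M • res F (inf_le_left : D ⊓ V i ≤ D) v :=
    ⟨fun i => f i ^ (M - m i) • x i, fun i => by
      rw [res_smul]
      refine (congrArg (_ • ·) (hx i)).trans ?_
      rw [resR_pow, smul_smul, ← pow_add, Nat.sub_add_cancel (show m i ≤ M from Finset.le_sup (Finset.mem_univ i))]⟩
  choose c hc using fun ij : ι × ι => exists_coef (isBasis_res (hβ ij.1) (inf_le_left : V ij.1 ⊓ V ij.2 ≤ V ij.1))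
    (res L (inf_le_right : V ij.1 ⊓ V ij.2 ≤ V ij.2) (β ij.2))
  have hfc : ∀ i j, resR (inf_le_left : V i ⊓ V j ≤ V i) (f i) =
      resR (inf_le_right : V i ⊓ V j ≤ V j) (f j) * c (i, j) := by
    intro i j
    have e1 := congrArg (res _ (inf_le_left : V i ⊓ V j ≤ V i)) (hf i)
    have e2 := congrArg (res _ (inf_le_right : V i ⊓ V j ≤ V j)) (hf j)
    rw [res_gres, res_smul] at e1 e2
    rw [hc (i, j), smul_smul] at e2
    exact coef_unique (isBasis_res (hβ i) _) (e1.symm.trans e2)
  have hov : ∀ ij : ι × ι, ∃ k : ℕ, resR (inf_le_left : V ij.1 ⊓ V ij.2 ≤ V ij.1) (f ij.1) ^ k •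
      (res F (inf_le_left : V ij.1 ⊓ V ij.2 ≤ V ij.1) (y ij.1) -
        c ij ^ M • res F (inf_le_right : V ij.1 ⊓ V ij.2 ≤ V ij.2) (y ij.2)) = 0 := by
    rintro ⟨i, j⟩
    dsimp only
    have hO : D ⊓ (V i ⊓ V j) = X.basicOpen (resR (inf_le_left : V i ⊓ V j ≤ V i) (f i)) := by
      rw [Scheme.basicOpen_res, ← hDV i]
      ac_nf
      first | (simp only [← inf_assoc, inf_idem, inf_comm, inf_left_comm]; done) | skip
    have hcpt : IsCompact ((V i ⊓ V j : X.Opens) : Set X) :=
      isQuasiSeparated_univ (V i : Set X) (V j : Set X) (Set.subset_univ _) (V i).2 (hVaff i).isCompact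
        (Set.subset_univ _) (V j).2 (hVaff j).isCompact
    refine QCohLib.exists_pow_smul_eq_zero_of_isCompact hcpt _ (D ⊓ (V i ⊓ V j)) inf_le_right hO _ ?_
    show res F _ (_ - _) = 0
    rw [show ∀ p q : Γ(F, V i ⊓ V j), res F (inf_le_right : D ⊓ (V i ⊓ V j) ≤ V i ⊓ V j) (p - q) =
      res F inf_le_right p - res F inf_le_right q from fun p q => map_sub _ p q, res_smul, res_res, res_res, sub_eq_zero]
    have hi : D ⊓ (V i ⊓ V j) ≤ D ⊓ V i := inf_le_inf_left _ inf_le_left
    have hj : D ⊓ (V i ⊓ V j) ≤ D ⊓ V j := inf_le_inf_left _ inf_le_right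
    have e1 := congrArg (res F hi) (hy i)
    have e2 := congrArg (res F hj) (hy j)
    rw [res_res, res_smul, res_res, resR_pow, resR_resR] at e1 e2
    have e4 := congrArg (resR (inf_le_right : D ⊓ (V i ⊓ V j) ≤ V i ⊓ V j)) (hfc i j)
    rw [resR_mul, resR_resR, resR_resR] at e4
    rw [e1, e2, resR_pow, e4, smul_smul, mul_pow]
    refine congrArg (· • _) ?_
    ring
  choose k hk using hov
  let K := Finset.univ.sup k
  let n := M + (K + 1)
  obtain ⟨w, hw⟩ := exists_glue_sections (CohB1.tensorMod F (CohB1.tensorPow L n)) V hcov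
    (fun i => tw F (f i ^ (K + 1) • y i) (β i) n) fun i j => by
      show res _ _ (tw F _ _ _) = res _ _ (tw F _ _ _)
      rw [res_tw, res_tw, hc (i, j), tw_smul, res_smul, res_smul, resR_pow, resR_pow, smul_smul]
      refine congrArg (fun q => tw F q _ _) ?_
      obtain ⟨q, hq⟩ : ∃ q, K + 1 = q + k (i, j) := ⟨K + 1 - k (i, j), by
        have : k (i, j) ≤ K := Finset.le_sup (Finset.mem_univ _)
        omega⟩
      have h0 := congrArg (resR (inf_le_left : V i ⊓ V j ≤ V i) (f i) ^ q • ·) (hk (i, j))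
      dsimp only at h0
      rw [smul_zero, smul_smul, ← pow_add, smul_sub, sub_eq_zero, smul_smul, ← hq] at h0
      rw [h0]
      refine congrArg (· • _) ?_
      rw [hfc i j, mul_pow, pow_add]
      ring
  refine ⟨n, by omega, w, sections_ext (CohB1.tensorMod F (CohB1.tensorPow L n)) V hcov fun i => ?_⟩
  rw [res_gres, ← res_gres _ w (inf_le_right : D ⊓ V i ≤ V i), hw i, res_tw, res_tw, res_smul, resR_pow, hy i,
    smul_smul, ← pow_add, res_sec, ← res_sec s (le_top : D ⊓ V i ≤ ⊤),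
    hsec i (inf_le_right : D ⊓ V i ≤ V i), tw_smul]
  refine congrArg (fun q => tw F (q • _) _ _) ?_
  rw [add_comm]

end Groth.Agent.InvPow
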